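import Cfsg.Agent.H9.E4.R0
import Cfsg.Agent.H5.U.Bridge
import Cfsg.Agent.H7.AschFF

/-! The action of `SU₄(2)` on the `E₆` lattice modulo two. -/

set_option autoImplicit false
set_option linter.unusedSimpArgs false
set_option linter.unusedSectionVars false
set_option linter.unusedVariables false

namespace Cfsg.Agent.H4.E4U

open Matrix Cfsg.Agent.H9.E4 Cfsg.Agent.H7 Cfsg.Agent.H5.U
open scoped MatrixGroups

/-- reflections of the root lattice -/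
def rf (n l : Fin 6 → ℤ) : Fin 6 → ℤ := l - (n ⬝ᵥ C6 *ᵥ l) • n

abbrev M4 := Matrix (Fin 4) (Fin 4) F4

theorem two4 : (2 : F4) = 0 := by decide

theorem sq4 : ∀ x : F4, x ^ 2 = star x := by decide

instance nstar4 : NStar F4 := ⟨by decide⟩

/-- the Klein correspondence -/
def J (p : Fin 3 → F4) : M4 :=
  !![0, p 0, p 1, p 2; p 0, 0, star (p 2), star (p 1); p 1, star (p 2), 0, star (p 0);
    p 2, star (p 1), star (p 0), 0]

theorem J_add (p r : Fin 3 → F4) : J (p + r) = J p + J r := by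
  ext i j : 1; fin_cases i <;> fin_cases j <;> simp [J]

/-- `J` as an additive map -/
def JH : (Fin 3 → F4) →+ M4 := AddMonoidHom.mk' J J_add

theorem J_T (p : Fin 3 → F4) : (J p)ᵀ = J p := by
  ext i j : 1; fin_cases i <;> fin_cases j <;> rfl

theorem J_H (p : Fin 3 → F4) : (J p)ᴴ = J (star p) := by
  ext i j : 1; fin_cases i <;> fin_cases j <;> simp [J]

theorem J_sq : ∀ p : Fin 3 → F4, J p * J (star p) = (p ⬝ᵥ star p) • 1 := by decide +kernel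

theorem J_det : ∀ p : Fin 3 → F4, p ⬝ᵥ star p = 1 → (J p).det = 1 := by
  simp only [det_succ_row_zero (n := 3), det_fin_three]
  decide +kernel

theorem J_pol (p r : Fin 3 → F4) :
    J p * J (star r) + J r * J (star p) = (p ⬝ᵥ star r + r ⬝ᵥ star p) • 1 := by
  have := J_sq (p + r)
  rw [star_add, J_add, J_add, add_mul, mul_add, mul_add, J_sq, J_sq] at this
  simp only [add_dotProduct, dotProduct_add, add_smul] at this ⊢
  linear_combination (norm := abel_nf) this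

theorem st_dot (p r : Fin 3 → F4) : star (p ⬝ᵥ star r) = r ⬝ᵥ star p := by
  simp [dotProduct, mul_comm]

theorem J_refl {p : Fin 3 → F4} (hp : p ⬝ᵥ star p = 1) (r : Fin 3 → F4) :
    J p * J (star r) * J p = J (r - (p ⬝ᵥ star r + r ⬝ᵥ star p) • p) := by
  have h1 := J_sq (star p)
  rw [star_star, dotProduct_comm, hp, one_smul] at h1
  rw [eq_sub_of_add_eq (J_pol p r), sub_mul, mul_assoc, h1, ← st_dot p r]
  generalize p ⬝ᵥ star r = c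
  have h3 : star (c + star c) = c + star c := by simp [add_comm]
  generalize c + star c = d at h3
  have h4 : ∀ x y : F4, x - y = y - x := by decide
  ext i j : 1; fin_cases i <;> fin_cases j <;> simp [J, h3, h4 _ (d * _)]

/-- the root lattice modulo two -/
def x2 (y : Fin 6 → ZMod 2) : Fin 3 → F4 := ![⟨y 2, y 5⟩, ⟨y 2 + y 4, y 3⟩, ⟨y 0 + y 2, y 1⟩]

/-- the root lattice modulo two -/
def xx : (Fin 6 → ℤ) →+ (Fin 3 → F4) := AddMonoidHom.mk' (fun l => x2 fun i => l i) fun a b => by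
  ext i <;> fin_cases i <;> simp [x2] <;> ring

theorem x2_b : ∀ y z : Fin 6 → ZMod 2, x2 y ⬝ᵥ star (x2 z) + x2 z ⬝ᵥ star (x2 y) =
    ⟨y 0 * z 1 + y 1 * (z 0 + z 2) + y 2 * (z 1 + z 3 + z 5) + y 3 * (z 2 + z 4) + y 4 * z 3 + y 5 * z 2, 0⟩ := by
  intro y z
  have h2 : (2 : ZMod 2) = 0 := rfl
  ext <;> simp [x2, dotProduct, Fin.sum_univ_three] <;> ring_nf <;> reduce_mod_char

theorem x2_q : ∀ y : Fin 6 → ZMod 2, x2 y ⬝ᵥ star (x2 y) =
    ⟨y 0 * y 0 + y 1 * y 1 + y 2 * y 2 + y 3 * y 3 + y 4 * y 4 + y 5 * y 5 - y 0 * y 1 - y 1 * y 2 -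
      y 2 * y 3 - y 3 * y 4 - y 2 * y 5, 0⟩ := by decide +kernel

theorem xx_b (n l : Fin 6 → ℤ) : xx n ⬝ᵥ star (xx l) + xx l ⬝ᵥ star (xx n) = (n ⬝ᵥ C6 *ᵥ l : ℤ) := by
  refine (x2_b _ _).trans ?_
  ext
  · change _ = ((n ⬝ᵥ C6 *ᵥ l : ℤ) : ZMod 2)
    simp [C6, dotProduct, mulVec, Fin.sum_univ_six]; ring_nf; reduce_mod_char
  · simp

theorem xx_q {n : Fin 6 → ℤ} (h : n ⬝ᵥ C6 *ᵥ n = 2) : xx n ⬝ᵥ star (xx n) = 1 := by
  refine (x2_q _).trans ?_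
  have : n 0 * n 0 + n 1 * n 1 + n 2 * n 2 + n 3 * n 3 + n 4 * n 4 + n 5 * n 5 - n 0 * n 1 - n 1 * n 2 -
      n 2 * n 3 - n 3 * n 4 - n 2 * n 5 = 1 := by
    simp [C6, dotProduct, mulVec, Fin.sum_univ_six] at h; linarith
  ext
  · exact_mod_cast congrArg (Int.cast : ℤ → ZMod 2) this
  · rfl

theorem xx_rf (n l : Fin 6 → ℤ) :
    xx (rf n l) = xx l - (xx n ⬝ᵥ star (xx l) + xx l ⬝ᵥ star (xx n)) • xx n := by
  rw [rf, map_sub, map_zsmul, xx_b, Int.cast_smul_eq_zsmul]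

/-- the positive roots -/
def rts : List (Fin 6 → ℤ) := [![0, 0, 0, 0, 0, 1], ![0, 0, 0, 0, 1, 0], ![0, 0, 0, 1, 0, 0], ![0, 0, 0, 1, 1, 0], ![0, 0, 1, 0, 0, 0], ![0, 0, 1, 0, 0, 1], ![0, 0, 1, 1, 0, 0], ![0, 0, 1, 1, 0, 1], ![0, 0, 1, 1, 1, 0], ![0, 0, 1, 1, 1, 1], ![0, 1, 0, 0, 0, 0], ![0, 1, 1, 0, 0, 0], ![0, 1, 1, 0, 0, 1], ![0, 1, 1, 1, 0, 0], ![0, 1, 1, 1, 0, 1], ![0, 1, 1, 1, 1, 0], ![0, 1, 1, 1, 1, 1], ![0, 1, 2, 1, 0, 1], ![0, 1, 2, 1, 1, 1], ![0, 1, 2, 2, 1, 1], ![1, 0, 0, 0, 0, 0], ![1, 1, 0, 0, 0, 0], ![1, 1, 1, 0, 0, 0], ![1, 1, 1, 0, 0, 1], ![1, 1, 1, 1, 0, 0], ![1, 1, 1, 1, 0, 1], ![1, 1, 1, 1, 1, 0], ![1, 1, 1, 1, 1, 1], ![1, 1, 2, 1, 0, 1], ![1, 1, 2, 1, 1, 1], ![1, 1, 2, 2, 1, 1], ![1, 2, 2, 1, 0, 1], ![1, 2, 2, 1, 1, 1], ![1, 2, 2, 2, 1, 1], ![1, 2, 3, 2, 1, 1], ![1, 2, 3, 2, 1, 2]]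

theorem exists_root : ∀ p : Fin 3 → F4, p ⬝ᵥ star p = 1 → ∃ n ∈ rts, n ⬝ᵥ C6 *ᵥ n = 2 ∧ xx n = p := by
  decide +kernel

theorem mem_SU {m : SL(4, F4)} : m ∈ SU 4 F4 2 ↔ m.1ᴴ * m.1 = 1 := by
  have e : ∀ u v, hermForm 4 F4 2 u v = star v ⬝ᵥ u := fun u v => by
    simp [hermForm, dotProduct, sq4, mul_comm]
  change (∀ u v, hermForm 4 F4 2 (m.1 *ᵥ u) (m.1 *ᵥ v) = hermForm 4 F4 2 u v) ↔ _
  simp only [e, star_mulVec, ← dotProduct_mulVec, mulVec_mulVec]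
  refine ⟨fun h => ?_, fun h => by simp [h]⟩
  ext i j : 1
  simpa [one_apply, Pi.single_apply, eq_comm] using h (Pi.single j 1) (Pi.single i 1)

/-- products of two reflections -/
def mm (p r : Fin 3 → F4) (hp : p ⬝ᵥ star p = 1) (hr : r ⬝ᵥ star r = 1) : SU 4 F4 2 :=
  ⟨⟨J p * J (star r), by
      rw [det_mul, J_det p hp, J_det _ (by rw [star_star, dotProduct_comm, hr]), mul_one]⟩, by
    have h1 := J_sq (star p)
    rw [star_star, dotProduct_comm, hp, one_smul] at h1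
    refine mem_SU.2 ?_
    change (_ * _)ᴴ * (_ * _) = _
    rw [conjTranspose_mul, J_H, J_H, star_star, mul_assoc, ← mul_assoc (J (star p)), h1, one_mul, J_sq,
      hr, one_smul]⟩

/-- decoding -/
def c4 (n : ℕ) : F4 := ⟨n, (n / 2 : ℕ)⟩

/-- decoding -/
def v3 (n : ℕ) : Fin 3 → F4 := ![c4 n, c4 (n / 4), c4 (n / 16)]

/-- decoding -/
def v4 (n : ℕ) : Fin 4 → F4 := ![c4 n, c4 (n / 4), c4 (n / 16), c4 (n / 64)]

/-- transvections as products of four reflections -/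
def tb : List (ℕ × ℕ × ℕ × ℕ × ℕ) := [(85, 16, 4, 1, 21), (245, 16, 4, 2, 22), (165, 16, 4, 3, 23), (221, 16, 8, 1, 25), (189, 16, 8, 2, 26), (109, 16, 8, 3, 27), (153, 16, 12, 1, 29), (121, 16, 12, 2, 30), (233, 16, 12, 3, 31), (20, 16, 21, 26, 31), (65, 16, 21, 30, 27), (193, 16, 25, 22, 31), (36, 16, 25, 30, 23), (52, 16, 29, 22, 27), (129, 16, 29, 26, 23), (125, 32, 4, 1, 37), (237, 32, 4, 2, 38), (157, 32, 4, 3, 39), (249, 32, 8, 1, 41), (169, 32, 8, 2, 42), (89, 32, 8, 3, 43), (181, 32, 12, 1, 45), (101, 32, 12, 2, 46), (213, 32, 12, 3, 47), (105, 48, 4, 1, 53), (217, 48, 4, 2, 54), (185, 48, 4, 3, 55), (229, 48, 8, 1, 57), (149, 48, 8, 2, 58), (117, 48, 8, 3, 59), (173, 48, 12, 1, 61), (93, 48, 12, 2, 62), (253, 48, 12, 3, 63), (68, 4, 21, 38, 55), (17, 4, 21, 54, 39), (49, 4, 37, 22, 55), (132, 4, 37, 54, 23), (196, 4, 53, 22, 39), (33, 4, 53, 38, 23), (80, 1,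 21, 41, 61), (5, 1, 21, 57, 45), (13, 1, 37, 25, 61), (144, 1, 37, 57, 29), (208, 1, 53, 25, 45), (9, 1, 53, 41, 29)]

theorem tb1 : ∀ t ∈ tb, v3 t.2.1 ⬝ᵥ star (v3 t.2.1) = 1 ∧ v3 t.2.2.1 ⬝ᵥ star (v3 t.2.2.1) = 1 ∧
    v3 t.2.2.2.1 ⬝ᵥ star (v3 t.2.2.2.1) = 1 ∧ v3 t.2.2.2.2 ⬝ᵥ star (v3 t.2.2.2.2) = 1 ∧
    J (v3 t.2.1) * J (star (v3 t.2.2.1)) * (J (v3 t.2.2.2.1) * J (star (v3 t.2.2.2.2))) =
      1 + vecMulVec (v4 t.1) (star (v4 t.1)) := by decide +kernel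

theorem tb2 : ∀ u : Fin 4 → F4, u ⬝ᵥ star u = 0 → u = 0 ∨ ∃ t ∈ tb, ∃ c : F4, c * star c = 1 ∧
    u = c • v4 t.1 := by decide +kernel

theorem gen (M : Subgroup (SU 4 F4 2)) (hM : ∀ p r hp hr, mm p r hp hr ∈ M) : M = ⊤ := by
  let φ : SU 4 F4 2 →* _ := H6.gl0.toMonoidHom.comp
    (Matrix.SpecialLinearGroup.toGL.comp (SU 4 F4 2).subtype)
  have inj : Function.Injective φ := H6.gl0.injective.comp
    (Matrix.SpecialLinearGroup.toGL_injective.comp Subtype.val_injective)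
  have : (stdHF (Fin 4) F4).SU ≤ M.map φ := by
    rw [← HF.SUW_top]
    refine HF.SUW_le_of_XIn HF.ndOn_top (by simp) fun u _ hu => ?_
    rcases tb2 u hu with rfl | ⟨t, ht, d, hd, rfl⟩
    · exact HF.xIn_zero
    have hu' : stdHF (Fin 4) F4 (v4 t.1) (v4 t.1) = 0 := by
      simpa [ne_zero_of_norm_one hd] using hu
    refine HF.XIn.smul hu' (fun c hc => ?_) d
    rcases (by decide : ∀ c : F4, c + star c = 0 → c = 0 ∨ c = 1) c hc with rfl | rfl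
    · rw [HF.T_zero]; exact one_mem _
    obtain ⟨h1, h2, h3, h4, e⟩ := tb1 t ht
    refine ⟨_, mul_mem (hM _ _ h1 h2) (hM _ _ h3 h4), LinearEquiv.ext fun x => ?_⟩
    change (_ * _ * (_ * _)) *ᵥ x = _
    rw [e, HF.T_apply hu' hc, add_mulVec, one_mulVec, vecMulVec_mulVec, one_mul, dotProduct_comm,
      op_smul_eq_smul]
    rfl
  refine eq_top_iff.2 fun g _ => (Subgroup.mem_map_iff_mem inj).1 (this ⟨fun u v => ?_,
    (H6.glEquiv_mem_SLV _ _).2 (Units.ext g.1.2)⟩)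
  have := g.2 u v
  simp only [hermForm, sq4] at this
  exact this

/-- the relation -/
def Rl (m : SU 4 F4 2) (σ : (Fin 6 → ℤ) → Fin 6 → ℤ) : Prop :=
  ∀ l, m.1.1 * J (xx l) * m.1.1ᵀ = J (xx (σ l))

theorem rl_mm {n n' : Fin 6 → ℤ} (h : n ⬝ᵥ C6 *ᵥ n = 2) (h' : n' ⬝ᵥ C6 *ᵥ n' = 2) :
    Rl (mm _ _ (xx_q h) (xx_q h')) (rf n ∘ rf n') := fun l => by
  have h1 := J_refl (p := star (xx n')) (by rw [star_star, dotProduct_comm, xx_q h']) (star (xx l))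
  change _ * _ * _ * (_ * _)ᵀ = J (xx (rf n (rf n' l)))
  rw [xx_rf, ← J_refl (xx_q h), xx_rf n', transpose_mul, J_T, J_T, star_sub, star_smul, star_add,
    st_dot, st_dot]
  rw [star_star, star_star] at h1
  simp only [dotProduct_comm (star _)] at h1 ⊢
  rw [← h1]
  simp only [mul_assoc]

theorem comm {m : M4} (hu : mᴴ * m = 1)
    (h : ∀ i, m * J (xx (Pi.single i 1)) * mᵀ = J (xx (Pi.single i 1))) (n n' : Fin 6 → ℤ) :
    J (xx n) * J (star (xx n')) * m = m * (J (xx n) * J (star (xx n'))) := by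
  have h1 : ∀ l, m * J (xx l) * mᵀ = J (xx l) := fun l => by
    refine DFunLike.congr_fun (AddMonoidHom.functions_ext _ ((AddMonoidHom.mulRight mᵀ).comp
      ((AddMonoidHom.mulLeft m).comp (JH.comp xx))) (JH.comp xx) fun i c => ?_) l
    rw [show Pi.single i c = c • (Pi.single i 1 : Fin 6 → ℤ) by
      rw [← Pi.single_smul, smul_eq_mul, mul_one], map_zsmul, map_zsmul]
    exact congrArg _ (h i)
  have hu' := congrArg transpose hu
  have h2 := congrArg conjTranspose (h1 n')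
  rw [transpose_mul, transpose_one] at hu'
  rw [conjTranspose_mul, conjTranspose_mul, J_H] at h2
  conv_lhs => rw [← h2, ← h1 n]
  rw [show m * J (xx n) * mᵀ * (mᵀᴴ * (J (star (xx n')) * mᴴ)) * m =
    m * J (xx n) * (mᵀ * mᴴᵀ) * J (star (xx n')) * (mᴴ * m) by simp only [mul_assoc]; rfl, hu, hu']
  simp only [mul_assoc, mul_one]

theorem e6_cert : ∃ Rl : SU 4 F4 2 → ((Fin 6 → ℤ) → (Fin 6 → ℤ)) → Prop, Rl 1 id ∧
    (∀ m m' σ σ', Rl m σ → Rl m' σ' → Rl (m * m') (σ ∘ σ')) ∧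
    (∀ n n', n ⬝ᵥ C6 *ᵥ n = 2 → n' ⬝ᵥ C6 *ᵥ n' = 2 → ∃ m, Rl m (rf n ∘ rf n')) ∧
    (∀ m σ, Rl m σ → (∀ i, σ (Pi.single i 1) = Pi.single i 1 ∨ σ (Pi.single i 1) = -Pi.single i 1) →
      m ∈ Subgroup.center _) ∧
    (∀ M : Subgroup (SU 4 F4 2), (∀ n n' m, n ⬝ᵥ C6 *ᵥ n = 2 → n' ⬝ᵥ C6 *ᵥ n' = 2 →
      Rl m (rf n ∘ rf n') → m ∈ M) → M = ⊤) ∧ Nontrivial (PSU 4 F4 2) := by
  refine ⟨Rl, fun l => by simp, fun m m' σ σ' h h' l => ?_, fun n n' h h' => ⟨_, rl_mm h h'⟩,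
    fun m σ h k => ?_, fun M hM => gen M fun p r hp hr => ?_, ?_⟩
  · change (_ * _) * _ * (_ * _)ᵀ = J (xx (σ (σ' l)))
    rw [← h, ← h', transpose_mul]
    simp only [mul_assoc]
  · have := gen (Subgroup.centralizer {m}) fun p r hp hr => by
      obtain ⟨n, -, -, rfl⟩ := exists_root p hp
      obtain ⟨n', -, -, rfl⟩ := exists_root r hr
      exact Subgroup.mem_centralizer_singleton_iff.2 (Subtype.ext (Subtype.ext
        (comm (mem_SU.1 m.2) (fun i => (h _).trans (by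
          rcases k i with e | e <;> rw [e]
          exact congrArg J ((map_neg xx _).trans
            (funext fun j => (by decide : ∀ x : F4, -x = x) _)))) n n')))
    exact Subgroup.mem_center_iff.2 fun g =>
      Subgroup.mem_centralizer_singleton_iff.1 (this ▸ Subgroup.mem_top g)
  · obtain ⟨n, -, h, rfl⟩ := exists_root p hp
    obtain ⟨n', -, h', rfl⟩ := exists_root r hr
    exact hM n n' _ h h' (rl_mm h h')
  · refine ⟨⟨(mm (v3 1) (v3 2) (by decide) (by decide) : SU 4 F4 2), 1, fun e => ?_⟩⟩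
    exact absurd (congrArg (·.1.1) (Subgroup.mem_center_iff.1 ((QuotientGroup.eq_one_iff _).1 e)
      (mm (v3 1) (v3 21) (by decide) (by decide)))) (by decide +kernel)

end Cfsg.Agent.H4.E4U
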