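import Cfsg.Agent.H4.FiJ
import Cfsg.Agent.Orth.Bridge

/-! The subgroup `Ω₇(3)` of `Fi₂₂`. -/

set_option autoImplicit false
set_option maxRecDepth 100000

namespace Cfsg.Agent.H4.Fi

open Cfsg.Agent.H4.Bit Cfsg.Agent.H4.TC Cfsg.Agent.Orth

def VT : ℕ := 0x1ab33945024747158800000000000000000000000000000000000000000000000000000000000000000000000000000000000000000000000000000000000000000000000000000000000000000000000000000000000000000000000000000000000000000000000000000000000000000000000000000000000000000000000000000000000000000000000000000000000000000000000000000000000000000000000000000000000000000000000000000000000000000000000000000000000000000000000000000000000000000000000000000000000000000000000000000000000000000000000000000000000000000000000000000000061b82e00029618008462f00015e83d7920ed1f23c815627354e4ec0000000000000000000000000000000000000000000000000000000000000000000000000000000000000000000000000000000000000000000000000000000000000000000000000000000000000000000000000000000000000000000000000000000000000000000000000000000000000000000000000000000000000000000000000000000000000000000000000000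000000000000000000000000000000000000000000000000000000000000000000000000000000000000000000000000000000000000000000000000000000000000000000000000000000000000000c94c800000067c2580963423790000005641a759b6853270001651f571837067837e4a86c60fd0000000000000000000000000000000000000000000000000000000000000000000000000000000000000000000000000000000000000000000000000000000000000000000000000000000000000000000000000000000000000000000000000000000000000000000000000000000000000000000000000000000000000000000000000000000000000000000000000000000000000000000000000000000000000000000000000000000000000000000000000000000000000000000000000000000000006387a113b4160000003900005217f919374a3247673bf62700008d45b6c331b00065785a5466303687b62a00000000000000000000000000000000000000000000000000000000000000000000000000000000000000000000000000000000000000000000000000000000000000000000000000000000000000000000000000000000000000000000000000000000000000000000000000000000000000000000000000000000000000000000000000000000000000000000000000000000000000000000000000000000000000000000000000000000003e800012031e6d34ff81000070f4372634cb0005921c742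f25b00007280b5976810003b57b93ef6254a48715d360132e0000000000000000000000000000000000000000000000000000000000000000000000000000000000000000000000000000000000000000000000000000000000000000000000000000000000000000000000000000000000000000000000000000000000000000000000000000000000000000000000000000000000000000000000000000000000000000000000008760005190006e77c05a27760003ec2c60005fc4db0003f07be5a677a00078b2cb7a71410004482c78726744538205d05fe3603501370e03594df00000000000000000000000000000000000000000000000000000000000000000000000000000000000000000000000000000000000000000000000000000000000000000000000000000000000000000000000000000000000000000000000000000000000000000000000000000000000000000000077e51400035114900058e4b86d650200020046672e0794210001335f37830001f946809e8391233eb83134f3b13a113a2b64d84785f80000000000000000000000000000000000000000000000000000000000000000000000000000000000000000000000000000000000000000000000000000000000000000000000000000000000000000000000000000000006651d30002bb0bb23c00014e7c44e11a03a900066e38b4d37ab35a07a1a41b73f66022b72654d57012817af000000000000000000000000000000000000000000000000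00000000000000000000000000000000000000000000000000000000000000000000000000000000000000000008244f00070271f0b23951fc5f642866d82c7ee11947d2c56081367007523985ef11e00000000000000000000000000000000000000000000000000000000000000000000000000000000000000000000000000000082d58d7960aa09486e55d6fa7b12d14222aa28232f0c44d95f011b5ec34700000000000000000000000000000000000000000000000000000000000000000000000000079758c09563c2ab4b40c511c5ed1d26fb86f0df7b22803462d200000000000000000000000000000000000000000000000000000044e0833942f67ed16b6077513975155f571e47942711f00000000000000000000000000000000000000000038c6644e22301b88522664d60bc3583aa14f7ae00000000000000000000000000000009d14877f72d3d66453a08821394b75f91ff0000000000000000000000005828217254de3084972765ff3f35517c10000000000000006dc2ac3ee85f5051788864801266d900000000000024b1e270813e41984827e7a419d0000000007861035202b04ce06723d4848220000005934ef7730ae7103a514a3e900081a55e78a2670b75fb3180000a54b02f569005675686a7204d21345cd7b36c03211ef000000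
def IT : ℕ := 0x22e04000000000006309e12600000000054400000000000000024700000000022c2ab0000b60e900000000000a0000000000000001bb0000000001c504300000000000034034500000000022a00000007c00000000009111e0000000000000332be0000000002b81c20e40000000004940000000001b90510000000000000000001b600000049c0ee11c00000000000000000000000000002405522900000000000f0bc0180000000000000000000000000002c10611ca0003de2b40000000000000000002ac0000000000000001191af09200002534e00000000000000000003f00000054211b09a00000000000000000004e00000015d0000002380000000000000000000000000001b723e0000442ae0002c701a00000000000000000000000000000016a03400004c2420002373540000000002af00000033c0000000050b40e60001560750000661620000000002310000000310000003560000000000000000000000000000c10ec00000000049300000000000000000023301600000000002c0000001be0000000000681d100000000023500000000024004d00001f0e800000000001700000000000000000034a48d00000000033f00000000002a34f00000000024500000000b0000000001140970001d009500000000034c0000000000000005410c00ed0000000000002ba0210000000000000000001cb0000000000000000561c406700000000000000000023605424100000000000912309300000000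00003e83e20000000000000000002b301d2bf0000000000000000000360000000000000001241581150000000003ea0b70e700000000000000000000000000000000000000000000002000000024300000048c05322100016907f00023a0460001c803d0000421c90002c22c30000000000000000000000000000000000003dd0000003440000000040000002bc0000000280000003f415907a0001b00df0000081630000000000000000000000000000000000001ce0000000001b522500000000016100000000007822200000000000d0000000000b20db0000000000003e13e70000000002b20000000003ed3f10000000003e000000000022b33d00000000022616511d0000000005450000000001720800000000003ee0000000002a80e100000000034100000000000000000000000001c0641b30000000000000000000651670770000000000000000000be09611300035734900000000000000000033e4974900000000000000000003482b02ad0000000000000000001b400000049d16408100000000000000000035109c1210000000000000000003df11709800000000000015c2a900004f22700023b0130000601ae00011f0940001bf0520000de1120000b90dc00000e09b0000000003430000002c400000001200000034b0000003e60000000030000002aa000000228000000006000000000000000000000000000000000000000000000000000000000000000000000000000000000093123000000000009000000000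0000002360000000002410540000000000003e23e80000000002b30000000000212ba0000000001cb0ed0c00000000005410000000000000000560000000000671c40000000001240000000001151580000000000002bf01d0000000000360e70b70000000003ea0000000000000000170e801f00000000000000000000000000023504d24000048d34a00000000000000000033f01623300000000000000000002c0000004930ec0c10000000000000000000000000001be1d106800000000000000000000b09711400034f02a00000000000000000024500000034c0951d00000000000000000000000000000000000000001c904200003d1c80002c32c20000000003440000003dd00000000400000024300000002000000048c00000000000000000000000000007f16900022105300004623a0000df1b000007a1590001630080000000000280000002bc0000003f40000000000000000000000000000000002c10000000001ca0610000180bc00000000000f0000000000000000002b43de0000000002ac11c0ee00000000049c0000000000000000000511b90000000001b600000002400000000022905500000000000034e02500000000003f0000001190000000000921af00009a11b0000000005420000000000000000000000001bb0431c500000000000a0e90b600000000000034534000000000000000000022a00000054412609e00000000000004022e0000000000000000000630000000000000002472ab22c0002be0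330000000000000000002b800000000000000007c11e0910000000004940e41c200000000000024204c00003416a00035423700000000000000000000000000000000000033c0000002af00000000500000000000000000000000000000000015d00000004e0000002382ae04400023e1b700001a2c70000000000310000002310000003560751560000e60b400016206600000000000000000000000000000000000000049049700000000034800000000034935700000000033e0000000002ad2b00000000001b400000006500000000007716700000000001c0000000001b30640000000000be00000000011309600012109c00000000035100000000008116400000000049d0000000000981170000000003df0000000003f13ed0000000000000000003e03e73e10000000000000000002b233d22b0000000000000000002260000000000000001612220780000000000000000001ce2251b500000000000000000000d0db0b20000000003ee08017200000000000000000054511d1650000000000000000003410e12a80000000000000000003e600000034b0000000030000002c40000003430000000120000002280000002aa00000000609411f0001ae0600000521bf00022704f0002a915c00001323b0000dc0b90001120de00009b00e0000000000000000000000000000000000000000000000000000000000000000000000000000000000000000000990000000000b10e500000000000004123200000000022d23d11800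00000003e400000000000000016f00000000015b1b100000000000034d0290000000000450bd0e300000000049900000000000000033b00000000016b07600000000000049a49500000000048f0691cd00000000001b0000000000000000000000000e21570b30000322b900000000000000000005000000048e15e07d00000000000000000000000000001507b15a0002bd0370000000000000000002b70000003f00b817100000000000000000000000000015f0381680005465430000000000000000003e900000002616d0300000000000000dd0ba00011109000007e11a0000000001b800000003e0000002c50000000000000000000000000001162240000621b20001c00070000000000350000002300000003550000000000000000000000000001c605f00002b1200003dc1bc0000000003e30000004910000000020000000000000000000000000000000000000372bd0000000002b700000001500000000015a07b0001710b80000000003f00000000000000000002b90320000000000500000000e20000000000b315700007d15e00000000048e0000000000000000005435460000000003e900000015f00000000016803800003016d00000000002600000000002934d00000000000000000004500000000000000016f1b115b0000000004990e30bd00000000000023204100000000000000000022d0000000000000000990e50b10000000003e411823d00000000000049549a00000000000000000048f000000000000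00033b07616b00000000001b1cd0690000000000000000002300000000350000003551b20620002241160000071c000000000000000000000000000000000000003e0000001b80000002c50901110000ba0dd00011a07e0000000000000000000000000000000000004910000003e300000000212002b00005f1c60001bc3dc0000000000000000000000000000001c316000000000049200000000012709d0000000004980000000002230b50000000002b50000000000ea0bf0000000003ef00000000006a1ba0000000003f50000000000bb0e000000000034600000000007916e00000000001400000000002712200000000001e0000000000eb00c0000000000100000000000000003f51ba06a0000000000000000003ef0bf0ea0000000000000000003460e00bb00000000000000000049809d1270000000000000000004921601c30000000000000000002b50b522300000000000000000001e12202700000000000000000001416e07900000000000000000001000c0eb000000000000000000000000000000000000000000000000000000000000000000000000000000000000000000000000000000000000000000000000000000000000000000000000000000000000000000000000000000000000000000000000000000000000000000000000000000000000000000000000000000000000000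

def vt (p : ℕ) : ℕ := blk 12 VT p
def dgt (n i : ℕ) : ℕ := n / 3 ^ i % 3
def bf (n m : ℕ) : ℕ := 2 * dgt n 0 * dgt m 0 + (dgt n 1 * dgt m 4 + dgt n 4 * dgt m 1) +
  (dgt n 2 * dgt m 5 + dgt n 5 * dgt m 2) + (dgt n 3 * dgt m 6 + dgt n 6 * dgt m 3)
def qf (n : ℕ) : ℕ := dgt n 0 * dgt n 0 + dgt n 1 * dgt n 4 + dgt n 2 * dgt n 5 + dgt n 3 * dgt n 6
def kn (f : ℕ → ℕ) : ℕ := blk 12 IT (f 0 + 3 * f 1 + 9 * f 2 + 27 * f 3 + 81 * f 4 + 243 * f 5 + 729 * f 6)
def eqv (s c a x y : ℕ) : Bool := (List.range 7).all fun i => (s * dgt y i + dgt x i + c * dgt a i) % 3 == 0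
def chkv (a x y : ℕ) : Bool := force (bf a x) fun c => eqv 1 c a x y || eqv 2 c a x y

theorem vt_ok : (List.range 3510).all (fun p => !tb M1 p || force (vt p) fun v => qf v % 3 == 2 &&
    kn (fun i => dgt v i % 3) == p && kn (fun i => 2 * dgt v i % 3) == p &&
    g8.all fun g => chkv (vt (lab g)) v (vt (act g p))) = true := by decide +kernel

abbrev ι7 := Unit ⊕ (Fin 3 ⊕ Fin 3)
abbrev V7 := ι7 → ZMod 3

def ix : ι7 → ℕ
  | .inl _ => 0
  | .inr (.inl i) => i + 1
  | .inr (.inr i) => i + 4

theorem ix_lt (i : ι7) : ix i < 7 := by revert i; decide

def vec (n : ℕ) : V7 := fun i => (dgt n (ix i) : ℕ)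

theorem nd7 : Geo.IsNondegenerateQuadraticForm (quadFormOdd 3 (ZMod 3)) := quadFormOdd_nondeg (by decide) 3

def Q7 : QuadraticForm (ZMod 3) V7 := toQF nd7

theorem Q7_eq (x : V7) : Q7 x = x (.inl ()) ^ 2 + (x (.inr (.inl 0)) * x (.inr (.inr 0)) +
    x (.inr (.inl 1)) * x (.inr (.inr 1)) + x (.inr (.inl 2)) * x (.inr (.inr 2))) := by
  rw [Q7, toQF_apply, quadFormOdd, Fin.sum_univ_three]

theorem B7_eq (x y : V7) : B Q7 x y = 2 * x (.inl ()) * y (.inl ()) +
    (x (.inr (.inl 0)) * y (.inr (.inr 0)) + x (.inr (.inr 0)) * y (.inr (.inl 0))) +
    (x (.inr (.inl 1)) * y (.inr (.inr 1)) + x (.inr (.inr 1)) * y (.inr (.inl 1))) +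
    (x (.inr (.inl 2)) * y (.inr (.inr 2)) + x (.inr (.inr 2)) * y (.inr (.inl 2))) := by
  rw [B_eq_polar, QuadraticMap.polar, Q7_eq, Q7_eq, Q7_eq]; simp only [Pi.add_apply]; ring

theorem B_vec (n m : ℕ) : B Q7 (vec n) (vec m) = (bf n m : ℕ) := by
  rw [B7_eq, bf]; push_cast; rfl

theorem Q_vec (n : ℕ) : Q7 (vec n) = (qf n : ℕ) := by
  rw [Q7_eq, qf]; push_cast; rw [sq, add_assoc, add_assoc, add_assoc]; rfl

abbrev G7 := V7 ≃ₗ[ZMod 3] V7

def ng : G7 := LinearEquiv.neg (ZMod 3)

theorem ng_comm (g : G7) : ng * g = g * ng := by ext x; simp [ng, mul_app]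

theorem ng_sq : ng * ng = 1 := by ext x; simp [ng, mul_app]

theorem ng_O : ng ∈ O Q7 := fun v => Q_neg Q7 v

def rr (a : V7) : G7 := ng * refl Q7 a

theorem rr_sq (a : V7) : rr a * rr a = 1 := by
  rw [rr, mul_assoc, ← mul_assoc (refl Q7 a), ← ng_comm, mul_assoc, refl_mul_self, mul_one, ng_sq]

theorem rr_apply {a : V7} (h : Q7 a = -1) (x : V7) : rr a x = -(x + B Q7 a x • a) := by
  rw [rr, mul_app, refl_apply, h]; simp [ng]

theorem refl_one {a : V7} (h : Q7 a = 1) (x : V7) : refl Q7 a x = x - B Q7 a x • a := by
  rw [refl_apply, h]; simp

theorem refl_m {a : V7} (h : Q7 a = -1) (x : V7) : refl Q7 a x = x + B Q7 a x • a := by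
  rw [refl_apply, h]; simp

theorem nd7' : Nd Q7 := nd_toQF nd7

theorem rk7 : Module.finrank (ZMod 3) V7 = 7 := by simp

theorem rr_EO {a : V7} (h : Q7 a = -1) : rr a ∈ EO Q7 := by
  have h5 : 5 ≤ Module.finrank (ZMod 3) V7 := by rw [rk7]; norm_num
  have q1 : ∀ n ∈ [1, 84, 252, 756], Q7 (vec n) = 1 := by simp only [Q_vec]; decide
  have q2 : ∀ n ∈ [165, 495, 1485], Q7 (vec n) = -1 := by simp only [Q_vec]; decide
  have e : ng = refl Q7 (vec 1) * refl Q7 (vec 84) * (refl Q7 (vec 252) * refl Q7 (vec 756)) *
      (refl Q7 (vec 165) * refl Q7 (vec 495)) * refl Q7 (vec 1485) := by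
    refine LinearEquiv.toLinearMap_injective (LinearMap.pi_ext' fun i => LinearMap.ext_ring ?_)
    simp only [LinearMap.comp_apply, LinearEquiv.coe_coe, mul_app, refl_one (q1 1 (by simp)),
      refl_one (q1 84 (by simp)), refl_one (q1 252 (by simp)), refl_one (q1 756 (by simp)),
      refl_m (q2 165 (by simp)), refl_m (q2 495 (by simp)), refl_m (q2 1485 (by simp)), map_add, map_sub, map_smul,
      B_vec, ng, LinearEquiv.neg_apply, LinearMap.coe_single, B7_eq _ (Pi.single _ _)]
    revert i; decide +kernel
  rw [rr, e, mul_assoc]
  refine mul_mem (mul_mem (mul_mem ?_ ?_) ?_) ?_ <;> apply nd7'.refl_mul_refl_mem_EO h5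
  · rw [q1 _ (by simp), q1 _ (by simp)]
  · rw [q1 _ (by simp), q1 _ (by simp)]
  · rw [q2 _ (by simp), q2 _ (by simp)]
  · rw [q2 _ (by simp), h]

def pm (x y : V7) : Prop := y = x ∨ y = -x

theorem eqv_sound {s c a x y : ℕ} (h : eqv s c a x y = true) :
    (s : ZMod 3) • vec y = -(vec x + (c : ZMod 3) • vec a) := by
  funext i
  have := (ZMod.natCast_eq_zero_iff _ 3).2 (Nat.dvd_of_mod_eq_zero (beq_iff_eq.1 (all_range h (ix_lt i))))
  push_cast at this
  simp only [vec, Pi.smul_apply, Pi.neg_apply, Pi.add_apply, smul_eq_mul]
  linear_combination this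

def kv (v : V7) : ℕ := kn fun i => (v ([.inl (), .inr (.inl 0), .inr (.inl 1), .inr (.inl 2), .inr (.inr 0),
  .inr (.inr 1), .inr (.inr 2)].getD i (.inl ()))).val

theorem vt_spec {p : ℕ} (hp : M1.testBit p = true) : Q7 (vec (vt p)) = -1 ∧ kv (vec (vt p)) = p ∧
    kv (-vec (vt p)) = p ∧ ∀ g ∈ g8, chkv (vt (lab g)) (vt p) (vt (act g p)) = true := by
  have h := all_range vt_ok (M1_lt hp)
  simp only [tb_eq, hp, Bool.not_true, Bool.false_or, force_eq, Bool.and_eq_true, beq_iff_eq, List.all_eq_true] at h
  refine ⟨?_, ?_, ?_, h.2⟩
  · rw [Q_vec, ← ZMod.natCast_mod, h.1.1.1]; rfl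
  · refine Eq.trans ?_ h.1.1.2
    simp only [kv, kn, vec, List.getD_cons_succ, List.getD_cons_zero, ZMod.val_natCast]; rfl
  · have : ∀ d : ℕ, (-(d : ZMod 3)).val = 2 * d % 3 := fun d => by
      rw [← ZMod.val_natCast]; congr 1; push_cast
      have : (3 : ZMod 3) = 0 := rfl
      linear_combination (-(d : ZMod 3)) * this
    refine Eq.trans ?_ h.1.2
    simp only [kv, kn, vec, List.getD_cons_succ, List.getD_cons_zero, Pi.neg_apply, this]; rfl

theorem lab_M1 : ∀ g ∈ g8, M1.testBit (lab g) = true := by decide +kernel

def BB (g : ℕ) : G7 := rr (vec (vt (lab g)))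

theorem BB_act {g p : ℕ} (hg : g ∈ g8) (hp : M1.testBit p = true) :
    pm (BB g (vec (vt p))) (vec (vt (act g p))) := by
  have h := (vt_spec hp).2.2.2 g hg
  rw [chkv, force_eq, Bool.or_eq_true] at h
  rw [BB, rr_apply (vt_spec (lab_M1 g hg)).1, B_vec]
  refine h.imp (fun h => by simpa using eqv_sound h) fun h => ?_
  rw [← eqv_sound h, show ((2 : ℕ) : ZMod 3) = -1 from rfl]; simp

theorem BB_word {l : List ℕ} (hl : Over g8 l) {p : ℕ} (hp : M1.testBit p = true) :
    pm (evL BB l.reverse (vec (vt p))) (vec (vt (actW l p))) := by
  induction l generalizing p with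
  | nil => exact Or.inl rfl
  | cons g l ih =>
    have hg := hl g (List.mem_cons_self ..)
    have h1 := ih (fun a ha => hl a (List.mem_cons_of_mem _ ha))
      (p := act g p) (by
        have := stab1.cl [g] (fun a ha => by rw [List.mem_singleton.1 ha]; exact hg) p hp
        rwa [actW_cons] at this)
    rw [List.reverse_cons, evL_append, evL_cons, evL_nil, mul_one, mul_app, actW_cons]
    rcases BB_act hg hp with h2 | h2 <;> rw [h2] at h1
    · exact h1
    · rw [map_neg] at h1
      exact h1.symm.imp (fun h => by rw [h, neg_neg]) id

def MM : Subgroup G7 := Subgroup.closure (BB '' {g | g ∈ g8})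

theorem MM_le : MM ≤ EO Q7 := by
  rw [MM, Subgroup.closure_le]
  rintro _ ⟨g, hg, rfl⟩
  exact rr_EO (vt_spec (lab_M1 g hg)).1

theorem rr_MM {p : ℕ} (hp : M1.testBit p = true) : rr (vec (vt p)) ∈ MM := by
  obtain ⟨u, h1, rfl⟩ := orb1 hp
  have h2 : evL BB u.reverse ∈ MM := (mem_closure_iff fun _ => rr_sq _).2 ⟨_, h1.rev, rfl⟩
  have h3 : BB 2 ∈ MM := Subgroup.subset_closure ⟨2, by decide, rfl⟩
  have h4 := mul_mem (mul_mem h2 h3) (inv_mem h2)
  rw [BB, rr, ← mul_assoc, ← ng_comm, mul_assoc ng, mul_assoc ng, conj_refl (Q := Q7) (EO_le_O (Q := Q7) (MM_le h2))] at h4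
  rcases BB_word h1 (p := 2) (lab_M1 2 (by decide)) with h | h <;> rw [h, rr]
  · exact h4
  · rw [refl_neg]; exact h4

theorem rr_MM' (n : ℕ) (h : (tb M1 (kn (dgt n)) && (eqv 1 0 0 n (vt (kn (dgt n))) || eqv 2 0 0 n (vt (kn (dgt n))))) = true) :
    rr (vec n) ∈ MM := by
  simp only [Bool.and_eq_true, tb_eq, Bool.or_eq_true] at h
  have h1 := rr_MM h.1
  rcases h.2 with h2 | h2 <;> have h3 := eqv_sound h2
  · rwa [show vec (vt (kn (dgt n))) = -vec n by simpa using h3, rr, refl_neg] at h1
  · rwa [show vec (vt (kn (dgt n))) = vec n by simpa [show (2 : ZMod 3) = -1 from rfl] using h3] at h1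

theorem le_MM : EO Q7 ≤ MM := by
  have h5 : 5 ≤ Module.finrank (ZMod 3) V7 := by rw [rk7]; norm_num
  have e0 : Q7 (vec 3) = 0 := by rw [Q_vec]; rfl
  have key : ∀ n m, Q7 (vec n) = -1 → B Q7 (vec 3) (vec n) = 0 → vec m = vec n - vec 3 → rr (vec n) ∈ MM →
      rr (vec m) ∈ MM → eich Q7 (vec 3) (vec n) ∈ MM := fun n m h1 h2 h3 h4 h5 => by
    have h6 : Q7 (vec m) = -1 := by rw [h3, Q_sub, h1, e0, B_comm, h2]; simp
    convert mul_mem h4 h5 using 1
    ext1 x
    rw [eich_apply e0 h2, mul_app, rr_apply h1, rr_apply h6, h3, h1]
    simp only [map_neg, map_add, map_sub, map_smul, LinearMap.sub_apply, B_self, h1, B_comm Q7 (vec n) (vec 3), h2,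
      smul_eq_mul]
    module
  let S : Submodule (ZMod 3) V7 :=
    { carrier := {w | B Q7 (vec 3) w = 0 ∧ eich Q7 (vec 3) w ∈ MM}
      zero_mem' := ⟨by simp, by rw [eich_zero]; exact one_mem _⟩
      add_mem' := fun {a b} ha hb => ⟨by simp [ha.1, hb.1], by
        rw [← eich_mul e0 ha.1 hb.1]; exact mul_mem ha.2 hb.2⟩
      smul_mem' := fun c a ha => ⟨by simp [ha.1], by
        have : c = 0 ∨ c = 1 ∨ c = -1 := by revert c; decide
        rcases this with rfl | rfl | rfl
        · rw [zero_smul, eich_zero]; exact one_mem _
        · rw [one_smul]; exact ha.2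
        · rw [neg_one_smul, ← eich_inv e0 ha.1]; exact inv_mem ha.2⟩ }
  have k : ∀ n ∈ [495, 1485, 253, 757, 505], vec n ∈ S := by
    intro n hn
    refine ⟨?_, key n (n + 6) ?_ ?_ ?_ (rr_MM' _ ?_) (rr_MM' _ ?_)⟩ <;> (try simp only [B_vec, Q_vec]) <;>
      revert n <;> decide +kernel
  have k0 : vec 3 ∈ S := ⟨by rw [B_vec]; rfl, by
    have := eich_smul_self e0 1
    rw [one_smul] at this; rw [this]; exact one_mem _⟩
  refine EO_le_of_full_of_move nd7' h5 (MM_le.trans EO_le_O) e0 (fun w hw => ?_) (rr_MM' 165 (by decide +kernel)) ?_
  · have h1 : w (.inr (.inr 0)) = 0 := by simpa [B7_eq, vec, dgt, ix] using hw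
    have : w = (w (.inr (.inr 1)) - w (.inr (.inl 1))) • vec 495 + (w (.inr (.inr 2)) - w (.inr (.inl 2))) • vec 1485 +
        (-w (.inl ()) + w (.inr (.inl 1)) + w (.inr (.inr 1)) - w (.inr (.inl 2)) - w (.inr (.inr 2))) • vec 253 +
        (-w (.inr (.inl 2)) - w (.inr (.inr 2))) • vec 757 +
        (-w (.inl ()) - w (.inr (.inl 1)) - w (.inr (.inr 1)) - w (.inr (.inl 2)) - w (.inr (.inr 2))) • vec 505 +
        w (.inr (.inl 0)) • vec 3 := by
      have h3 : ∀ a b c d e : ZMod 3, (a = -a + b + c - d - e + (-d - e) + (-a - b - c - d - e)) ∧
          b = c - b + (-a + b + c - d - e) + (-a - b - c - d - e) * 2 ∧ d = -d - d ∧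
          c = (c - b) * 2 + (-a + b + c - d - e) + (-a - b - c - d - e) * 2 ∧ e = (e - d) * 2 + (-d - e) := by decide +kernel
      have h4 := h3 (w (.inl ())) (w (.inr (.inl 1))) (w (.inr (.inr 1))) (w (.inr (.inl 2))) (w (.inr (.inr 2)))
      funext i
      rcases i with i | i | i <;> fin_cases i <;> simp [vec, dgt, ix, h1]
      exacts [h4.1, h4.2.1, h4.2.2.1, h4.2.2.2.1, h4.2.2.2.2]
    have h2 : w ∈ S := by
      rw [this]
      exact add_mem (add_mem (add_mem (add_mem (add_mem (S.smul_mem _ (k _ (by simp))) (S.smul_mem _ (k _ (by simp))))
        (S.smul_mem _ (k _ (by simp)))) (S.smul_mem _ (k _ (by simp)))) (S.smul_mem _ (k _ (by simp))))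
        (S.smul_mem _ k0)
    exact h2.2
  · rw [rr_apply (by rw [Q_vec]; rfl)]
    simp only [map_neg, map_add, map_smul, B_vec]
    decide

theorem ng_not : ng ∉ EO Q7 := by
  rw [← nd7'.commutator_O (by rw [rk7]; norm_num)]
  intro h
  have h1 : ⁅O Q7, O Q7⁆ ≤ (LinearEquiv.det (R := ZMod 3) (M := V7)).ker :=
    Subgroup.commutator_le.2 fun g _ h _ => by
      rw [MonoidHom.mem_ker, map_commutatorElement, commutatorElement_eq_one_iff_mul_comm, mul_comm]
  have h2 := congrArg (Units.val) (MonoidHom.mem_ker.1 (h1 h))
  rw [LinearEquiv.coe_det, show (ng : V7 →ₗ[ZMod 3] V7) = (-1 : ZMod 3) • LinearMap.id by ext; simp [ng],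
    LinearMap.det_smul, rk7, LinearMap.det_id] at h2
  revert h2; decide

theorem eq_one_of_pm {y : G7} (hy : y ∈ EO Q7) (h : ∀ g ∈ g8, pm (y (vec (vt (lab g)))) (vec (vt (lab g)))) :
    y = 1 := by
  have key : ∀ ε : ZMod 3, ε * ε = 1 → y (vec (vt (lab 4))) = ε • vec (vt (lab 4)) → ∀ x, y x = ε • x := by
    intro ε hε h4
    have st : ∀ g g', g' ∈ g8 → (bf (vt (lab g)) (vt (lab g')) : ZMod 3) = 1 →
        y (vec (vt (lab g))) = ε • vec (vt (lab g)) → y (vec (vt (lab g'))) = ε • vec (vt (lab g')) := by
      intro g g' hg hb h1
      have h2 := O_B (EO_le_O hy) (vec (vt (lab g))) (vec (vt (lab g')))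
      rw [h1, B_vec, hb] at h2
      rcases h g' hg with h3 | h3
      · rw [← h3, map_smul, LinearMap.smul_apply, B_vec, hb, smul_eq_mul, mul_one] at h2
        rw [h2, one_smul, ← h3]
      · rw [← neg_eq_iff_eq_neg] at h3
        rw [← h3, map_smul, LinearMap.smul_apply, map_neg, B_vec, hb, smul_eq_mul, mul_neg, mul_one,
          neg_eq_iff_eq_neg] at h2
        rw [h2, neg_one_smul, h3]
    have h3 := st 4 3 (by decide) (by decide +kernel) h4
    have h2 := st 3 2 (by decide) (by decide +kernel) h3
    have h5 := st 4 5 (by decide) (by decide +kernel) h4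
    have h6 := st 5 6 (by decide) (by decide +kernel) h5
    have h7 := st 6 7 (by decide) (by decide +kernel) h6
    have h8 := st 4 8 (by decide) (by decide +kernel) h4
    have h9 := st 8 9 (by decide) (by decide +kernel) h8
    have : (y : V7 →ₗ[ZMod 3] V7) = ε • LinearMap.id := by
      refine LinearMap.pi_ext' fun i => LinearMap.ext_ring ?_
      have : ∀ i : ι7, ∃ c : List (ZMod 3), (Pi.single i 1 : V7) = c.getD 0 0 • vec (vt (lab 2)) +
          c.getD 1 0 • vec (vt (lab 3)) + c.getD 2 0 • vec (vt (lab 4)) + c.getD 3 0 • vec (vt (lab 5)) +
          c.getD 4 0 • vec (vt (lab 6)) + c.getD 5 0 • vec (vt (lab 7)) + c.getD 6 0 • vec (vt (lab 8)) +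
          c.getD 7 0 • vec (vt (lab 9)) := fun i =>
        ⟨[[0, 0, 0, 2, 0, 2, 1, 2], [0, 0, 0, 1, 2, 1, 2, 0], [0, 2, 2, 0, 0, 0, 2, 1], [0, 0, 2, 2, 0, 1, 1, 2],
          [0, 0, 0, 1, 2, 1, 2, 2], [0, 1, 2, 0, 0, 0, 0, 0], [0, 0, 1, 2, 0, 1, 1, 2]].getD (ix i) [],
          by revert i; decide +kernel⟩
      obtain ⟨c, hc⟩ := this i
      simp only [LinearMap.comp_apply, LinearEquiv.coe_coe, LinearMap.coe_single, LinearMap.smul_apply,
        LinearMap.id_apply, hc, map_add, map_smul, h2, h3, h4, h5, h6, h7, h8, h9]
    exact fun x => congrArg (· x) this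
  rcases h 4 (by decide) with h4 | h4
  · ext1 x; simpa using key 1 (by simp) (by rw [one_smul, ← h4]) x
  · have : y = ng := by
      ext1 x; simpa [ng] using key (-1) (by simp) (by rw [neg_one_smul, eq_comm, neg_eq_iff_eq_neg]; exact h4) x
    exact absurd (this ▸ hy) ng_not

theorem iso_O7 (hI : DInj) : Nonempty (KK g8 ≃* Omega (ZMod 3) (quadFormOdd 3 (ZMod 3))) := by
  let f : ℕ → P × G7 := fun g => (gen g, BB g)
  have hf : ∀ g, f g * f g = 1 := fun g => Prod.ext (gen_sq g) (rr_sq _)
  have ev : ∀ l, evL f l = (evL gen l, evL BB l) := fun l => by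
    induction l with
    | nil => rfl
    | cons g l ih => rw [evL_cons, evL_cons, evL_cons, ih]; rfl
  obtain ⟨e⟩ := E27.goursat (Subgroup.closure (f '' {g | g ∈ g8})) fun x hx => by
    obtain ⟨l, hl, rfl⟩ := (mem_closure_iff hf).1 hx
    rw [ev]
    constructor
    · intro h
      have h1 : evL BB l.reverse = 1 := eq_one_of_pm (MM_le ((mem_closure_iff fun _ => rr_sq _).2 ⟨_, hl.rev, rfl⟩))
        fun g hg => by
          have h2 := BB_word hl (lab_M1 g hg)
          have h3 := dd_actW l (M1_lt (lab_M1 g hg))
          rw [show evL gen l = 1 from h, inv_one, one_mul, mul_one] at h3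
          rwa [← hI _ (M1_lt (lab_M1 g hg)) _ (actW_lt l (M1_lt (lab_M1 g hg))) h3] at h2
      rwa [evL_reverse (gen := BB) (fun _ => rr_sq _), inv_eq_one] at h1
    · intro h
      refine triv1 hI (mem_KK.2 ⟨l, hl, rfl⟩) fun p hp => ?_
      have h2 := BB_word hl hp
      rw [evL_reverse (gen := BB) (fun _ => rr_sq _), show evL BB l = 1 from h, inv_one, one_app] at h2
      have h3 := (vt_spec (stab1.cl l hl p hp)).2.1
      show (evL gen l)⁻¹ * dd p * evL gen l = dd p
      rw [dd_actW l (M1_lt hp), ← h3]
      rcases h2 with h2 | h2 <;> rw [h2]
      · rw [(vt_spec hp).2.1]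
      · rw [(vt_spec hp).2.2.1]
  have e1 : (Subgroup.closure (f '' {g | g ∈ g8})).map (MonoidHom.fst _ _) = KK g8 := by
    rw [MonoidHom.map_closure, Set.image_image]; rfl
  have e2 : (Subgroup.closure (f '' {g | g ∈ g8})).map (MonoidHom.snd _ _) =
      (Geo.omegaGL (quadFormOdd 3 (ZMod 3))).map (phi (ι := ι7) (F := ZMod 3)).toMonoidHom := by
    rw [MonoidHom.map_closure, Set.image_image]
    refine (le_antisymm MM_le le_MM).trans ?_
    ext g
    constructor
    · intro hg
      exact ⟨phi.symm g, (mem_omegaGL nd7 (by simp)).2 (by rw [MulEquiv.apply_symm_apply]; exact hg), by simp⟩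
    · rintro ⟨h, hh, rfl⟩; exact (mem_omegaGL nd7 (by simp)).1 hh
  exact ⟨((((MulEquiv.subgroupCongr e1.symm).trans e).trans (MulEquiv.subgroupCongr e2)).trans
    (Subgroup.equivMapOfInjective _ _ phi.injective).symm).trans
    (Subgroup.equivMapOfInjective _ _ (Subgroup.subtype_injective _)).symm⟩

end Cfsg.Agent.H4.Fi
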