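import Mathlib

/-! Kernel-friendly arithmetic in finite fields of characteristic 2 given by a root `γ` of a
binary polynomial `m`, with elements encoded by natural numbers. -/

set_option autoImplicit false

namespace Cfsg.Agent.H4.GF2

open Matrix

section
variable {F : Type*} [Field F]

/-- the field element with binary digits `a` in the basis `1, γ, γ², …` -/
noncomputable def enc (γ : F) (a : ℕ) : F := Nat.ofDigits γ (Nat.digits 2 a)

theorem enc_eq (γ : F) (a : ℕ) : enc γ a = ((a % 2 : ℕ) : F) + γ * enc γ (a / 2) := by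
  rcases Nat.eq_zero_or_pos a with rfl | h
  · simp [enc, Nat.ofDigits]
  · unfold enc
    rw [Nat.digits_def' (by norm_num) h]; rfl

@[simp] theorem enc_zero (γ : F) : enc γ 0 = 0 := by simp [enc, Nat.ofDigits]

@[simp] theorem enc_one (γ : F) : enc γ 1 = 1 := by rw [enc_eq]; simp

theorem enc_two_mul (γ : F) (a : ℕ) : enc γ (2 * a) = γ * enc γ a := by
  rw [enc_eq]; simp

theorem enc_bit1 (γ : F) (a : ℕ) : enc γ (2 * a + 1) = 1 + γ * enc γ a := by
  rw [enc_eq, show (2 * a + 1) % 2 = 1 by omega, show (2 * a + 1) / 2 = a by omega]; simp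

variable [CharP F 2]

theorem enc_xor (γ : F) (a b : ℕ) : enc γ (a ^^^ b) = enc γ a + enc γ b := by
  induction a using Nat.strong_induction_on generalizing b with
  | _ a ih =>
    rcases Nat.eq_zero_or_pos a with rfl | h
    · simp
    rw [enc_eq γ (a ^^^ b), enc_eq γ a, enc_eq γ b, Nat.xor_div_two, ih (a / 2) (by omega)]
    have h2 : (2 : F) = 0 := CharP.cast_eq_zero F 2
    have : (((a ^^^ b) % 2 : ℕ) : F) = ((a % 2 : ℕ) : F) + ((b % 2 : ℕ) : F) := by
      have h1 := @Nat.xor_mod_two_eq_one a b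
      rcases Nat.mod_two_eq_zero_or_one a with ha | ha <;>
      rcases Nat.mod_two_eq_zero_or_one b with hb | hb <;>
      rcases Nat.mod_two_eq_zero_or_one (a ^^^ b) with hc | hc <;>
      simp only [ha, hb, hc] at h1 ⊢ <;> simp at h1 ⊢
      exact (one_add_one_eq_two.trans h2).symm
    rw [this]; ring

end

/-- multiplication by `γ`: `t = 2^d` is the top bit of the modulus `m` -/
def mulx (t m a : ℕ) : ℕ := bif Nat.ble t (2 * a) then (2 * a) ^^^ m else 2 * a

def gmulF (t m : ℕ) : ℕ → ℕ → ℕ → ℕ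
  | 0, _, _ => 0
  | k + 1, a, b => bif Nat.beq b 0 then 0 else
      (bif Nat.beq (b % 2) 1 then a else 0) ^^^ gmulF t m k (mulx t m a) (b / 2)

def gmul (t m a b : ℕ) : ℕ := gmulF t m b a b

section
variable {F : Type*} [Field F] [CharP F 2] {γ : F} {t m : ℕ}

theorem enc_mulx (hm : enc γ m = 0) (a : ℕ) : enc γ (mulx t m a) = γ * enc γ a := by
  unfold mulx
  cases Nat.ble t (2 * a) <;> simp [enc_xor, hm, enc_two_mul]

theorem enc_gmulF (hm : enc γ m = 0) (k a b : ℕ) (h : b ≤ k) :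
    enc γ (gmulF t m k a b) = enc γ a * enc γ b := by
  induction k generalizing a b with
  | zero => obtain rfl : b = 0 := by omega
            simp [gmulF]
  | succ k ih =>
    unfold gmulF
    rcases Nat.eq_zero_or_pos b with rfl | hb
    · simp
    have h0 : Nat.beq b 0 = false := by
      rw [Bool.eq_false_iff]; intro h; have := Nat.eq_of_beq_eq_true h; omega
    rw [h0, cond_false, enc_xor, ih _ _ (by omega), enc_mulx hm, enc_eq γ b]
    rcases Nat.mod_two_eq_zero_or_one b with h1 | h1 <;> rw [h1]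
    · rw [show Nat.beq 0 1 = false from rfl, cond_false]; simp; ring
    · rw [show Nat.beq 1 1 = true from rfl, cond_true]; simp; ring

theorem enc_gmul (hm : enc γ m = 0) (a b : ℕ) : enc γ (gmul t m a b) = enc γ a * enc γ b :=
  enc_gmulF hm b a b le_rfl

end

instance xorComm : Std.Commutative (fun a b : ℕ => a ^^^ b) := ⟨Nat.xor_comm⟩
instance xorAssoc : Std.Associative (fun a b : ℕ => a ^^^ b) := ⟨Nat.xor_assoc⟩

section
variable {ι : Type} [Fintype ι] [DecidableEq ι]

/-- matrix product of encoded matrices -/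
def mm (t m : ℕ) (A B : ι → ι → ℕ) (i j : ι) : ℕ :=
  (Finset.univ : Finset ι).fold (fun a b : ℕ => a ^^^ b) 0 (fun k => gmul t m (A i k) (B k j))

/-- unpack a literal: 8 bits per entry, 8 entries per row -/
def un (idx : ι → ℕ) (L : ℕ) (i j : ι) : ℕ := (L >>> (8 * (8 * idx i + idx j))) % 256

def idm (i j : ι) : ℕ := if i = j then 1 else 0

def eqm (A B : ι → ι → ℕ) : Bool := decide (∀ i j, A i j = B i j)

variable {F : Type*} [Field F] [CharP F 2] {γ : F} {t m : ℕ}

/-- the matrix of an encoded matrix -/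
noncomputable def E (γ : F) (A : ι → ι → ℕ) : Matrix ι ι F := Matrix.of fun i j => enc γ (A i j)

omit [Fintype ι] [DecidableEq ι] [CharP F 2] in
@[simp] theorem E_apply (A : ι → ι → ℕ) (i j : ι) : E γ A i j = enc γ (A i j) := rfl

omit [DecidableEq ι] in
theorem E_mm (hm : enc γ m = 0) (A B : ι → ι → ℕ) : E γ (mm t m A B) = E γ A * E γ B := by
  ext i j
  rw [Matrix.mul_apply, E_apply, mm, Finset.sum_eq_fold]
  simp only [E_apply, ← enc_gmul (t := t) hm]
  rw [← Finset.fold_hom (op := fun a b : ℕ => a ^^^ b) (op' := fun a b : F => a + b) (m := enc γ)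
    (enc_xor γ), enc_zero]

omit [Fintype ι] [CharP F 2] in
theorem E_idm : E γ (idm : ι → ι → ℕ) = 1 := by
  ext i j
  by_cases h : i = j <;> simp [idm, h, Matrix.one_apply]

omit [CharP F 2] in
theorem E_congr {A B : ι → ι → ℕ} (h : eqm A B = true) : E γ A = E γ B := by
  ext i j
  simp only [eqm, decide_eq_true_eq] at h
  simp [h]

theorem E_mul (hm : enc γ m = 0) {A B C : ι → ι → ℕ} (h : eqm (mm t m A B) C = true) :
    E γ A * E γ B = E γ C := by
  rw [← E_mm (t := t) hm, E_congr h]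

omit [DecidableEq ι] in
theorem E_noncomm (hm : enc γ m = 0) {A B : ι → ι → ℕ} {i j : ι} {z : ℕ}
    (h : gmul t m (mm t m A B i j ^^^ mm t m B A i j) z = 1) : E γ A * E γ B ≠ E γ B * E γ A := by
  intro e
  rw [← E_mm (t := t) hm, ← E_mm (t := t) hm] at e
  have e1 := congrFun (congrFun e i) j
  simp only [E_apply] at e1
  have := congrArg (enc γ) h
  rw [enc_gmul hm, enc_xor, e1, CharTwo.add_self_eq_zero, zero_mul, enc_one] at this
  exact zero_ne_one this

end

section
variable {F : Type*} [Field F] [Fintype F]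

theorem det_eq_one {ι : Type} [Fintype ι] [DecidableEq ι] {A : Matrix ι ι F} {k : ℕ} (hk0 : k ≠ 0)
    (hk : A ^ k = 1) (hc : Nat.Coprime k (Fintype.card F - 1)) : A.det = 1 := by
  have h1 : A.det ^ k = 1 := by rw [← Matrix.det_pow, hk, Matrix.det_one]
  have h0 : A.det ≠ 0 := by
    intro h; rw [h, zero_pow hk0] at h1; exact zero_ne_one h1
  have h2 := FiniteField.pow_card_sub_one_eq_one _ h0
  have h3 := pow_gcd_eq_one.2 ⟨h1, h2⟩
  rwa [hc, pow_one] at h3

theorem charP_two {k : ℕ} (h : Fintype.card F = 2 ^ k) : CharP F 2 := by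
  obtain ⟨p, hp⟩ := CharP.exists F
  obtain ⟨n, hpp, hn⟩ := FiniteField.card F p
  have : p = 2 := by
    have h1 : p ∣ 2 ^ k := by rw [← h, hn]; exact dvd_pow_self p n.ne_zero
    exact (Nat.prime_dvd_prime_iff_eq hpp Nat.prime_two).1 (hpp.dvd_of_dvd_pow h1)
  exact this ▸ hp

theorem root8 (h : Fintype.card F = 8) : ∃ γ : F, γ ^ 3 + γ + 1 = 0 := by
  haveI := charP_two (F := F) (k := 3) h
  obtain ⟨x, hx0, hx1⟩ : ∃ x : F, x ≠ 0 ∧ x ≠ 1 := by
    classical
    by_contra hh
    push Not at hh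
    have : (Finset.univ : Finset F) ⊆ {0, 1} := fun x _ => by
      by_cases h0 : x = 0
      · simp [h0]
      · simp [hh x h0]
    have := (Finset.card_le_card this).trans Finset.card_le_two
    rw [Finset.card_univ, h] at this
    omega
  have h8 := FiniteField.pow_card x
  rw [h] at h8
  have h2 : (2 : F) = 0 := CharP.cast_eq_zero F 2
  have : x * (x - 1) * ((x ^ 3 + x + 1) * ((x + 1) ^ 3 + (x + 1) + 1)) = 0 := by
    have : x * (x - 1) * ((x ^ 3 + x + 1) * ((x + 1) ^ 3 + (x + 1) + 1)) = x ^ 8 - x := by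
      grind
    rw [this, h8, sub_self]
  rcases mul_eq_zero.1 this with h' | h'
  · rcases mul_eq_zero.1 h' with h' | h'
    · exact absurd h' hx0
    · exact absurd (sub_eq_zero.1 h') hx1
  · rcases mul_eq_zero.1 h' with h' | h'
    · exact ⟨x, h'⟩
    · exact ⟨x + 1, h'⟩

open Polynomial in
theorem root64 (h : Fintype.card F = 64) : ∃ γ : F, γ ^ 6 + γ + 1 = 0 := by
  haveI := charP_two (F := F) (k := 6) h
  by_contra hh
  push Not at hh
  let q : F[X] := X ^ 58 + X ^ 53 + X ^ 52 + X ^ 48 + X ^ 46 + X ^ 43 + X ^ 42 + X ^ 41 + X ^ 40 + X ^ 38 + X ^ 34 + X ^ 33 + X ^ 32 + X ^ 29 + X ^ 26 + X ^ 24 + X ^ 23 + X ^ 21 + X ^ 20 + X ^ 19 + X ^ 17 + X ^ 16 + X ^ 13 + X ^ 12 + X ^ 10 + X ^ 8 + X ^ 6 + X ^ 5 + X ^ 4 + X ^ 3 + X ^ 2 + X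
  have hm : q.IsMonicOfDegree 58 := by
    refine ⟨?_, ?_⟩
    · simp only [q]; compute_degree!
    · simp only [q]; monicity!
  have hq : q = 0 := by
    refine Polynomial.eq_zero_of_natDegree_lt_card_of_eval_eq_zero q (f := id) Function.injective_id
      (fun x => ?_) (by rw [hm.natDegree_eq, h]; norm_num)
    have h64 := FiniteField.pow_card x
    rw [h] at h64
    have : (x ^ 6 + x + 1) * (x ^ 58 + x ^ 53 + x ^ 52 + x ^ 48 + x ^ 46 + x ^ 43 + x ^ 42 + x ^ 41 + x ^ 40 + x ^ 38 + x ^ 34 + x ^ 33 + x ^ 32 + x ^ 29 + x ^ 26 + x ^ 24 + x ^ 23 + x ^ 21 + x ^ 20 + x ^ 19 + x ^ 17 + x ^ 16 + x ^ 13 + x ^ 12 + x ^ 10 + x ^ 8 + x ^ 6 + x ^ 5 + x ^ 4 + x ^ 3 + x ^ 2 + x) = x ^ 64 - x := by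
      grind
    rw [h64, sub_self] at this
    have := (mul_eq_zero.1 this).resolve_left (hh x)
    simpa [q] using this
  exact hm.monic.ne_zero hq

omit [Fintype F] in
theorem enc_m8 {γ : F} (h : γ ^ 3 + γ + 1 = 0) : enc γ 11 = 0 := by
  rw [show 11 = 2 * (2 * (2 * 1) + 1) + 1 from rfl, enc_bit1, enc_bit1, enc_two_mul, enc_one]
  linear_combination h

omit [Fintype F] in
theorem enc_m64 {γ : F} (h : γ ^ 6 + γ + 1 = 0) : enc γ 67 = 0 := by
  rw [show 67 = 2 * (2 * (2 * (2 * (2 * (2 * 1)))) + 1) + 1 from rfl, enc_bit1, enc_bit1, enc_two_mul,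
    enc_two_mul, enc_two_mul, enc_two_mul, enc_one]
  linear_combination h

end

end Cfsg.Agent.H4.GF2
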