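import Cfsg.Agent.H4.TC
import Cfsg.Prelude.Def_ChevG2

/-! The six-dimensional module of `G₂(4)`. -/

set_option autoImplicit false
set_option maxRecDepth 100000

namespace Cfsg.Agent.H4.J2

open Cfsg.Lie Cfsg.Agent.H4.Bit Cfsg.Agent.H4.TC Matrix

def TG : ℕ := 0x20100000000040001000000000402000000080000010000100000000100000800020000000010000400002000000002000020000004000000100800000000200008000000002010001008040200201000000201
def E2G : ℕ := 0x10000000000000200000000000004000000000000000000000000000000000000080000000000001000000000000020000000000000000000000000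
def N1G : ℕ := 0x100000000800040001000001200000000000000000000000000020000000080000000200000300801000100000000000000020001000000000000000000000020040002000000800000000002000000000000000020001000003000000000010040004000000000010000000000004000000000100800000001000000200000000002000000000000400000000020000004000000000000800000100100000000000020000000002000000200000000000040000000000800000080000000100000100000020000000000008000000000040000008000000000000030080004000000000000000040000000000200020040002000002000000000000000000080004000000000000000000100100000300400000001000000004000000000000000000000008000800010080002000100000000800000000000000000000000000040000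
def N2G : ℕ := 0x2000000000000000000000000000000000000000000000000000100000000000000000000000000000000000000000002000100008000400020000000000000000000000000020000000080000000400010000000040000000000000000000001000000008000000020000000080002000000000000000000000000000000000000001000000000000000000000000000000000000000000000000000080000000000000000000000000000000000000040001000000004000000010000000080000000000000000000002000000008000200000001000000004000000000000000000000000004000200010000800040000000000000000000000000000000000000000000800000000000000000000000000000000000000000000000000040000000000000000000000000000000000000000000000000000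
def N3G : ℕ := 0x2000100000000000000000000000000000000000200000000000000000000100000000000000000000000000000010000000000000000000008000000000000000000000000000000000000000000000000000000000000000000000000000000000000000000000000000000000000000000000000000000000010000000000000000000008000000000000000000000000000000800000000000000000000400000000000000000000000000000000000800040000000000000000000000000000000000000000000000000000000000000000000000000000000000000000000000000000000000000000000000000000000000000000000000000000000000000000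
def I6 : ℕ := 0x201008040201
def I14 : ℕ := 0x20001000080004000200010000800040002000100008000400020001
def O6 : ℕ := 0x10101010101
def JJ : ℕ := 0x10204081020
def posG : List ℕ := [0, 18, 4, 3, 11, 2, 1, 10, 17, 8, 16, 25, 24, 32]
def scT : List (List (ℕ × List ℕ)) := [[(1, []), (1, [1]), (1, [0, 3, 12])], [(1, [1, 6])], [(1, [5]), (1, [0, 5])], [(1, [3]), (1, [0, 3])], [(1, [1, 2])], [(1, [2, 6])]]

theorem all_range {n : ℕ} {p : ℕ → Bool} (h : (List.range n).all p = true) {r : ℕ} (hr : r < n) :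
    p r = true := List.all_eq_true.mp h r (List.mem_range.mpr hr)

def mp (A B : ℕ) : ℕ := mulP 8 6 O6 A B
def m4 (X Y : ℕ × ℕ) : ℕ × ℕ :=
  force (mp X.1 Y.1) fun a => (a ^^^ mp X.2 Y.2, mp (X.1 ^^^ X.2) (Y.1 ^^^ Y.2) ^^^ a)
def fo {α : Type} (X : ℕ × ℕ) (k : ℕ × ℕ → α) : α := force X.1 fun a => force X.2 fun b => k (a, b)
def pr4 (f : ℕ → ℕ × ℕ) : List ℕ → ℕ × ℕ
  | [] => (I6, 0)
  | g :: l => fo (pr4 f l) (m4 (f g))
def a4 (X Y : ℕ × ℕ) : ℕ × ℕ := (X.1 ^^^ Y.1, X.2 ^^^ Y.2)
def sm (t N : ℕ) : ℕ × ℕ := (bif t % 2 == 1 then N else 0, bif t / 2 == 1 then N else 0)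
def tG (u : ℕ) : ℕ := blk 48 TG u
def sq (c : ℕ) : ℕ := [0, 1, 3, 2].getD c 0
def cu (c : ℕ) : ℕ := [0, 1, 1, 1].getD c 0
def X6 (r c : ℕ) : ℕ × ℕ := a4 (a4 (I6, 0) (sm c (tG (2 + r)))) (sm (sq c) (blk 48 E2G r))
def X14 (r c : ℕ) : ℕ × ℕ :=
  a4 (a4 (a4 (I14, 0) (sm c (blk 224 N1G r))) (sm (sq c) (blk 224 N2G r))) (sm (cu c) (blk 224 N3G r))
def isTr (A B : ℕ) : Bool := (List.range 6).all fun i => (List.range 6).all fun j => tb A (8 * j + i) == tb B (8 * i + j)
def s4 (f : ℕ → ℕ × ℕ) : List (ℕ × List ℕ) → ℕ × ℕ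
  | [] => (0, 0)
  | x :: l => a4 (m4 (sm x.1 I6) (pr4 f x.2)) (s4 f l)
def scOK (f : ℕ → ℕ × ℕ) (gs : List ℕ) (C : List (List (ℕ × List ℕ))) : Bool :=
  (List.range 6).all fun j => (C.getD j []).all (fun x => x.2.all gs.contains) && s4 f (C.getD j []) == (2 ^ j, 0)

theorem chkX_ok : (List.range 12).all (fun r =>
    chkX chevG2 16 r (blk 224 N1G r) (blk 224 N2G r) (blk 224 N3G r)) = true := by decide +kernel
theorem X_ok : (List.range 12).all (fun r => (List.range 4).all fun c => fo (X6 r c) fun x => fo (X14 r c) fun g =>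
    m4 x x == (I6, 0) && isTr (m4 (m4 (JJ, 0) x) (JJ, 0)).1 x.1 && isTr (m4 (m4 (JJ, 0) x) (JJ, 0)).2 x.2 &&
    (List.range 14).all fun k =>
      m4 (comb tG 14 (blk 16 g.1 k), comb tG 14 (blk 16 g.2 k)) x == m4 x (tG k, 0)) = true := by decide +kernel
theorem pos_ok : (List.range 14).all (fun c => decide (posG.getD c 0 % 8 < 6) && decide (posG.getD c 0 / 8 < 6) &&
    (List.range 14).all fun u => tb (tG u) (posG.getD c 0) == (u == c)) = true := by decide +kernel
theorem scT_ok : scOK (fun u => (tG u, 0)) (List.range 14) scT = true := by decide +kernel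
theorem JJ_sq : m4 (JJ, 0) (JJ, 0) = (I6, 0) := by decide +kernel

variable {K : Type*} [Field K] [CharP K 2]

abbrev M6 (K : Type*) := Matrix (Fin 6) (Fin 6) K

def d6 (K : Type*) [Field K] (M : ℕ) : M6 K := dec K 8 Fin.val Fin.val M
def D6 (ω : K) (X : ℕ × ℕ) : M6 K := d6 K X.1 + ω • d6 K X.2
def cK (ω : K) (t : ℕ) : K := (if t % 2 = 1 then 1 else 0) + ω * (if t / 2 = 1 then 1 else 0)

theorem madd_self {m n : Type} (A : Matrix m n K) : A + A = 0 := by
  ext i j; simp [CharTwo.add_self_eq_zero]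

theorem d6_mp (A B : ℕ) : d6 K (mp A B) = d6 K A * d6 K B := by
  rw [mp, show O6 = ones 8 6 by decide +kernel]
  exact dec_mulP (fun i : Fin 6 => by omega) (en_fin 6) (fun i : Fin 6 => i.2) A B

theorem d6_xor (A B : ℕ) : d6 K (A ^^^ B) = d6 K A + d6 K B := dec_xor _ _ _ A B

omit [CharP K 2] in
theorem d6_zero : d6 K 0 = 0 := dec_zero _ _ _

omit [CharP K 2] in
theorem d6_I : d6 K I6 = 1 := by
  rw [show I6 = idP 8 6 by decide +kernel]; exact dec_idP (en_fin 6) (by norm_num)

omit [CharP K 2] in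
theorem D6_fst (ω : K) (A : ℕ) : D6 ω (A, 0) = d6 K A := by simp [D6, d6_zero]

omit [CharP K 2] in
theorem D6_I (ω : K) : D6 ω (I6, 0) = 1 := by rw [D6_fst, d6_I]

theorem D6_a4 (ω : K) (X Y : ℕ × ℕ) : D6 ω (a4 X Y) = D6 ω X + D6 ω Y := by
  simp only [D6, a4, d6_xor, smul_add]; abel

omit [CharP K 2] in
theorem D6_sm (ω : K) (t N : ℕ) : D6 ω (sm t N) = cK ω t • d6 K N := by
  simp only [D6, sm, cK, add_smul]
  by_cases h1 : t % 2 = 1 <;> by_cases h2 : t / 2 = 1 <;> simp [d6_zero, h1, h2, Bool.cond_eq_ite]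

theorem fo_eq {α : Type} (X : ℕ × ℕ) (k : ℕ × ℕ → α) : fo X k = k X := by simp only [fo, force_eq]

theorem sq_one {c : K} (h : c * c = 1) : c = 1 := by
  have : (c + 1) ^ 2 = 0 := by rw [CharTwo.add_sq]; linear_combination h + CharTwo.two_eq_zero (R := K)
  exact CharTwo.add_eq_zero.1 (pow_eq_zero_iff two_ne_zero |>.1 this)

abbrev iG : chevG2.Idx → ℕ := ixS 2 12
theorem enG : En chevG2.Idx iG 14 := en_sum 2 12
abbrev M14 (K : Type*) := Matrix chevG2.Idx chevG2.Idx K

def Tm (y : chevG2.Idx → K) : M6 K := ∑ c, y c • d6 K (tG (iG c))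

omit [CharP K 2] in
theorem Tm_add (y z : chevG2.Idx → K) : Tm (y + z) = Tm y + Tm z := by
  simp [Tm, add_smul, Finset.sum_add_distrib]

omit [CharP K 2] in
theorem Tm_smul (a : K) (y : chevG2.Idx → K) : Tm (a • y) = a • Tm y := by
  simp [Tm, Finset.smul_sum, smul_smul]

omit [CharP K 2] in
theorem Tm_single (c : chevG2.Idx) : Tm (Pi.single c (1 : K)) = d6 K (tG (iG c)) := by
  rw [Tm, Finset.sum_eq_single c (fun x _ hx => by simp [hx]) (by simp)]; simp

theorem Tm_col (N : ℕ) (c : chevG2.Idx) :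
    Tm (dec K 16 iG iG N *ᵥ Pi.single c 1) = d6 K (comb tG 14 (blk 16 N (iG c))) := by
  ext i j
  rw [d6, dec_apply, bit_comb, ← enG.sum (fun x => bit K (blk 16 N (iG c)) x * bit K (tG x) (8 * j + i))]
  simp only [Tm, Matrix.sum_apply, Matrix.smul_apply, smul_eq_mul, Matrix.mulVec_single_one, d6,
    Matrix.col_apply, dec_apply]
  refine Finset.sum_congr rfl fun x _ => ?_
  simp only [bit, testBit_blk _ _ _ (lt_of_lt_of_le (enG.lt x) (by norm_num : 14 ≤ 16))]

def Itw (x : M6 K) (g : M14 K) : Prop := ∀ y, Tm (g *ᵥ y) * x = x * Tm y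

omit [CharP K 2] in
theorem Itw.of_basis {x : M6 K} {g : M14 K}
    (h : ∀ c, Tm (g *ᵥ Pi.single c 1) * x = x * Tm (Pi.single c 1)) : Itw x g := by
  intro y
  induction y using Pi.single_induction with
  | zero => simp [Tm]
  | add y z hy hz => rw [Matrix.mulVec_add, Tm_add, Tm_add, add_mul, mul_add, hy, hz]
  | single c a =>
    have : (Pi.single c a : chevG2.Idx → K) = a • (Pi.single c 1 : chevG2.Idx → K) := by
      rw [← Pi.single_smul, smul_eq_mul, mul_one]
    rw [this, Matrix.mulVec_smul, Tm_smul, Tm_smul, smul_mul_assoc, h, mul_smul_comm]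

omit [CharP K 2] in
theorem Itw.mul {x x' : M6 K} {g g' : M14 K} (h : Itw x g) (h' : Itw x' g') : Itw (x * x') (g * g') := fun y => by
  rw [← Matrix.mulVec_mulVec, ← mul_assoc, h, mul_assoc, h', mul_assoc]

theorem Itw.eq_one {g : M14 K} (hg : Itw (1 : M6 K) g) : g = 1 := by
  have : ∀ y, g *ᵥ y = y := fun y => by
    have h1 := hg y
    rw [mul_one, one_mul] at h1
    have h3 : Tm (g *ᵥ y + y) = 0 := by rw [Tm_add, h1, madd_self]
    funext c
    have h4 := all_range pos_ok (enG.lt c)
    simp only [Bool.and_eq_true, decide_eq_true_eq] at h4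
    have e := congrFun (congrFun h3 ⟨_, h4.1.1⟩) ⟨_, h4.1.2⟩
    simp only [Tm, Matrix.sum_apply, d6, dec_apply, Nat.div_add_mod, Matrix.smul_apply, smul_eq_mul,
      Matrix.zero_apply] at e
    rw [Finset.sum_eq_single c (fun u _ hu => ?_) (by simp)] at e
    · have := all_range h4.2 (enG.lt c)
      simp only [beq_self_eq_true, beq_iff_eq, tb_eq] at this
      rw [bit, this] at e
      simpa [CharTwo.add_eq_zero] using e
    · have := all_range h4.2 (enG.lt u)
      have h5 : (iG u == iG c) = false := by simpa using fun e => hu (enG.inj e)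
      rw [h5, beq_iff_eq, tb_eq] at this
      rw [bit, this]; simp
  exact Matrix.toLin'.injective (LinearMap.ext fun y => by simp [this])

theorem hom_of_rel {A B : Type*} [Group A] [Group B] (R : Subgroup (A × B)) (G : Subgroup A)
    (hG : ∀ g ∈ G, ∃ y, (g, y) ∈ R) (h : ∀ p ∈ R, p.1 = 1 → p.2 = 1) :
    ∃ θ : G →* B, ∀ (g : G) y, ((g : A), y) ∈ R ↔ θ g = y := by
  choose f hf using hG
  have key : ∀ (g : G) y, ((g : A), y) ∈ R → f g g.2 = y := fun g y hy => by
    have := h _ (mul_mem (hf g g.2) (inv_mem hy)) (by simp)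
    simpa [mul_inv_eq_one] using this
  exact ⟨MonoidHom.mk' (fun g => f g g.2) fun a b => key _ _ (mul_mem (hf a a.2) (hf b b.2)),
    fun g y => ⟨key g y, fun e => e ▸ hf g g.2⟩⟩

section
variable {ω : K} (hω : ω ^ 2 + ω + 1 = 0)
include hω

theorem D6_m4 (X Y : ℕ × ℕ) : D6 ω (m4 X Y) = D6 ω X * D6 ω Y := by
  simp only [D6, m4, force_eq, d6_xor, d6_mp, add_mul, mul_add, smul_mul_assoc, mul_smul_comm, smul_add, smul_smul]
  have h1 : ω * ω = 1 + ω := by linear_combination hω - (ω + 1) * CharTwo.two_eq_zero (R := K)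
  rw [h1]
  linear_combination (norm := module) ω • madd_self (d6 K X.1 * d6 K Y.1)

theorem D6_cons (f : ℕ → ℕ × ℕ) (g : ℕ) (l : List ℕ) : D6 ω (pr4 f (g :: l)) = D6 ω (f g) * D6 ω (pr4 f l) := by
  rw [pr4, fo_eq, D6_m4 hω]

theorem schur {f : ℕ → ℕ × ℕ} {gs : List ℕ} {C : List (List (ℕ × List ℕ))} (h : scOK f gs C = true) {z : M6 K}
    (hz : ∀ g ∈ gs, Commute z (D6 ω (f g))) : ∃ a : K, z = a • (1 : M6 K) := by
  have h2 : ∀ w : List ℕ, w.all gs.contains = true → Commute z (D6 ω (pr4 f w)) := fun w hw => by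
    induction w with
    | nil => rw [pr4, D6_I]; exact Commute.one_right _
    | cons c w ih =>
      rw [List.all_cons, Bool.and_eq_true] at hw
      rw [D6_cons hω]
      exact (hz c (by simpa using hw.1)).mul_right (ih hw.2)
  have h3 : ∀ L : List (ℕ × List ℕ), L.all (fun x => x.2.all gs.contains) = true → Commute z (D6 ω (s4 f L)) :=
    fun L hL => by
      induction L with
      | nil => rw [s4, D6_fst, d6_zero]; exact Commute.zero_right _
      | cons x L ih =>
        rw [List.all_cons, Bool.and_eq_true] at hL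
        rw [s4, D6_a4, D6_m4 hω, D6_sm, d6_I, smul_mul_assoc, one_mul]
        exact ((h2 _ hL.1).smul_right _).add_right (ih hL.2)
  refine ⟨z 0 0, ?_⟩
  ext i j
  have h4 := all_range h j.2
  simp only [Bool.and_eq_true, beq_iff_eq] at h4
  have h5 := h3 _ h4.1
  rw [h4.2, D6_fst] at h5
  have h6 : d6 K (2 ^ (j : ℕ)) = Matrix.single j 0 1 := by
    ext a b
    rw [d6, dec_apply, bit_two_pow, Matrix.single_apply]
    have := a.2
    have := j.2
    congr 1
    simp only [Fin.ext_iff, eq_iff_iff, Fin.val_zero]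
    omega
  have h7 := congrFun (congrFun (h6 ▸ h5).eq i) 0
  by_cases hij : i = j
  · subst hij; simpa using h7
  · simpa [hij, Matrix.single_mul_apply_of_ne _ _ _ _ _ hij] using h7

def Sp (y : M6 K) : Prop := yᵀ * d6 K JJ * y = d6 K JJ

theorem JJ_mul : d6 K JJ * d6 K JJ = 1 := by rw [← D6_fst ω, ← D6_m4 hω, JJ_sq, D6_I]

theorem Sp.scalar {a : K} (h : Sp (a • (1 : M6 K))) : a = 1 := by
  have h1 := congrArg (· * d6 K JJ) h
  simp only [transpose_smul, transpose_one, smul_mul_assoc, mul_smul_comm, one_mul, mul_one, smul_smul,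
    JJ_mul hω] at h1
  exact sq_one (by simpa using congrFun (congrFun h1 0) 0)

theorem X_spec {r c : ℕ} (hr : r < 12) (hc : c < 4) : D6 ω (X6 r c) * D6 ω (X6 r c) = 1 ∧ Sp (D6 ω (X6 r c)) ∧
    Itw (D6 ω (X6 r c)) (chevG2.xMat K ⟨r, hr⟩ (cK ω c)) := by
  have h := all_range (all_range X_ok hr) hc
  simp only [fo_eq, Bool.and_eq_true, beq_iff_eq] at h
  obtain ⟨⟨⟨h1, h2⟩, h3⟩, h4⟩ := h
  have e1 : D6 ω (X6 r c) * D6 ω (X6 r c) = 1 := by rw [← D6_m4 hω, h1, D6_I]
  have tr : ∀ A B, isTr A B = true → d6 K A = (d6 K B)ᵀ := fun A B h => by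
    ext i j
    have := all_range (all_range h i.2) j.2
    simp only [beq_iff_eq, tb_eq] at this
    simp [d6, dec_apply, bit, this]
  refine ⟨e1, ?_, Itw.of_basis fun k => ?_⟩
  · have : (D6 ω (X6 r c))ᵀ = d6 K JJ * D6 ω (X6 r c) * d6 K JJ := by
      rw [← D6_fst ω, ← D6_m4 hω, ← D6_m4 hω, D6, D6, tr _ _ h2, tr _ _ h3, transpose_add, transpose_smul]
    rw [Sp, this, mul_assoc _ (d6 K JJ) (d6 K JJ), JJ_mul hω, mul_one, mul_assoc, e1, mul_one]
  · have t2 := CharTwo.two_eq_zero (R := K)
    have e2 : cK ω (sq c) = cK ω c ^ 2 ∧ cK ω (cu c) = cK ω c ^ 3 := by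
      interval_cases c <;> simp [cK, sq, cu] <;> constructor
      · linear_combination -hω + (ω + 1) * t2
      · linear_combination (1 - ω) * hω
      · linear_combination -hω
      · linear_combination (-ω - 2) * hω + t2
    have e3 : chevG2.xMat K ⟨r, hr⟩ (cK ω c) = dec K 16 iG iG (X14 r c).1 + ω • dec K 16 iG iG (X14 r c).2 := by
      rw [xMat_eq chevG2 ⟨r, hr⟩ (by decide) (all_range chkX_ok hr), ← e2.1, ← e2.2]
      have : ∀ t N, cK ω t • dec K 16 iG iG N = dec K 16 iG iG (sm t N).1 + ω • dec K 16 iG iG (sm t N).2 :=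
        fun t N => by
          simp only [sm, cK, add_smul]
          by_cases h1 : t % 2 = 1 <;> by_cases h2 : t / 2 = 1 <;> simp [dec_zero, h1, h2, Bool.cond_eq_ite]
      erw [this, this, this]
      simp only [X14, a4, dec_xor, dec_zero, show I14 = idP 16 14 by decide +kernel, dec_idP enG (by norm_num : 14 ≤ 16),
        smul_add]
      rw [smul_zero]; abel
    have h5 := congrArg (D6 ω) (beq_iff_eq.1 (all_range h4 (enG.lt k)))
    rw [D6_m4 hω, D6_m4 hω, D6_fst] at h5
    rw [e3, Matrix.add_mulVec, Matrix.smul_mulVec, Tm_add, Tm_smul, Tm_col, Tm_col, Tm_single]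
    exact h5

theorem exists_theta (h4 : ∀ t : K, ∃ c < 4, t = cK ω c) : ∃ θ : chevG2.group K →* GL (Fin 6) K,
    Function.Injective θ ∧ (∀ g, Sp (θ g : M6 K)) ∧ ∃ x : ℕ → ℕ → chevG2.group K,
      (∀ r < 12, ∀ c < 4, (θ (x r c) : M6 K) = D6 ω (X6 r c)) ∧
      ∀ L : Subgroup (chevG2.group K), (∀ r < 12, ∀ c < 4, x r c ∈ L) → L = ⊤ := by
  let R : Subgroup (GL chevG2.Idx K × GL (Fin 6) K) :=
    { carrier := {p | Sp (p.2 : M6 K) ∧ Itw (p.2 : M6 K) (p.1 : M14 K)}
      one_mem' := ⟨by simp [Sp], fun y => by simp⟩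
      mul_mem' := fun {p q} hp hq => ⟨by
        rw [Sp, Prod.snd_mul, Units.val_mul, transpose_mul, mul_assoc, mul_assoc, ← mul_assoc _ _ (q.2 : M6 K),
          ← mul_assoc _ _ (q.2 : M6 K), ← mul_assoc (p.2 : M6 K)ᵀ, hp.1, ← mul_assoc, hq.1], hp.2.mul hq.2⟩
      inv_mem' := fun {p} hp => ⟨by
        rw [Sp]
        conv_lhs => rw [← hp.1]
        rw [← mul_assoc, ← mul_assoc, ← transpose_mul, mul_assoc, Prod.snd_inv, Units.mul_inv]; simp, fun y => by
        have := hp.2 (((p⁻¹).1 : M14 K) *ᵥ y)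
        rw [Matrix.mulVec_mulVec, Prod.fst_inv, Units.mul_inv, Matrix.one_mulVec] at this
        rw [Prod.snd_inv, Prod.fst_inv, Units.mul_inv_eq_iff_eq_mul, mul_assoc, this, Units.inv_mul_cancel_left]⟩ }
  have hx : ∀ (r : Fin chevG2.nroots) c (hc : c < 4) (g : GL chevG2.Idx K), (g : M14 K) = chevG2.xMat K r (cK ω c) →
      (g, ⟨_, _, (X_spec hω r.2 hc).1, (X_spec hω r.2 hc).1⟩) ∈ R := fun r c hc g e =>
    ⟨(X_spec hω r.2 hc).2.1, by have := (X_spec hω r.2 hc).2.2; rw [← e] at this; exact this⟩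
  obtain ⟨θ, hθ⟩ := hom_of_rel R (chevG2.group K) (fun g hg => by
      have : chevG2.group K ≤ R.map (MonoidHom.fst _ _) := by
        rw [ChevalleyDatum.group, Subgroup.closure_le]
        rintro g ⟨r, t, e⟩
        obtain ⟨c, hc, rfl⟩ := h4 t
        exact ⟨_, hx r c hc g e, rfl⟩
      obtain ⟨p, hp, rfl⟩ := this hg
      exact ⟨p.2, hp⟩) fun p hp e => by
    obtain ⟨a, ha⟩ := schur hω scT_ok (z := p.2) fun c hc => by
      obtain ⟨i, rfl⟩ := enG.surj c (List.mem_range.1 hc)
      have := hp.2 (Pi.single i 1)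
      rw [e, Units.val_one, Matrix.one_mulVec, Tm_single] at this
      rw [D6_fst]; exact this.symm
    have h1 := hp.1
    rw [ha] at h1
    exact Units.ext (by rw [ha, h1.scalar hω, one_smul]; rfl)
  have hsq : ∀ r (hr : r < 12) c (hc : c < 4),
      chevG2.xMat K ⟨r, hr⟩ (cK ω c) * chevG2.xMat K ⟨r, hr⟩ (cK ω c) = 1 := fun r hr c hc => by
    have := (X_spec hω hr hc).2.2.mul (X_spec hω hr hc).2.2
    rw [(X_spec hω hr hc).1] at this
    exact this.eq_one
  refine ⟨θ, (injective_iff_map_eq_one θ).2 fun g e => Subtype.ext (Units.ext ((hθ g 1).2 e).2.eq_one),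
    fun g => ((hθ g _).2 rfl).1, fun r c => if h : r < 12 ∧ c < 4 then
      ⟨⟨_, _, hsq r h.1 c h.2, hsq r h.1 c h.2⟩, Subgroup.subset_closure ⟨⟨r, h.1⟩, _, rfl⟩⟩ else 1,
    fun r hr c hc => ?_, fun L hL => ?_⟩
  · simp only [dif_pos (And.intro hr hc)]
    rw [(hθ _ _).1 (hx ⟨r, hr⟩ c hc _ rfl)]
  · have : chevG2.group K ≤ L.map (chevG2.group K).subtype := by
      refine (Subgroup.closure_le _).2 ?_
      rintro g ⟨r, t, e⟩
      obtain ⟨c, hc, rfl⟩ := h4 t
      refine ⟨_, hL r r.2 c hc, Units.ext ?_⟩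
      beta_reduce
      rw [dif_pos (show (r : ℕ) < 12 ∧ c < 4 from ⟨r.2, hc⟩)]
      exact e.symm
    rw [eq_top_iff]
    intro g _
    obtain ⟨k, hk, e⟩ := this g.2
    rwa [← Subtype.ext e]

end

end Cfsg.Agent.H4.J2
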