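import Cfsg.Agent.H4.OT4

/-! Lifting representations of `l'`-groups from characteristic `l` to the complex numbers. -/

set_option autoImplicit false

namespace Cfsg.Agent.H4.OT

open Finset

theorem one_add_pow' {A : Type*} [Ring A] (x : A) (n : ℕ) : ∃ w, (1 + x) ^ n = 1 + n * x + x * x * w := by
  induction n with
  | zero => exact ⟨0, by simp⟩
  | succ n ih =>
    obtain ⟨w, hw⟩ := ih
    refine ⟨n + w * (1 + x), ?_⟩
    rw [pow_succ, hw, mul_add (x * x), ← (Nat.cast_commute n (x * x)).eq]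
    push_cast
    noncomm_ring

theorem lift_ring {G A B : Type*} [Group G] [Fintype G] [Ring A] [Finite A] [Ring B] {l : ℕ} [hl : Fact l.Prime]
    (hG : ¬ l ∣ Nat.card G)
    (φ : A →+* B) (h1 : Function.Surjective φ) (h2 : ∀ a, φ a = 0 → ∃ c, a = l * c) {m : ℕ} (h3 : (l : A) ^ m = 0)
    (ρ : G →* B) : ∃ σ : G →* A, ∀ (H : Subgroup G) [Fintype H], ∑ x : H, ρ x = 0 → ∑ x : H, σ x = 0 := by
  have nil : ∀ c : A, IsNilpotent (l * c) := fun c => ⟨m, by rw [(Nat.cast_commute l c).mul_pow, h3, zero_mul]⟩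
  have un : ∀ a, φ a = 1 → IsUnit a := fun a h => by
    obtain ⟨c, hc⟩ := h2 (a - 1) (by rw [map_sub, h, map_one, sub_self])
    rw [sub_eq_iff_eq_add.1 hc]
    exact (nil c).isUnit_add_one
  let Γ : Subgroup (G × Aˣ) := (ρ.comp (MonoidHom.fst _ _)).eqLocus
    (((φ : A →* B).comp (Units.coeHom A)).comp (MonoidHom.snd _ _))
  let π : Γ →* G := (MonoidHom.fst _ _).comp Γ.subtype
  have s1 : Function.Surjective π := fun g => by
    obtain ⟨a, ha⟩ := h1 (ρ g)
    obtain ⟨b, hb⟩ := h1 (ρ g⁻¹)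
    obtain ⟨u, hu⟩ := un (a * b) (by rw [map_mul, ha, hb, ← map_mul, mul_inv_cancel, map_one])
    obtain ⟨v, hv⟩ := un (b * a) (by rw [map_mul, ha, hb, ← map_mul, inv_mul_cancel, map_one])
    have e1 : a * (b * ↑u⁻¹) = 1 := by rw [← mul_assoc, ← hu, Units.mul_inv]
    have e2 : (↑v⁻¹ * b) * a = 1 := by rw [mul_assoc, ← hv, Units.inv_mul]
    exact ⟨⟨(g, ⟨a, _, e1, by rw [← left_inv_eq_right_inv e2 e1, e2]⟩), ha.symm⟩, rfl⟩
  have s2 : IsPGroup l π.ker := fun ⟨⟨⟨g, u⟩, hu⟩, hg⟩ => ⟨m, by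
    obtain rfl : g = 1 := hg
    have : ∀ j, ∃ c, (u : A) ^ l ^ j = 1 + (l : A) ^ (j + 1) * c := fun j => by
      induction j with
      | zero =>
        obtain ⟨c, hc⟩ := h2 (u - 1) (by rw [map_sub, map_one, sub_eq_zero]; exact hu.symm.trans ρ.map_one)
        exact ⟨c, by simp [← hc]⟩
      | succ j ih =>
        obtain ⟨c, hc⟩ := ih
        obtain ⟨w, hw⟩ := one_add_pow' ((l : A) ^ (j + 1) * c) l
        refine ⟨c + (l : A) ^ j * (c * c * w), ?_⟩
        have := ((Nat.cast_commute l c).pow_left (j + 1)).eq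
        rw [pow_succ l j, pow_mul, hc, hw, mul_add, add_assoc, ← mul_assoc (l : A), ← pow_succ', ← mul_assoc _ ((l : A) ^ j),
          ← pow_add, mul_assoc _ c, ← mul_assoc c, ← this, ← mul_assoc, ← mul_assoc, ← pow_add,
          show j + 1 + (j + 1) = j + 1 + 1 + j by ring]
        simp only [mul_assoc]
    obtain ⟨c, hc⟩ := this m
    rw [pow_succ, h3, zero_mul, zero_mul, add_zero] at hc
    exact Subtype.ext (Subtype.ext (Prod.ext (one_pow _) (Units.ext hc)))⟩
  obtain ⟨j, hj⟩ := IsPGroup.iff_card.1 s2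
  obtain ⟨K, hK⟩ := Subgroup.exists_right_complement'_of_coprime (N := π.ker) (by
    rw [hj, Subgroup.index_ker, MonoidHom.range_eq_top.2 s1, Subgroup.card_top]
    exact (hl.out.coprime_iff_not_dvd.2 hG).pow_left j)
  let e := MulEquiv.ofBijective (π.comp K.subtype) ⟨(injective_iff_map_eq_one _).2 fun x hx =>
    Subtype.ext (Subgroup.disjoint_def.1 hK.disjoint hx x.2), fun g => by
      obtain ⟨x, rfl⟩ := s1 g
      obtain ⟨⟨y, z⟩, rfl⟩ := hK.2 x
      exact ⟨z, by simp [show π y = 1 from y.2]⟩⟩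
  let σ := (((Units.coeHom A).comp (MonoidHom.snd _ _)).comp (Γ.subtype.comp K.subtype)).comp e.symm.toMonoidHom
  have s3 : ∀ g, φ (σ g) = ρ g := fun g => (e.symm g).1.2.symm.trans (congrArg ρ (e.apply_symm_apply g))
  refine ⟨σ, fun H _ hH => ?_⟩
  obtain ⟨c, hc⟩ := h2 (∑ x : H, σ x) (by simp only [map_sum, s3, hH])
  have s4 : (∑ x : H, σ x) * ∑ x : H, σ x = Nat.card H * ∑ x : H, σ x := by
    rw [sum_mul, sum_congr rfl fun (x : H) _ => show σ x * ∑ y : H, σ y = ∑ y : H, σ y by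
      rw [mul_sum]; exact Fintype.sum_equiv (Equiv.mulLeft x) _ _ fun y => by simp, sum_const, card_univ,
      ← Nat.card_eq_fintype_card, nsmul_eq_mul]
  generalize ∑ x : H, σ x = s at hc s4
  have s5 : IsUnit ((Nat.card H : A) - s) := by
    obtain ⟨u, v, e⟩ := Nat.isCoprime_iff_coprime.2 ((hl.out.coprime_iff_not_dvd.2 fun h =>
      hG (h.trans H.card_subgroup_dvd_card)).pow_left m)
    have e1 := congrArg (Int.cast : ℤ → A) e
    push_cast at e1
    rw [h3, mul_zero, zero_add] at e1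
    rw [sub_eq_add_neg, hc]
    exact (nil c).neg.isUnit_add_left_of_commute ⟨⟨_, _, (Nat.cast_commute _ _).eq.trans e1, e1⟩, rfl⟩
      (Nat.commute_cast _ _)
  exact s5.mul_right_eq_zero.1 (by rw [sub_mul, s4, sub_self])

theorem lift_l {G : Type*} [Group G] [Fintype G] {l : ℕ} [hl : Fact l.Prime] (hG : ¬ l ∣ Nat.card G) {n : ℕ}
    (ρ : G →* Matrix (Fin n) (Fin n) (ZMod l)) : ∃ σ : Representation ℂ G (Fin n → ℂ),
    ∀ (H : Subgroup G) [Fintype H], ∑ x : H, ρ x = 0 → ∑ x : H, σ x = 0 := by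
  have : ∀ k, NeZero (l ^ (k + 1)) := fun k => ⟨pow_ne_zero _ hl.out.ne_zero⟩
  have k1 : ∀ k, l ∣ l ^ (k + 1) := fun k => dvd_pow_self l k.succ_ne_zero
  choose σ hσ using fun k : ℕ => lift_ring (m := k + 1) hG
    (ZMod.castHom (k1 k) (ZMod l)).mapMatrix (fun M => by
      choose N hN using fun i j => ZMod.ringHom_surjective (ZMod.castHom (k1 k) (ZMod l)) (M i j)
      exact ⟨N, Matrix.ext hN⟩) (fun M hM => by
      have : ∀ i j, ∃ c, M i j = l * c := fun i j => by
        obtain ⟨z, hz⟩ := ZMod.intCast_surjective (M i j)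
        have := congrFun (congrFun hM i) j
        rw [RingHom.mapMatrix_apply, Matrix.map_apply, ← hz, map_intCast, Matrix.zero_apply,
          ZMod.intCast_zmod_eq_zero_iff_dvd] at this
        obtain ⟨c, rfl⟩ := this
        exact ⟨c, by rw [← hz]; simp⟩
      choose N hN using this
      exact ⟨Matrix.of N, by rw [← nsmul_eq_mul]; ext i j; simp [hN]⟩) (by
      rw [← map_natCast (algebraMap (ZMod (l ^ (k + 1))) (Matrix (Fin n) (Fin n) (ZMod (l ^ (k + 1))))), ← map_pow, show (l : ZMod (l ^ (k + 1))) ^ (k + 1) = 0 by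
        exact_mod_cast ZMod.natCast_self (l ^ (k + 1)), map_zero]) ρ
  haveI : CharZero (∀ k : ℕ, ZMod (l ^ (k + 1))) := charZero_of_inj_zero fun N hN => by
    have := congrFun hN N
    rw [Pi.natCast_apply, Pi.zero_apply, ZMod.natCast_eq_zero_iff] at this
    exact Nat.eq_zero_of_dvd_of_lt this ((Nat.lt_pow_self hl.out.one_lt).trans (Nat.pow_lt_pow_right hl.out.one_lt N.lt_succ_self))
  obtain ⟨y, hy⟩ := exists_spec (P := ∀ k : ℕ, ZMod (l ^ (k + 1))) fun (t : G × Fin n × Fin n) k => σ k t.1 t.2.1 t.2.2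
  let τ : G →* Matrix (Fin n) (Fin n) ℂ :=
    { toFun := fun g => Matrix.of fun i j => y (g, i, j)
      map_one' := by
        ext i j
        have := hy (MvPolynomial.X (1, i, j) - if i = j then 1 else 0) (by
          funext k; by_cases e : i = j <;> simp [e, Matrix.one_apply])
        by_cases e : i = j <;> simpa [e, Matrix.one_apply, sub_eq_zero] using this
      map_mul' := fun g h => by
        ext i j
        have := hy (MvPolynomial.X (g * h, i, j) - ∑ l, MvPolynomial.X (g, i, l) * MvPolynomial.X (h, l, j)) (by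
          funext k; simp [Matrix.mul_apply])
        simpa [Matrix.mul_apply, sub_eq_zero] using this }
  refine ⟨(Matrix.toLinAlgEquiv' : _ ≃ₐ[ℂ] _).toMonoidHom.comp τ, fun H _ hH => ?_⟩
  have : ∑ x : H, τ x = 0 := by
    ext i j
    have := hy (∑ x : H, MvPolynomial.X (x.1, i, j)) (by
      funext k
      simpa [Matrix.sum_apply] using congrFun (congrFun (hσ k H hH) i) j)
    simpa [Matrix.sum_apply, τ] using this
  exact (map_sum (Matrix.toLinAlgEquiv' : _ ≃ₐ[ℂ] _) _ _).symm.trans (by rw [this, map_zero])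

theorem exists_rep0 {E V : Type*} [Group E] [Fintype E] [AddCommGroup V] [Finite V] [Nontrivial V]
    {l : ℕ} [hl : Fact l.Prime] (hG : ¬ l ∣ Nat.card E) [Module (ZMod l) V] (ρ : E →* AddMonoid.End V) :
    ∃ (n : ℕ) (σ : Representation ℂ E (Fin n → ℂ)), n ≠ 0 ∧
      ∀ (H : Subgroup E) [Fintype H], (∀ a : V, (∀ x ∈ H, ρ x a = a) → a = 0) → ∑ x : H, σ x = 0 := by
  let b := Module.finBasis (ZMod l) V
  let f : E →* Module.End (ZMod l) V :=
    { toFun := fun g => AddMonoidHom.toZModLinearMap l (ρ g)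
      map_one' := LinearMap.ext fun v => DFunLike.congr_fun ρ.map_one v
      map_mul' := fun g h => LinearMap.ext fun v => DFunLike.congr_fun (ρ.map_mul g h) v }
  obtain ⟨σ, hσ⟩ := lift_l hG ((LinearMap.toMatrixAlgEquiv b).toMonoidHom.comp f)
  refine ⟨_, σ, Module.finrank_pos.ne', fun H _ hH => hσ H ?_⟩
  refine (map_sum (LinearMap.toMatrixAlgEquiv b) _ _).symm.trans ?_
  rw [show ∑ x : H, f x = 0 from LinearMap.ext fun v => hH _ fun x hx => ?_, map_zero]
  have : f x * ∑ y : H, f y = ∑ y : H, f y := by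
    simp only [mul_sum, ← map_mul]
    exact Fintype.sum_equiv (Equiv.mulLeft ⟨x, hx⟩) _ _ fun _ => rfl
  exact LinearMap.congr_fun this v

theorem exists_rep {E A : Type*} [Group E] [Fintype E] [CommGroup A] [Finite A] [Nontrivial A]
    [MulDistribMulAction E A] (h : (Nat.card A).Coprime (Nat.card E)) :
    ∃ (n : ℕ) (σ : Representation ℂ E (Fin n → ℂ)), n ≠ 0 ∧
      ∀ (H : Subgroup E) [Fintype H], (∀ a : A, (∀ x ∈ H, x • a = a) → a = 1) → ∑ x : H, σ x = 0 := by
  obtain ⟨l, hl, hd⟩ := Nat.exists_prime_and_dvd (Finite.one_lt_card (α := A)).ne'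
  have := Fact.mk hl
  obtain ⟨x, hx⟩ := exists_prime_orderOf_dvd_card' l hd
  have : Nontrivial (powMonoidHom l : A →* A).ker := ⟨⟨⟨x, hx ▸ pow_orderOf_eq_one x⟩, 1, fun e =>
    hl.ne_one (by rw [← hx, show x = 1 from congrArg Subtype.val e, orderOf_one])⟩⟩
  letI := AddCommGroup.zmodModule (G := Additive (powMonoidHom l : A →* A).ker) (n := l) fun v => Subtype.ext v.toMul.2
  obtain ⟨n, σ, h1, h2⟩ := exists_rep0 (V := Additive (powMonoidHom l : A →* A).ker)
    (fun e => hl.ne_one (Nat.eq_one_of_dvd_coprimes h hd e))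
    { toFun := fun g => MonoidHom.toAdditive
        (((MulDistribMulAction.toMonoidHom A g).comp (Subgroup.subtype _)).codRestrict _ fun v => by
          change (g • (v : A)) ^ l = 1
          rw [← smul_pow', show (v : A) ^ l = 1 from v.2, smul_one])
      map_one' := AddMonoidHom.ext fun v => Subtype.ext (one_smul E _)
      map_mul' := fun g h => AddMonoidHom.ext fun v => Subtype.ext (mul_smul g h _) }
  exact ⟨n, σ, h1, fun H _ hH => h2 H fun a ha => Subtype.ext (hH _ fun x hx => congrArg Subtype.val (ha x hx))⟩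

end Cfsg.Agent.H4.OT
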