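import Cfsg.Agent.H4.TI

/-! Eigenvalue arguments for elements of order dividing `q² - q + 1` in dimension seven. -/

set_option autoImplicit false
open Matrix Polynomial

namespace Cfsg.Agent.H4.Ree

variable {L : Type*} [Field L]

theorem sum_rootMultiplicity_le [DecidableEq L] (p : L[X]) (t : Finset L) :
    ∑ x ∈ t, rootMultiplicity x p ≤ p.natDegree := by
  refine le_trans ?_ (card_roots' p)
  simp only [← count_roots]
  calc ∑ x ∈ t, Multiset.count x p.roots = ∑ x ∈ t, Multiset.count x (p.roots.filter (· ∈ t)) :=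
        Finset.sum_congr rfl fun x hx => (Multiset.count_filter_of_pos hx).symm
    _ = Multiset.card (p.roots.filter (· ∈ t)) :=
        Multiset.sum_count_eq_card fun a ha => (Multiset.mem_filter.1 ha).2
    _ ≤ _ := Multiset.card_le_card (Multiset.filter_le _ _)

theorem isRoot_iff {n : Type*} [Fintype n] [DecidableEq n] (Y : Matrix n n L) (μ : L) :
    Y.charpoly.IsRoot μ ↔ ∃ v ≠ 0, Y *ᵥ v = μ • v := by
  rw [← Matrix.charpoly_toLin', ← Module.End.hasEigenvalue_iff_isRoot_charpoly]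
  constructor
  · intro h
    obtain ⟨v, hv⟩ := h.exists_hasEigenvector
    exact ⟨v, hv.2, hv.apply_eq_smul⟩
  · rintro ⟨v, hv, e⟩
    exact Module.End.hasEigenvalue_of_hasEigenvector ⟨Module.End.mem_eigenspace_iff.2 e, hv⟩

theorem eq_smul_of_mult {n : Type*} [Fintype n] [DecidableEq n] {Y : Matrix n n L} {μ : L}
    (h : rootMultiplicity μ Y.charpoly ≤ 1) {v w : n → L} (hv0 : v ≠ 0) (hv : Y *ᵥ v = μ • v)
    (hw : Y *ᵥ w = μ • w) : ∃ c : L, w = c • v := by
  have h1 := LinearMap.finrank_eigenspace_le (Matrix.toLin' Y) μ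
  rw [Matrix.charpoly_toLin'] at h1
  obtain ⟨u, hu⟩ := finrank_le_one_iff.1 (h1.trans h)
  obtain ⟨a, ha⟩ := hu ⟨v, Module.End.mem_eigenspace_iff.2 hv⟩
  obtain ⟨b, hb⟩ := hu ⟨w, Module.End.mem_eigenspace_iff.2 hw⟩
  have ha : a • (u : n → L) = v := congrArg Subtype.val ha
  have hb : b • (u : n → L) = w := congrArg Subtype.val hb
  have ha0 : a ≠ 0 := by rintro rfl; exact hv0 (by rw [← ha, zero_smul])
  exact ⟨b / a, by rw [← ha, ← hb, smul_smul, div_mul_cancel₀ _ ha0]⟩

variable [CharP L 3] {F : L →+* L}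

theorem good_six {μ : L} (h0 : μ ≠ 0) (h : F (F μ) * μ = F μ) : F^[6] μ = μ := by
  have h1 := congrArg F h
  have h2 : F μ ≠ 0 := (map_ne_zero F).2 h0
  rw [map_mul] at h1
  have h3 : F (F (F μ)) = μ⁻¹ := by grind
  show F (F (F (F (F (F μ))))) = μ
  rw [h3, map_inv₀, map_inv₀, map_inv₀, h3, inv_inv]

theorem good_ne {μ : L} (h0 : μ ≠ 0) (h : F (F μ) * μ = F μ) (h1 : μ ≠ 1) : F μ ≠ μ := by
  intro e
  rw [e, e] at h
  grind

theorem good_period {μ : L} (h0 : μ ≠ 0) (h : F (F μ) * μ = F μ) (h1 : μ ≠ 1) :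
    Function.minimalPeriod F μ = 6 := by
  have h6 : Function.IsPeriodicPt F 6 μ := good_six h0 h
  have hp : F^[Function.minimalPeriod F μ] μ = μ := Function.isPeriodicPt_minimalPeriod F μ
  have hd := h6.minimalPeriod_dvd
  have : ∀ d, d ∣ 6 → d = 1 ∨ d = 2 ∨ d = 3 ∨ d = 6 := by
    intro d hd
    have := Nat.le_of_dvd (by decide) hd
    interval_cases d <;> simp_all
  rcases this _ hd with e | e | e | e
  · rw [e] at hp; exact absurd hp (good_ne h0 h h1)
  · rw [e] at hp
    have hp : F (F μ) = μ := hp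
    have h2 := congrArg F h
    rw [map_mul, hp] at h2
    grind
  · rw [e] at hp
    have hp : F (F (F μ)) = μ := hp
    have h2 := congrArg F h
    have h3 : F μ ≠ 0 := (map_ne_zero F).2 h0
    rw [map_mul, hp] at h2
    have h4 : μ = -1 := by grind
    rw [h4, map_neg, map_one, map_neg, map_one] at h
    grind
  · exact e

open Classical in
/-- the orbit of an eigenvalue -/
noncomputable def orb (F : L →+* L) (μ : L) : Finset L := (Finset.range 6).image fun i => F^[i] μ

theorem card_orb {μ : L} (h0 : μ ≠ 0) (h : F (F μ) * μ = F μ) (h1 : μ ≠ 1) : (orb F μ).card = 6 := by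
  classical
  rw [orb, Finset.card_image_of_injOn, Finset.card_range]
  have := Function.iterate_injOn_Iio_minimalPeriod (f := F) (x := μ)
  rwa [good_period h0 h h1, ← Finset.coe_range] at this

omit [CharP L 3] in
theorem mult_orb {p : L[X]} (hp : p.map F = p) {μ x : L} (hx : x ∈ orb F μ) :
    rootMultiplicity x p = rootMultiplicity μ p := by
  classical
  obtain ⟨i, -, rfl⟩ := Finset.mem_image.1 hx
  clear hx
  induction i with
  | zero => rfl
  | succ i ih =>
    rw [Function.iterate_succ_apply', ← ih, eq_rootMultiplicity_map F.injective (F^[i] μ), hp]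

theorem sum_orb {p : L[X]} (hp : p.map F = p) {μ : L} (h0 : μ ≠ 0) (h : F (F μ) * μ = F μ)
    (h1 : μ ≠ 1) : ∑ x ∈ orb F μ, rootMultiplicity x p = 6 * rootMultiplicity μ p := by
  rw [Finset.sum_congr rfl fun x hx => mult_orb hp hx, Finset.sum_const, card_orb h0 h h1,
    smul_eq_mul]

theorem mult_le_one {p : L[X]} (hp : p.map F = p) (hd : p.natDegree = 7) {ζ : L} (h0 : ζ ≠ 0)
    (h : F (F ζ) * ζ = F ζ) (h1 : ζ ≠ 1) (hr : p.IsRoot ζ) (μ : L) : rootMultiplicity μ p ≤ 1 := by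
  classical
  have hp0 : p ≠ 0 := by rintro rfl; simp at hd
  have h2 := (rootMultiplicity_pos hp0).2 hr
  by_cases hm : μ ∈ orb F ζ
  · have := sum_rootMultiplicity_le p (orb F ζ)
    rw [sum_orb hp h0 h h1] at this
    rw [mult_orb hp hm]; omega
  · have := sum_rootMultiplicity_le p (insert μ (orb F ζ))
    rw [Finset.sum_insert hm, sum_orb hp h0 h h1] at this
    omega

theorem mem_orb {p : L[X]} (hp : p.map F = p) (hd : p.natDegree = 7) {ζ : L} (h0 : ζ ≠ 0)
    (h : F (F ζ) * ζ = F ζ) (h1 : ζ ≠ 1) (hr : p.IsRoot ζ) {μ : L} (g0 : μ ≠ 0)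
    (g : F (F μ) * μ = F μ) (g1 : μ ≠ 1) (gr : p.IsRoot μ) : μ ∈ orb F ζ := by
  classical
  have hp0 : p ≠ 0 := by rintro rfl; simp at hd
  have h2 := (rootMultiplicity_pos hp0).2 hr
  have g2 := (rootMultiplicity_pos hp0).2 gr
  by_contra hm
  have hm' : F μ ∉ orb F ζ := by
    intro h3
    obtain ⟨i, hi, e⟩ := Finset.mem_image.1 h3
    apply hm
    rcases i with _ | i
    · refine Finset.mem_image.2 ⟨5, by simp, F.injective ?_⟩
      rw [← e, ← Function.iterate_succ_apply' F 5 ζ]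
      exact good_six h0 h
    · rw [Function.iterate_succ_apply'] at e
      exact Finset.mem_image.2 ⟨i, by simp at hi ⊢; omega, F.injective e⟩
  have := sum_rootMultiplicity_le p (insert μ (insert (F μ) (orb F ζ)))
  rw [Finset.sum_insert (by simp [hm, (good_ne g0 g g1).symm]), Finset.sum_insert hm',
    sum_orb hp h0 h h1, ← hp, ← eq_rootMultiplicity_map F.injective μ, hp] at this
  omega

theorem exists_root_ne_one [IsAlgClosed L] {Y : Matrix (Fin 7) (Fin 7) L} (hY : Y ^ 9 ≠ 1) :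
    ∃ ζ ≠ 1, Y.charpoly.IsRoot ζ := by
  have : Fact (Nat.Prime 3) := ⟨Nat.prime_three⟩
  by_contra! h
  apply hY
  have h1 : Y.charpoly.roots = Multiset.replicate 7 1 := by
    rw [Multiset.eq_replicate]
    refine ⟨?_, fun b hb => ?_⟩
    · rw [← (IsAlgClosed.splits Y.charpoly).natDegree_eq_card_roots, charpoly_natDegree_eq_dim,
        Fintype.card_fin]
    · by_contra hb1
      exact h b hb1 (isRoot_of_mem_roots hb)
  have h2 := (IsAlgClosed.splits Y.charpoly).eq_prod_roots_of_monic Y.charpoly_monic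
  rw [h1, Multiset.map_replicate, Multiset.prod_replicate] at h2
  have h3 := Matrix.aeval_self_charpoly Y
  rw [h2] at h3
  have h4 : aeval Y ((X - C (1 : L)) ^ 3 ^ 2) = 0 := by
    rw [show 3 ^ 2 = 2 + 7 from rfl, pow_add, map_mul, h3, mul_zero]
  rw [sub_pow_char_pow] at h4
  simpa [sub_eq_zero] using h4

section group
variable {G : Type*} [Group G] (β : G →* Matrix (Fin 7) (Fin 7) L) {m : ℕ}

omit [CharP L 3] in
theorem eig_pow {x : G} {v : Fin 7 → L} {μ : L} (h : β x *ᵥ v = μ • v) (k : ℕ) :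
    β (x ^ k) *ᵥ v = μ ^ k • v := by
  induction k with
  | zero => simp
  | succ k ih => rw [pow_succ, map_mul, ← mulVec_mulVec, h, mulVec_smul, ih, smul_smul, pow_succ']

omit [CharP L 3] in
theorem eig_pow_eq_one {x : G} (hx : x ^ m = 1) {v : Fin 7 → L} (hv : v ≠ 0) {μ : L}
    (h : β x *ᵥ v = μ • v) : μ ^ m = 1 := by
  have := eig_pow β h m
  rw [hx, map_one, one_mulVec] at this
  exact (smul_left_injective L hv (this.symm.trans (one_smul _ _).symm))

variable [IsAlgClosed L] (hβ : Function.Injective β) (hF : ∀ g, (β g).map F = β g)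
  (hm : Nat.Coprime m 3) (hM : ∀ μ : L, μ ^ m = 1 → F (F μ) * μ = F μ)
include hβ hF hm hM

omit hF hM in
theorem exists_eig {y : G} (h1 : y ≠ 1) (hy : y ^ m = 1) : ∃ ζ ≠ 1, (β y).charpoly.IsRoot ζ := by
  apply exists_root_ne_one
  intro h
  rw [← map_pow, ← map_one β] at h
  have := pow_gcd_eq_one.2 ⟨hy, hβ h⟩
  rw [show Nat.gcd m 9 = 1 from hm.mul_right hm, pow_one] at this
  exact h1 this

omit hβ hF hM [CharP L 3] [IsAlgClosed L] in
theorem ne_zero_of_pow {μ : L} (h : μ ^ m = 1) : μ ≠ 0 := by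
  rintro rfl
  rw [zero_pow (by rintro rfl; simp at hm)] at h
  exact zero_ne_one h

theorem eig_unique {y : G} (h1 : y ≠ 1) (hy : y ^ m = 1) {μ : L} {v w : Fin 7 → L} (hv0 : v ≠ 0)
    (hv : β y *ᵥ v = μ • v) (hw : β y *ᵥ w = μ • w) : ∃ c : L, w = c • v := by
  obtain ⟨ζ, hζ, hr⟩ := exists_eig β hβ hm h1 hy
  obtain ⟨u, hu, e⟩ := (isRoot_iff _ _).1 hr
  have := eig_pow_eq_one β hy hu e
  exact eq_smul_of_mult (mult_le_one (F := F) (by rw [← Matrix.charpoly_map, hF]) (by simp)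
    (ne_zero_of_pow hm this) (hM _ this) hζ hr μ) hv0 hv hw

theorem cent_struct [Finite G] {y : G} (h1 : y ≠ 1)
    (hA : ∀ x ∈ Subgroup.centralizer {y}, x ^ m = 1) :
    IsCyclic (Subgroup.centralizer {y}) ∧
      (cj (Subgroup.normalizer (Subgroup.centralizer {y} : Set G)) {y}).ncard ≤ 6 := by
  have hyA : y ∈ Subgroup.centralizer {y} := Subgroup.mem_centralizer_singleton_iff.2 rfl
  have hy := hA y hyA
  obtain ⟨ζ, hζ, hr⟩ := exists_eig β hβ hm h1 hy
  obtain ⟨v, hv, e⟩ := (isRoot_iff _ _).1 hr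
  have hζm := eig_pow_eq_one β hy hv e
  have key : ∀ x : Subgroup.centralizer {y}, ∃ c : L, β x *ᵥ v = c • v := fun x =>
    eig_unique β hβ hF hm hM h1 hy hv e (by
      rw [mulVec_mulVec, ← map_mul, ← Subgroup.mem_centralizer_singleton_iff.1 x.2, map_mul,
        ← mulVec_mulVec, e, mulVec_smul])
  choose c hc using key
  let χ : Subgroup.centralizer {y} →* L :=
    { toFun := c
      map_one' := smul_left_injective L hv (by simpa using (hc 1).symm)
      map_mul' := fun x z => smul_left_injective L hv (by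
        simp only
        rw [← hc, Subgroup.coe_mul, map_mul, ← mulVec_mulVec, hc z, mulVec_smul, hc x, smul_smul,
          mul_comm]) }
  have hF' : ∀ (g : G) (μ : L), β g *ᵥ v = μ • v → β g *ᵥ (F ∘ v) = F μ • (F ∘ v) := by
    intro g μ h
    funext i
    rw [← hF g, ← RingHom.map_mulVec, h]
    simp
  have hker : ∀ x, c x = 1 → x = 1 := by
    intro x hx
    by_contra hx1
    have h2 := hc x
    obtain ⟨d, hd⟩ := eig_unique β hβ hF hm hM (fun e => hx1 (Subtype.ext e)) (hA x x.2) hv h2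
      (by rw [hF' _ _ h2, hx, map_one])
    have h3 := hF' _ _ e
    have hd0 : d ≠ 0 := by
      rintro rfl
      apply hv
      funext i
      exact (map_eq_zero F).1 (by simpa using congrFun hd i)
    rw [hd, mulVec_smul, e, smul_smul, smul_smul] at h3
    have h4 : d * ζ = F ζ * d := smul_left_injective L hv h3
    exact good_ne (ne_zero_of_pow hm hζm) (hM _ hζm) hζ (by grind)
  have hinj : Function.Injective χ := by
    intro x z h
    rw [← mul_inv_eq_one]
    apply hker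
    show χ _ = 1
    rw [map_mul, h, ← map_mul, mul_inv_cancel, map_one]
  refine ⟨isCyclic_of_injective_ringHom χ hinj, ?_⟩
  rw [← card_orb (ne_zero_of_pow hm hζm) (hM _ hζm) hζ, ← Set.ncard_coe_finset]
  have hmem : ∀ x ∈ cj (Subgroup.normalizer (Subgroup.centralizer {y} : Set G)) {y},
      x ∈ Subgroup.centralizer {y} := by
    rintro _ ⟨k, hk, _, rfl, rfl⟩
    exact (Subgroup.mem_normalizer_iff.1 hk _).1 hyA
  rw [← Nat.card_coe_set_eq, ← Nat.card_coe_set_eq]
  refine Nat.card_le_card_of_injective (fun x => ⟨χ ⟨x.1, hmem _ x.2⟩, ?_⟩)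
    (fun x z h => Subtype.ext (Subtype.mk.inj (hinj (Subtype.mk.inj h))))
  obtain ⟨x, k, hk, _, rfl, rfl⟩ := x
  have h2 := hc ⟨_, hmem _ ⟨k, hk, _, rfl, rfl⟩⟩
  have h3 := eig_pow_eq_one β (hA _ (hmem _ ⟨k, hk, _, rfl, rfl⟩)) hv h2
  refine mem_orb (F := F) (by rw [← Matrix.charpoly_map, hF]) (by simp)
    (ne_zero_of_pow hm hζm) (hM _ hζm) hζ hr (ne_zero_of_pow hm h3) (hM _ h3)
    (fun h => h1 (conj_eq_one (congrArg Subtype.val (hker _ h)))) ((isRoot_iff _ _).2
      ⟨β k⁻¹ *ᵥ v, fun h => hv ?_, ?_⟩)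
  · rw [← one_mulVec v, ← map_one β, ← mul_inv_cancel k, map_mul, ← mulVec_mulVec, h, mulVec_zero]
  · rw [← mulVec_smul]
    show _ = β k⁻¹ *ᵥ (c _ • v)
    rw [← h2, mulVec_mulVec, mulVec_mulVec, ← map_mul, ← map_mul]
    simp [mul_assoc]

end group

end Cfsg.Agent.H4.Ree
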