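import Cfsg.Agent.H4.ReeTorus
import Cfsg.Agent.H4.ReeEigen

/-! Counting the fixed-point-free elements of the small Ree group. -/

set_option autoImplicit false
open Matrix
open scoped MatrixGroups

namespace Cfsg.Agent.H4

theorem eq_one_of_conj_mem {G : Type*} [Group G] {W : Subgroup G} {m : ℕ}
    (hW : Nat.Coprime m (Nat.card W)) {y k : G} (hy : y ^ m = 1) (h : k⁻¹ * y * k ∈ W) : y = 1 := by
  have h1 : (k⁻¹ * y * k⁻¹⁻¹) ^ Nat.card W = 1 := by
    rw [inv_inv]; exact congrArg Subtype.val (pow_card_eq_one' (x := (⟨_, h⟩ : W)))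
  rw [conj_pow] at h1
  have := pow_gcd_eq_one.2 ⟨hy, conj_eq_one h1⟩
  rwa [hW, pow_one] at this

theorem sum_ite_mem {G : Type*} [Fintype G] (s : Set G) [DecidablePred (· ∈ s)] (c : ℕ) :
    ∑ g, (if g ∈ s then c else 0) = c * s.ncard := by
  rw [← Finset.sum_filter, Finset.sum_const, smul_eq_mul, mul_comm, ← Set.ncard_coe_finset]
  simp

namespace Ree

variable {K : Type*} [Field K] [CharP K 3] {φ : K →+* K} {G : Type*} [Group G]

namespace Model

variable (M : Model G φ)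

/-- the normaliser of the split torus -/
def Nn : Subgroup G where
  carrier := {g | (∃ l, g = M.h l) ∨ ∃ l, g = M.n * M.h l}
  mul_mem' := by
    rintro _ _ (⟨l, rfl⟩ | ⟨l, rfl⟩) (⟨l', rfl⟩ | ⟨l', rfl⟩)
    · exact Or.inl ⟨l * l', (map_mul _ _ _).symm⟩
    · exact Or.inr ⟨l⁻¹ * l', by rw [← mul_assoc, h_n, map_mul, mul_assoc]⟩
    · exact Or.inr ⟨l * l', by rw [map_mul, mul_assoc]⟩
    · exact Or.inl ⟨l⁻¹ * l', by rw [← mul_assoc, n_h, map_mul]⟩
  one_mem' := Or.inl ⟨1, (map_one _).symm⟩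
  inv_mem' := by
    rintro _ (⟨l, rfl⟩ | ⟨l, rfl⟩)
    · exact Or.inl ⟨l⁻¹, (map_inv _ _).symm⟩
    · exact Or.inr ⟨l, inv_eq_of_mul_eq_one_right (M.nh_sq l)⟩

theorem conj_h {k : G} (hk : k ∈ M.Nn) (l : Kˣ) :
    k * M.h l * k⁻¹ = M.h l ∨ k * M.h l * k⁻¹ = M.h l⁻¹ := by
  rcases hk with ⟨l', rfl⟩ | ⟨l', rfl⟩
  · left; rw [← map_inv, ← map_mul, ← map_mul, mul_inv_cancel_comm]
  · right
    rw [_root_.mul_inv_rev, n_inv, ← M.n_h l, ← map_inv]
    simp only [mul_assoc, mul_right_inj]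
    rw [← mul_assoc, ← mul_assoc, ← map_mul, ← map_mul, mul_inv_cancel_comm]

theorem fix_h {l : Kˣ} (hl : l * l ≠ 1) {c : G ⧸ M.B} (h : M.h l • c = c) :
    c = M.o ∨ c = M.n • M.o := by
  by_contra! h1
  exact hl (M.sq_eq_one_of_fix h1.1 h1.2 h)

theorem mem_Nn {k : G} {l l' : Kˣ} (hl : l' * l' ≠ 1) (h : k * M.h l * k⁻¹ = M.h l') : k ∈ M.Nn := by
  have h1 := M.fix_h hl (c := k • M.o) (by rw [← h, mul_smul, inv_smul_smul, mul_smul, h_fix])
  have h2 := M.fix_h hl (c := k • M.n • M.o)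
    (by rw [← h, mul_smul, inv_smul_smul, mul_smul, h_fix_n])
  have h3 : k • M.n • M.o ≠ k • M.o := fun e => M.n_ne (smul_left_cancel k e)
  rcases h1 with h1 | h1 <;> rcases h2 with h2 | h2
  · exact absurd (h2.trans h1.symm) h3
  · exact Or.inl (M.fix_both h1 h2)
  · exact Or.inr (M.swap_eq h1 h2)
  · exact absurd (h2.trans h1.symm) h3

/-- the number of fixed points -/
noncomputable def fx (g : G) : ℕ := (MulAction.fixedBy (G ⧸ M.B) g).ncard

theorem fx_conj (k g : G) : M.fx (k * g * k⁻¹) = M.fx g := by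
  rw [fx, ← MulAction.smul_fixedBy, Set.ncard_smul_set]; rfl

theorem fx_h {l : Kˣ} (hl : l * l ≠ 1) : M.fx (M.h l) = 2 := by
  rw [fx, ← Set.ncard_pair M.n_ne.symm]
  congr 1
  ext c
  exact ⟨M.fix_h hl, by rintro (rfl | rfl); exacts [M.h_fix l, M.h_fix_n l]⟩

/-- the regular elements of the split torus -/
def D2 : Set G := {g | ∃ l, l * l ≠ 1 ∧ g = M.h l}

/-- the regular elements of the torus of order `q + 1` -/
def DT : Set G := {t | t ∈ M.T ∧ t * t ≠ 1}

variable [Fintype K]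

theorem card_Nn : Nat.card M.Nn = 2 * (Fintype.card K - 1) := by
  classical
  rw [card_eq_two_mul (H := M.h.range) (a := M.n), ← Nat.card_congr
    (MonoidHom.ofInjective M.h_inj).toEquiv, Nat.card_eq_fintype_card, Fintype.card_units]
  · rintro _ ⟨l, rfl⟩; exact Or.inl ⟨l, rfl⟩
  · exact Or.inr ⟨1, by simp⟩
  · rintro ⟨l, hl⟩; exact M.n_not_mem (hl ▸ M.h_mem l)
  · rintro _ (⟨l, rfl⟩ | ⟨l, rfl⟩)
    · exact Or.inr ⟨l, rfl⟩
    · exact Or.inl ⟨l⁻¹, (M.n_h l).symm⟩

theorem fx_one : M.fx 1 = Fintype.card K ^ 3 + 1 := by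
  rw [fx, MulAction.fixedBy_one_eq_univ, Set.ncard_univ, card_Ω]

theorem fx_a : M.fx M.a = Fintype.card K + 1 := by
  have : MulAction.fixedBy (G ⧸ M.B) M.a =
      insert M.o (Set.range fun y : K => M.u 0 y 0 • M.n • M.o) := by
    ext c
    constructor
    · intro h
      by_cases hc : c = M.o
      · exact Or.inl hc
      · obtain ⟨y, hy⟩ := M.fix_a hc h
        exact Or.inr ⟨y, hy.symm⟩
    · rintro (rfl | ⟨y, rfl⟩)
      · exact M.h_fix _
      · show M.a • _ = _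
        rw [← mul_smul, M.commute_a_iff.2 ⟨rfl, rfl⟩, mul_smul, a, h_fix_n]
  rw [fx, this, Set.ncard_insert_of_notMem, Set.ncard_range_of_injective, Nat.card_eq_fintype_card]
  · intro y y' h
    have := M.eq_one_of_fix_n (M.U.mul_mem (M.U.inv_mem (M.u_mem 0 y' 0)) (M.u_mem 0 y 0))
      (by rw [mul_smul, inv_smul_eq_iff]; exact h)
    exact (M.u_inj (inv_mul_eq_one.1 this)).2.1.symm
  · rintro ⟨y, hy⟩
    exact M.smul_ne (M.U_fix (M.u_mem _ _ _)) M.n_ne hy

theorem fx_eq_zero {g : G} : M.fx g = 0 ↔ ∀ c : G ⧸ M.B, g • c ≠ c := by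
  have := M.finite
  rw [fx, Set.ncard_eq_zero, Set.eq_empty_iff_forall_notMem]; rfl

theorem sum_fx [Fintype G] : ∑ g, M.fx g = Nat.card G := by
  classical
  have h := MulAction.sum_card_fixedBy_eq_card_orbits_mul_card_group G (G ⧸ M.B)
  have : Subsingleton (MulAction.orbitRel.Quotient G (G ⧸ M.B)) :=
    (MulAction.pretransitive_iff_subsingleton_quotient G (G ⧸ M.B)).1 inferInstance
  rw [Fintype.card_eq_one_iff_nonempty_unique.2 ⟨uniqueOfSubsingleton (Quotient.mk _ M.o)⟩,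
    one_mul] at h
  rw [Nat.card_eq_fintype_card, ← h]
  exact Finset.sum_congr rfl fun g _ => by
    rw [fx, ← Nat.card_coe_set_eq, Nat.card_eq_fintype_card]

theorem card_F0 : {g | M.fx g = 0}.ncard = (cj ⊤ M.D2).ncard +
    Fintype.card K * (cj ⊤ {M.a}).ncard + Fintype.card K ^ 3 := by
  classical
  have := M.finite
  have := Fintype.ofFinite G
  have key : ∀ g : G, M.fx g + (if g ∈ {g | M.fx g = 0} then 1 else 0) =
      1 + ((if g ∈ cj ⊤ M.D2 then 1 else 0) + (if g ∈ cj ⊤ {M.a} then Fintype.card K else 0) +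
      (if g ∈ ({1} : Set G) then Fintype.card K ^ 3 else 0)) := by
    intro g
    have h2 : g ∈ cj ⊤ M.D2 → M.fx g = 2 ∧ g * g ≠ 1 := by
      rintro ⟨k, -, _, ⟨l, hl, rfl⟩, rfl⟩
      refine ⟨by rw [fx_conj, M.fx_h hl], fun h => hl (M.h_inj ?_)⟩
      rw [conj_sq] at h
      rw [map_mul, map_one, conj_eq_one h]
    have h3 : g ∈ cj ⊤ {M.a} → M.fx g = Fintype.card K + 1 ∧ g * g = 1 ∧ g ≠ 1 := by
      rintro ⟨k, -, _, rfl, rfl⟩
      exact ⟨by rw [fx_conj, fx_a], by rw [conj_sq, a_mul_a]; group,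
        fun h => M.a_ne_one (conj_eq_one h)⟩
    have h4 : g ∈ ({1} : Set G) → M.fx g = Fintype.card K ^ 3 + 1 ∧ g * g = 1 ∧ g = 1 := by
      rintro rfl; exact ⟨M.fx_one, one_mul _, rfl⟩
    have h5 : g ∉ cj ⊤ M.D2 → g ∉ cj ⊤ {M.a} → g ∉ ({1} : Set G) → M.fx g ≤ 1 := by
      intro g2 g3 g4
      rw [fx, Set.ncard_le_one]
      intro c hc d hd
      by_contra hcd
      obtain ⟨k, l, -, -, rfl⟩ := M.conj_h_of_fix_two hcd hc hd
      by_cases hl : l * l = 1
      · rcases M.eq_of_sq_eq_one hl with e | e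
        · exact g4 (by rw [e]; simp)
        · exact g3 ⟨k, trivial, _, rfl, by rw [e]⟩
      · exact g2 ⟨k, trivial, _, ⟨l, hl, rfl⟩, rfl⟩
    simp only [Set.mem_setOf_eq]
    split_ifs <;> grind
  have h := Finset.sum_congr rfl fun g (_ : g ∈ Finset.univ) => key g
  simp only [Finset.sum_add_distrib, sum_ite_mem, sum_fx, Finset.sum_const, Finset.card_univ,
    smul_eq_mul, mul_one, one_mul, Set.ncard_singleton, Nat.card_eq_fintype_card] at h
  omega

theorem ncard_D2 (hq : Fintype.card K % 24 = 3) : M.D2.ncard = Fintype.card K - 3 := by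
  classical
  have : M.D2 = M.h '' (Set.univ \ {1, -1}) := by
    ext g
    have : ∀ l : Kˣ, l * l ≠ 1 ↔ l ∈ Set.univ \ {1, -1} := fun l => by
      rw [Ne, Units.ext_iff, Units.val_mul, Units.val_one, mul_self_eq_one_iff, Set.mem_diff,
        Set.mem_insert_iff, Set.mem_singleton_iff, Units.ext_iff, Units.ext_iff]
      exact (and_iff_right trivial).symm
    simp only [D2, this, Set.mem_setOf_eq, Set.mem_image, eq_comm]
  rw [this, Set.ncard_image_of_injective _ M.h_inj, Set.ncard_diff (Set.subset_univ _),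
    Set.ncard_univ, Set.ncard_pair, Nat.card_eq_fintype_card, Fintype.card_units]
  · omega
  · exact fun h => neg_one_ne_one' (K := K) (by simpa using (congrArg Units.val h).symm)

theorem card_cj_D2 (hq : Fintype.card K % 24 = 3) : (cj ⊤ M.D2).ncard * (2 * (Fintype.card K - 1)) =
    Nat.card G * (Fintype.card K - 3) := by
  have := M.finite
  rw [← M.card_Nn, ← M.ncard_D2 hq]
  apply ncard_cj_top
  · rintro k hk _ ⟨l, hl, rfl⟩
    rcases M.conj_h hk l with e | e
    · exact ⟨l, hl, e⟩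
    · exact ⟨l⁻¹, fun h => hl (by rw [← mul_inv, inv_eq_one] at h; exact h), e⟩
  · rintro k _ ⟨l, -, rfl⟩ ⟨l', hl', e⟩
    exact M.mem_Nn hl' e

theorem card_cj_a : (cj ⊤ {M.a}).ncard * (Fintype.card K * (Fintype.card K ^ 2 - 1)) =
    Nat.card G := by
  have := M.finite
  rw [← M.card_cent_a, ncard_cj_top, Set.ncard_singleton, mul_one]
  · rintro k hk _ rfl
    exact mul_inv_eq_iff_eq_mul.2 (Subgroup.mem_centralizer_singleton_iff.1 hk)
  · rintro k _ rfl h
    exact Subgroup.mem_centralizer_singleton_iff.2 (mul_inv_eq_iff_eq_mul.1 h)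

theorem ncard_DT : M.DT.ncard = Fintype.card K - 3 := by
  have := M.finite
  have h1 : M.DT = (M.T : Set G) \ {1, M.n, M.a, M.a * M.n} := by
    ext t
    refine and_congr_right fun ht => not_congr ⟨M.T_invol ht, ?_⟩
    rintro (rfl | rfl | rfl | rfl)
    · exact one_mul _
    · exact M.n_mul_n
    · exact M.a_mul_a
    · rw [mul_assoc, ← mul_assoc M.n, ← a_n, mul_assoc, n_mul_n, mul_one, a_mul_a]
  have h2 : M.a * M.n ≠ 1 := fun h => M.a_ne_n (by rw [eq_inv_of_mul_eq_one_left h, n_inv])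
  rw [h1, Set.ncard_diff, ← Nat.card_coe_set_eq, SetLike.coe_sort_coe, card_T,
    Set.ncard_insert_of_notMem, Set.ncard_eq_three.2 ⟨_, _, _, M.a_ne_n.symm,
    fun h => M.a_ne_one (by simpa using h), fun h => M.n_ne_one (by simpa using h), rfl⟩]
  · omega
  · simp [M.n_ne_one.symm, M.a_ne_one.symm, h2.symm]
  · rintro _ (rfl | rfl | rfl | rfl)
    exacts [one_mem _, M.n_mem_T, M.a_mem_T, mul_mem M.a_mem_T M.n_mem_T]

theorem card_cj_DT (hq : Fintype.card K % 24 = 3) (hq' : 27 ≤ Fintype.card K) :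
    (cj ⊤ M.DT).ncard * (6 * (Fintype.card K + 1)) = Nat.card G * (Fintype.card K - 3) := by
  have := M.finite
  rw [← M.card_NT hq hq', ← M.ncard_DT]
  apply ncard_cj_top
  · rintro k hk t ⟨ht, ht2⟩
    exact ⟨M.conj_mem_T hk ht, fun h => ht2 (conj_eq_one (by rwa [conj_sq] at h))⟩
  · rintro k t ⟨ht, ht2⟩ ⟨h1, -⟩
    exact M.mem_NT hq (M.sq_mem_Aq (M.T_le_CV ht)) ht2
      (by rw [← conj_sq]; exact M.sq_mem_Aq (M.T_le_CV h1))

theorem index_Aq (hq : Fintype.card K % 24 = 3) : M.Aq.index =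
    8 * (Fintype.card K ^ 3 * ((Fintype.card K - 1) / 2) * MM (Fintype.card K)) := by
  have h := Subgroup.card_mul_index M.Aq
  rw [M.card_Aq hq, M.card_G, order_eq hq] at h
  apply Nat.eq_of_mul_eq_mul_left (by omega : 0 < (Fintype.card K + 1) / 4)
  rw [h]; ring

theorem not_dvd_index_Aq (hq : Fintype.card K % 24 = 3) {p : ℕ} (hp : p.Prime) (h2 : p ≠ 2)
    (h : p ∣ Fintype.card K + 1) : ¬ p ∣ M.Aq.index := by
  rw [M.index_Aq hq]
  intro h1
  have h3 : ¬ p ∣ 2 := fun h => h2 ((Nat.prime_dvd_prime_iff_eq hp Nat.prime_two).1 h)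
  rcases (Nat.Prime.dvd_mul hp).1 h1 with h1 | h1
  · exact h3 (hp.dvd_of_dvd_pow (n := 3) h1)
  rcases (Nat.Prime.dvd_mul hp).1 h1 with h1 | h1
  · rcases (Nat.Prime.dvd_mul hp).1 h1 with h1 | h1
    · exact hp.one_lt.ne' (Nat.dvd_one.1 ((Nat.dvd_add_right (hp.dvd_of_dvd_pow h1)).1 h))
    · apply h3
      rw [show Fintype.card K + 1 = 2 * ((Fintype.card K - 1) / 2) + 2 by omega] at h
      exact (Nat.dvd_add_right (h1.mul_left 2)).1 h
  · exact hp.one_lt.ne' (Nat.eq_one_of_dvd_coprimes (coprime_MM_succ hq) h1 h)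

theorem classify (hq : Fintype.card K % 24 = 3) {z : G} (hz : M.fx z = 0) :
    z ∈ cj ⊤ M.DT ∨ ∃ p : ℕ, p.Prime ∧ p ∣ MM (Fintype.card K) ∧ p ∣ orderOf z := by
  have := M.finite
  have hz' := M.fx_eq_zero.1 hz
  have h2 : z * z ≠ 1 := by
    intro h
    obtain ⟨k, rfl⟩ := isConj_iff.1 (M.isConj_a h (by rintro rfl; exact hz' M.o (one_smul _ _)))
    rw [fx_conj, fx_a] at hz
    omega
  obtain ⟨p, hp, hpz, hp2⟩ : ∃ p : ℕ, p.Prime ∧ p ∣ orderOf z ∧ p ≠ 2 := by
    by_contra! h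
    have := Nat.eq_prime_pow_of_unique_prime_dvd (orderOf_pos z).ne' (fun {d} => h d)
    exact h2 (M.sq_eq_one_of_two_pow (by rw [← this, pow_orderOf_eq_one]))
  have := Fact.mk hp
  obtain ⟨j, hj⟩ := exists_pow_prime_order hpz
  have hc : z * z ^ j = z ^ j * z := (Commute.self_pow z j).eq
  have hy1 : z ^ j ≠ 1 := fun h => hp.one_lt.ne (by rw [← hj, h, orderOf_one])
  have hy : ∀ c : G ⧸ M.B, z ^ j • c ≠ c := by
    intro c hc'
    obtain ⟨k, l, e1, -, e⟩ := M.conj_h_of_fix_two (hz' c).symm hc'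
      (by rw [← mul_smul, ← hc, mul_smul, hc'])
    have hl : l * l ≠ 1 := by
      intro h
      have : (z ^ j) ^ 2 = 1 := by rw [e, pow_two, conj_sq, ← map_mul, h, map_one]; group
      have := orderOf_dvd_of_pow_eq_one this
      rw [hj] at this
      exact hp2 ((Nat.prime_dvd_prime_iff_eq hp Nat.prime_two).1 this)
    have e' : M.h l = k⁻¹ * z ^ j * k := by rw [e]; group
    rcases M.mem_Nn (k := k⁻¹ * z * k) (l := l) hl (by rw [e']; group) with ⟨l', h⟩ | ⟨l', h⟩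
    · apply hz' c
      have := M.h_fix l'
      rwa [← h, mul_smul, mul_smul, inv_smul_eq_iff, e1] at this
    · have := M.nh_sq l'
      rw [← h] at this
      exact h2 (conj_eq_one (k := k⁻¹) (by rw [← conj_sq, inv_inv, this]))
  have hd : p ∣ (Fintype.card K + 1) * MM (Fintype.card K) := by
    rw [← cube_add_one (by omega), ← M.card_Ω]
    by_contra h
    obtain ⟨k, hk⟩ := exists_conj_mem' M.B h hj
    apply hy (k • M.o)
    rw [← inv_smul_eq_iff, ← mul_smul, ← mul_smul]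
    exact M.fix_iff.2 hk
  rcases (Nat.Prime.dvd_mul hp).1 hd with h | h
  · obtain ⟨k, hk⟩ := exists_conj_mem' M.Aq (M.not_dvd_index_Aq hq hp hp2 h) hj
    left
    refine ⟨k, trivial, k⁻¹ * z * k, ⟨M.cent_Aq hq hk (fun h => hy1 (conj_eq_one (k := k⁻¹)
      (by rwa [inv_inv]))) (by group), fun h => h2 (conj_eq_one (k := k⁻¹) ?_)⟩, by group⟩
    rw [← conj_sq, inv_inv, h]
  · exact Or.inr ⟨p, hp, h, hpz⟩

theorem eq_one_of_fix_cop {m : ℕ} (h1 : Nat.Coprime m (Fintype.card K))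
    (h2 : Nat.Coprime m (Fintype.card K - 1)) {y : G} (hy : y ^ m = 1) {c : G ⧸ M.B}
    (hc : y • c = c) : y = 1 := by
  obtain ⟨k, rfl⟩ := M.trans_o c
  refine eq_one_of_conj_mem (W := M.B) (k := k) ?_ hy (M.fix_iff.1 ?_)
  · rw [card_B]; exact (h1.pow_right 3).mul_right h2
  · rw [mul_smul, mul_smul, hc, inv_smul_smul]

include M in
theorem card_cent_dvd (hq : Fintype.card K % 24 = 3) {y : G} (h1 : y ≠ 1)
    (hy : y ^ MM (Fintype.card K) = 1) :
    Nat.card (Subgroup.centralizer {y}) ∣ MM (Fintype.card K) := by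
  have := M.finite
  have hd := Subgroup.card_subgroup_dvd_card (Subgroup.centralizer {y})
  rw [M.card_G, cube_add_one (by omega), mul_right_comm] at hd
  refine Nat.Coprime.dvd_of_dvd_mul_left ?_ hd
  apply Nat.coprime_of_dvd
  intro p hp hp1 hp2
  have := Fact.mk hp
  obtain ⟨⟨z, hz⟩, hzp⟩ := exists_prime_orderOf_dvd_card' p hp1
  rw [Subgroup.orderOf_mk] at hzp
  have hc : z * y = y * z := Subgroup.mem_centralizer_singleton_iff.1 hz
  have hz1 : z ≠ 1 := fun h => hp.one_lt.ne (by rw [← hzp, h, orderOf_one])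
  by_cases h0 : M.fx z = 0
  · rcases M.classify hq h0 with ⟨k, -, t, ⟨ht, ht2⟩, rfl⟩ | ⟨p', hp', h2, h3⟩
    · apply h1
      refine eq_one_of_conj_mem (W := M.T) (k := k) (by rw [card_T]; exact coprime_MM_succ hq) hy
        (M.cent_Aq hq (M.sq_mem_Aq (M.T_le_CV ht)) ht2 ?_)
      have : (k⁻¹ * y * k) * t = t * (k⁻¹ * y * k) := by
        have := conj_comm (k := k⁻¹) hc
        simpa [mul_assoc] using this.symm
      rw [← mul_assoc _ t t, this, mul_assoc t, this, ← mul_assoc]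
    · rw [hzp, Nat.prime_dvd_prime_iff_eq hp' hp] at h3
      subst h3
      exact hp.one_lt.ne' (Nat.eq_one_of_dvd_coprimes ((coprime_MM_succ hq).mul_right
        (((coprime_MM_q _).pow_right 3).mul_right (coprime_MM_pred _))) h2 hp2)
  · rw [fx_eq_zero] at h0
    push Not at h0
    obtain ⟨c, hc'⟩ := h0
    apply h1
    by_cases h2 : y • c = c
    · exact M.eq_one_of_fix_cop (coprime_MM_q _) (coprime_MM_pred _) hy h2
    obtain ⟨k, l, -, -, rfl⟩ := M.conj_h_of_fix_two h2 (by rw [← mul_smul, hc, mul_smul, hc']) hc'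
    have h3 : (k⁻¹ * y * k) * M.h l = M.h l * (k⁻¹ * y * k) := by
      have := conj_comm (k := k⁻¹) hc
      simpa [mul_assoc] using this.symm
    by_cases hl : l * l = 1
    · rcases M.eq_of_sq_eq_one hl with e | e
      · exact absurd (by rw [e]; simp) hz1
      · refine eq_one_of_conj_mem (W := Subgroup.centralizer {M.a}) (k := k) ?_ hy
          (Subgroup.mem_centralizer_singleton_iff.2 (e ▸ h3))
        rw [card_cent_a, ← one_pow 2, Nat.sq_sub_sq]
        exact (coprime_MM_q _).mul_right ((coprime_MM_succ hq).mul_right (coprime_MM_pred _))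
    · refine eq_one_of_conj_mem (W := M.Nn) (k := k) ?_ hy
        (M.mem_Nn (l := l) hl (by rw [h3, mul_inv_cancel_right]))
      rw [card_Nn]
      exact (coprime_MM_two hq).mul_right (coprime_MM_pred _)

include M in
theorem pow_MM_of_comm (hq : Fintype.card K % 24 = 3) {y : G} (h1 : y ≠ 1)
    (hy : y ^ MM (Fintype.card K) = 1) {x : G} (hx : x ∈ Subgroup.centralizer {y}) :
    x ^ MM (Fintype.card K) = 1 := by
  obtain ⟨c, hc⟩ := M.card_cent_dvd hq h1 hy
  have : x ^ Nat.card (Subgroup.centralizer {y}) = 1 :=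
    congrArg Subtype.val (pow_card_eq_one' (x := (⟨x, hx⟩ : Subgroup.centralizer {y})))
  rw [hc, pow_mul, this, one_pow]

theorem F0_eq (hq : Fintype.card K % 24 = 3) :
    {g | M.fx g = 0} = cj ⊤ M.DT ∪ {z | z ≠ 1 ∧ z ^ MM (Fintype.card K) = 1} := by
  have := M.finite
  ext z
  constructor
  · intro hz
    refine (M.classify hq hz).imp_right ?_
    rintro ⟨p, hp, h1, h2⟩
    obtain ⟨j, hj⟩ := exists_pow_prime_order h2
    refine ⟨by rintro rfl; exact M.fx_eq_zero.1 hz M.o (one_smul _ _), M.pow_MM_of_comm hq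
      (y := z ^ j) (fun h => hp.one_lt.ne (by rw [← hj, h, orderOf_one]))
      (orderOf_dvd_iff_pow_eq_one.1 (hj ▸ h1))
      (Subgroup.mem_centralizer_singleton_iff.2 (Commute.self_pow z j).eq)⟩
  · rintro (⟨k, -, t, ⟨ht, ht2⟩, rfl⟩ | ⟨h1, h2⟩)
    · show M.fx _ = 0
      rw [fx_conj, fx_eq_zero]
      intro c hc
      have h3 : (t * t) ^ ((Fintype.card K + 1) / 4) = 1 := by
        rw [← M.card_Aq hq]
        exact congrArg Subtype.val (pow_card_eq_one' (x := (⟨_, M.sq_mem_Aq (M.T_le_CV ht)⟩ : M.Aq)))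
      obtain ⟨k, hk⟩ : ∃ k, Fintype.card K = 24 * k + 3 := ⟨Fintype.card K / 24, by omega⟩
      refine ht2 (M.eq_one_of_fix_cop ?_ ?_ h3 (by rw [mul_smul, hc, hc]))
      · exact Nat.Coprime.coprime_dvd_left (Nat.div_dvd_of_dvd (by omega)) (by simp)
      · rw [hk, show (24 * k + 3 + 1) / 4 = 6 * k + 1 by omega, show 24 * k + 3 - 1 =
          2 * (12 * k + 1) by omega]
        refine Nat.Coprime.mul_right (by rw [Nat.coprime_two_right, Nat.odd_iff]; omega) ?_
        exact Nat.Coprime.coprime_dvd_left (m := 6 * k + 1) (k := 12 * k + 1 + 1) ⟨2, by ring⟩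
          (by simp)
    · exact M.fx_eq_zero.2 fun c hc =>
        h1 (M.eq_one_of_fix_cop (coprime_MM_q _) (coprime_MM_pred _) h2 hc)

include M in
theorem card_XM (hq : Fintype.card K % 24 = 3) (hq' : 27 ≤ Fintype.card K) :
    3 * MM (Fintype.card K) * {z : G | z ≠ 1 ∧ z ^ MM (Fintype.card K) = 1}.ncard =
      Nat.card G * (Fintype.card K * (Fintype.card K - 2)) := by
  have := M.finite
  have h0 := M.card_F0
  rw [M.F0_eq hq, Set.ncard_union_eq] at h0
  · have h1 := M.card_cj_D2 hq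
    have h2 := M.card_cj_a
    have h3 := M.card_cj_DT hq hq'
    have h4 := M.card_G
    generalize {z : G | z ≠ 1 ∧ z ^ MM (Fintype.card K) = 1}.ncard = X at *
    generalize (cj ⊤ M.D2).ncard = a at *
    generalize (cj ⊤ {M.a}).ncard = b at *
    generalize (cj ⊤ M.DT).ncard = c at *
    generalize Nat.card G = g at *
    generalize Fintype.card K = q at *
    obtain ⟨j, rfl⟩ : ∃ j, q = j + 3 := ⟨q - 3, by omega⟩
    simp only [MM, Nat.add_sub_cancel, show j + 3 - 1 = j + 2 from rfl,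
      show j + 3 - 2 = j + 1 from rfl, show (j + 3) ^ 2 - 1 = (j + 2) * (j + 4) by
        rw [Nat.sub_eq_iff_eq_add (Nat.one_le_pow _ _ (by omega))]; ring] at h1 h2 h3 h4 ⊢
    subst h4
    zify at h0 h1 h2 h3 ⊢
    have : (2 * (j + 2) * (j + 4) : ℤ) ≠ 0 := by positivity
    apply mul_left_cancel₀ this
    linear_combination (3 * ((j + 3) * (j + 2) + 1) * (2 * (j + 2) * (j + 4))) * h0 +
      3 * ((j + 3) * (j + 2) + 1) * (j + 4) * h1 + 6 * ((j + 3) * (j + 2) + 1) * h2 -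
      ((j + 3) * (j + 2) + 1) * (j + 2) * h3
  · rw [Set.disjoint_left]
    rintro _ ⟨k, -, t, ⟨ht, ht2⟩, rfl⟩ ⟨h1, h2⟩
    exact h1 (eq_one_of_conj_mem (W := M.T) (k := k) (by rw [card_T]; exact coprime_MM_succ hq) h2
      (by simpa [mul_assoc] using ht))

end Model

end Ree

end Cfsg.Agent.H4
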