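import Mathlib
import Cfsg.Prelude.Def_LieTwisted
import Cfsg.Prelude.Def_ChevStructure

/-! Explicit action of the root elements of `G₂` in characteristic 3 (generated). -/

set_option autoImplicit false
open Cfsg.Lie

namespace Cfsg.Agent.H4.Ree

variable {K : Type*} [Field K]

/-- root vector index -/
def eI (i : Fin 12) : chevG2.Idx := Sum.inr i
/-- coroot index -/
def hI (i : Fin 2) : chevG2.Idx := Sum.inl i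

theorem sumIdx (f : chevG2.Idx → K) : ∑ j, f j = f (hI 0) + f (hI 1) + (f (eI 0) + f (eI 1) +
    f (eI 2) + f (eI 3) + f (eI 4) + f (eI 5) + f (eI 6) + f (eI 7) + f (eI 8) + f (eI 9) +
    f (eI 10) + f (eI 11)) := by
  rw [Fintype.sum_sum_type]
  show ∑ i : Fin 2, f (hI i) + ∑ i : Fin 12, f (eI i) = _
  simp only [Fin.sum_univ_succ, Fin.sum_univ_zero]
  simp
  ring

theorem forall_idx {P : chevG2.Idx → Prop} (a0 : P (hI 0)) (a1 : P (hI 1)) (b0 : P (eI 0))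
    (b1 : P (eI 1)) (b2 : P (eI 2)) (b3 : P (eI 3)) (b4 : P (eI 4)) (b5 : P (eI 5)) (b6 : P (eI 6))
    (b7 : P (eI 7)) (b8 : P (eI 8)) (b9 : P (eI 9)) (b10 : P (eI 10)) (b11 : P (eI 11)) :
    ∀ i, P i := by
  rintro (i | i)
  · revert i
    show ∀ i : Fin 2, P (hI i)
    intro i; fin_cases i <;> assumption
  · revert i
    show ∀ i : Fin 12, P (eI i)
    intro i; fin_cases i <;> assumption

variable [CharP K 3]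

theorem xrow0 (t : K) (x : chevG2.Idx → K) :
    Matrix.mulVec (chevG2.x K 0 t) x (hI 0) = x (hI 0) - t * x (eI 11) ∧
    Matrix.mulVec (chevG2.x K 0 t) x (hI 1) = x (hI 1) + t * x (eI 11) ∧
    Matrix.mulVec (chevG2.x K 0 t) x (eI 0) = x (eI 0) + t * x (hI 1) - t ^ 2 * x (eI 11) ∧
    Matrix.mulVec (chevG2.x K 0 t) x (eI 1) = x (eI 1) + t * x (eI 6) ∧
    Matrix.mulVec (chevG2.x K 0 t) x (eI 2) = x (eI 2) + t * x (eI 8) ∧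
    Matrix.mulVec (chevG2.x K 0 t) x (eI 3) = x (eI 3) - t * x (eI 9) ∧
    Matrix.mulVec (chevG2.x K 0 t) x (eI 4) = x (eI 4) ∧
    Matrix.mulVec (chevG2.x K 0 t) x (eI 5) = x (eI 5) - t * x (eI 10) ∧
    Matrix.mulVec (chevG2.x K 0 t) x (eI 6) = x (eI 6) ∧
    Matrix.mulVec (chevG2.x K 0 t) x (eI 7) = x (eI 7) ∧
    Matrix.mulVec (chevG2.x K 0 t) x (eI 8) = x (eI 8) ∧
    Matrix.mulVec (chevG2.x K 0 t) x (eI 9) = x (eI 9) ∧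
    Matrix.mulVec (chevG2.x K 0 t) x (eI 10) = x (eI 10) ∧
    Matrix.mulVec (chevG2.x K 0 t) x (eI 11) = x (eI 11) := by
  refine ⟨?_, ?_, ?_, ?_, ?_, ?_, ?_, ?_, ?_, ?_, ?_, ?_, ?_, ?_⟩
  · rw [Matrix.mulVec, dotProduct, sumIdx]
    show (1 * x (hI 0) + 0 * x (hI 1) + (0 * x (eI 0) + 0 * x (eI 1) + 0 * x (eI 2) + 0 * x (eI 3) + 0 * x (eI 4) + 0 * x (eI 5) + 0 * x (eI 6) + 0 * x (eI 7) + 0 * x (eI 8) + 0 * x (eI 9) + 0 * x (eI 10) + (((-1 : ℤ) : K)) * t * x (eI 11)) : K) = _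
    grind
  · rw [Matrix.mulVec, dotProduct, sumIdx]
    show (0 * x (hI 0) + 1 * x (hI 1) + (0 * x (eI 0) + 0 * x (eI 1) + 0 * x (eI 2) + 0 * x (eI 3) + 0 * x (eI 4) + 0 * x (eI 5) + 0 * x (eI 6) + 0 * x (eI 7) + 0 * x (eI 8) + 0 * x (eI 9) + 0 * x (eI 10) + (((-2 : ℤ) : K)) * t * x (eI 11)) : K) = _
    grind
  · rw [Matrix.mulVec, dotProduct, sumIdx]
    show (-(((0 : ℤ) : K)) * t * x (hI 0) + -(((-1 : ℤ) : K)) * t * x (hI 1) + (1 * x (eI 0) + (0 + 0) * x (eI 1) + (0 + 0) * x (eI 2) + (0 + 0) * x (eI 3) + (0 + 0) * x (eI 4) + (0 + 0) * x (eI 5) + (0 + 0) * x (eI 6) + (0 + 0) * x (eI 7) + (0 + 0) * x (eI 8) + (0 + 0) * x (eI 9) + (0 + 0) * x (eI 10) + -(t ^ 2) * x (eI 11)) : K) = _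
    grind
  · rw [Matrix.mulVec, dotProduct, sumIdx]
    show (0 * x (hI 0) + 0 * x (hI 1) + (0 * x (eI 0) + (1 + 0) * x (eI 1) + (0 + 0) * x (eI 2) + (0 + 0) * x (eI 3) + (0 + 0) * x (eI 4) + (0 + 0) * x (eI 5) + (0 + (((1 : ℤ) : K) * t ^ 1 + 0)) * x (eI 6) + (0 + 0) * x (eI 7) + (0 + 0) * x (eI 8) + (0 + 0) * x (eI 9) + (0 + 0) * x (eI 10) + 0 * x (eI 11)) : K) = _
    grind
  · rw [Matrix.mulVec, dotProduct, sumIdx]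
    show (0 * x (hI 0) + 0 * x (hI 1) + (0 * x (eI 0) + (0 + 0) * x (eI 1) + (1 + 0) * x (eI 2) + (0 + 0) * x (eI 3) + (0 + 0) * x (eI 4) + (0 + 0) * x (eI 5) + (0 + 0) * x (eI 6) + (0 + 0) * x (eI 7) + (0 + (((1 : ℤ) : K) * t ^ 1 + 0)) * x (eI 8) + (0 + 0) * x (eI 9) + (0 + 0) * x (eI 10) + 0 * x (eI 11)) : K) = _
    grind
  · rw [Matrix.mulVec, dotProduct, sumIdx]
    show (0 * x (hI 0) + 0 * x (hI 1) + (0 * x (eI 0) + (0 + 0) * x (eI 1) + (0 + 0) * x (eI 2) + (1 + 0) * x (eI 3) + (0 + 0) * x (eI 4) + (0 + 0) * x (eI 5) + (0 + 0) * x (eI 6) + (0 + 0) * x (eI 7) + (0 + 0) * x (eI 8) + (0 + (((-1 : ℤ) : K) * t ^ 1 + 0)) * x (eI 9) + (0 + 0) * x (eI 10) + 0 * x (eI 11)) : K) = _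
    grind
  · rw [Matrix.mulVec, dotProduct, sumIdx]
    show (0 * x (hI 0) + 0 * x (hI 1) + (0 * x (eI 0) + (0 + 0) * x (eI 1) + (0 + 0) * x (eI 2) + (0 + 0) * x (eI 3) + (1 + 0) * x (eI 4) + (0 + 0) * x (eI 5) + (0 + 0) * x (eI 6) + (0 + 0) * x (eI 7) + (0 + 0) * x (eI 8) + (0 + 0) * x (eI 9) + (0 + 0) * x (eI 10) + 0 * x (eI 11)) : K) = _
    grind
  · rw [Matrix.mulVec, dotProduct, sumIdx]
    show (0 * x (hI 0) + 0 * x (hI 1) + (0 * x (eI 0) + (0 + 0) * x (eI 1) + (0 + 0) * x (eI 2) + (0 + 0) * x (eI 3) + (0 + 0) * x (eI 4) + (1 + 0) * x (eI 5) + (0 + 0) * x (eI 6) + (0 + 0) * x (eI 7) + (0 + 0) * x (eI 8) + (0 + 0) * x (eI 9) + (0 + (((-1 : ℤ) : K) * t ^ 1 + 0)) * x (eI 10) + 0 * x (eI 11)) : K) = _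
    grind
  · rw [Matrix.mulVec, dotProduct, sumIdx]
    show (0 * x (hI 0) + 0 * x (hI 1) + (0 * x (eI 0) + (0 + 0) * x (eI 1) + (0 + 0) * x (eI 2) + (0 + 0) * x (eI 3) + (0 + 0) * x (eI 4) + (0 + 0) * x (eI 5) + (1 + 0) * x (eI 6) + (0 + 0) * x (eI 7) + (0 + 0) * x (eI 8) + (0 + 0) * x (eI 9) + (0 + 0) * x (eI 10) + 0 * x (eI 11)) : K) = _
    grind
  · rw [Matrix.mulVec, dotProduct, sumIdx]
    show (0 * x (hI 0) + 0 * x (hI 1) + (0 * x (eI 0) + (0 + 0) * x (eI 1) + (0 + 0) * x (eI 2) + (0 + 0) * x (eI 3) + (0 + 0) * x (eI 4) + (0 + 0) * x (eI 5) + (0 + 0) * x (eI 6) + (1 + 0) * x (eI 7) + (0 + 0) * x (eI 8) + (0 + 0) * x (eI 9) + (0 + 0) * x (eI 10) + 0 * x (eI 11)) : K) = _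
    grind
  · rw [Matrix.mulVec, dotProduct, sumIdx]
    show (0 * x (hI 0) + 0 * x (hI 1) + (0 * x (eI 0) + (0 + 0) * x (eI 1) + (0 + 0) * x (eI 2) + (0 + 0) * x (eI 3) + (0 + 0) * x (eI 4) + (0 + 0) * x (eI 5) + (0 + 0) * x (eI 6) + (0 + 0) * x (eI 7) + (1 + 0) * x (eI 8) + (0 + 0) * x (eI 9) + (0 + 0) * x (eI 10) + 0 * x (eI 11)) : K) = _
    grind
  · rw [Matrix.mulVec, dotProduct, sumIdx]
    show (0 * x (hI 0) + 0 * x (hI 1) + (0 * x (eI 0) + (0 + 0) * x (eI 1) + (0 + 0) * x (eI 2) + (0 + 0) * x (eI 3) + (0 + 0) * x (eI 4) + (0 + 0) * x (eI 5) + (0 + 0) * x (eI 6) + (0 + 0) * x (eI 7) + (0 + 0) * x (eI 8) + (1 + 0) * x (eI 9) + (0 + 0) * x (eI 10) + 0 * x (eI 11)) : K) = _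
    grind
  · rw [Matrix.mulVec, dotProduct, sumIdx]
    show (0 * x (hI 0) + 0 * x (hI 1) + (0 * x (eI 0) + (0 + 0) * x (eI 1) + (0 + 0) * x (eI 2) + (0 + 0) * x (eI 3) + (0 + 0) * x (eI 4) + (0 + 0) * x (eI 5) + (0 + 0) * x (eI 6) + (0 + 0) * x (eI 7) + (0 + 0) * x (eI 8) + (0 + 0) * x (eI 9) + (1 + 0) * x (eI 10) + 0 * x (eI 11)) : K) = _
    grind
  · rw [Matrix.mulVec, dotProduct, sumIdx]
    show (0 * x (hI 0) + 0 * x (hI 1) + (0 * x (eI 0) + (0 + 0) * x (eI 1) + (0 + 0) * x (eI 2) + (0 + 0) * x (eI 3) + (0 + 0) * x (eI 4) + (0 + 0) * x (eI 5) + (0 + 0) * x (eI 6) + (0 + 0) * x (eI 7) + (0 + 0) * x (eI 8) + (0 + 0) * x (eI 9) + (0 + 0) * x (eI 10) + 1 * x (eI 11)) : K) = _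
    grind

theorem xrow1 (t : K) (x : chevG2.Idx → K) :
    Matrix.mulVec (chevG2.x K 1 t) x (hI 0) = x (hI 0) - t * x (eI 10) ∧
    Matrix.mulVec (chevG2.x K 1 t) x (hI 1) = x (hI 1) - t * x (eI 10) ∧
    Matrix.mulVec (chevG2.x K 1 t) x (eI 0) = x (eI 0) + t * x (eI 5) ∧
    Matrix.mulVec (chevG2.x K 1 t) x (eI 1) = x (eI 1) - t * x (hI 1) - t ^ 2 * x (eI 10) ∧
    Matrix.mulVec (chevG2.x K 1 t) x (eI 2) = x (eI 2) + t * x (eI 7) ∧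
    Matrix.mulVec (chevG2.x K 1 t) x (eI 3) = x (eI 3) ∧
    Matrix.mulVec (chevG2.x K 1 t) x (eI 4) = x (eI 4) - t * x (eI 9) ∧
    Matrix.mulVec (chevG2.x K 1 t) x (eI 5) = x (eI 5) ∧
    Matrix.mulVec (chevG2.x K 1 t) x (eI 6) = x (eI 6) - t * x (eI 11) ∧
    Matrix.mulVec (chevG2.x K 1 t) x (eI 7) = x (eI 7) ∧
    Matrix.mulVec (chevG2.x K 1 t) x (eI 8) = x (eI 8) ∧
    Matrix.mulVec (chevG2.x K 1 t) x (eI 9) = x (eI 9) ∧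
    Matrix.mulVec (chevG2.x K 1 t) x (eI 10) = x (eI 10) ∧
    Matrix.mulVec (chevG2.x K 1 t) x (eI 11) = x (eI 11) := by
  refine ⟨?_, ?_, ?_, ?_, ?_, ?_, ?_, ?_, ?_, ?_, ?_, ?_, ?_, ?_⟩
  · rw [Matrix.mulVec, dotProduct, sumIdx]
    show (1 * x (hI 0) + 0 * x (hI 1) + (0 * x (eI 0) + 0 * x (eI 1) + 0 * x (eI 2) + 0 * x (eI 3) + 0 * x (eI 4) + 0 * x (eI 5) + 0 * x (eI 6) + 0 * x (eI 7) + 0 * x (eI 8) + 0 * x (eI 9) + (((-1 : ℤ) : K)) * t * x (eI 10) + 0 * x (eI 11)) : K) = _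
    grind
  · rw [Matrix.mulVec, dotProduct, sumIdx]
    show (0 * x (hI 0) + 1 * x (hI 1) + (0 * x (eI 0) + 0 * x (eI 1) + 0 * x (eI 2) + 0 * x (eI 3) + 0 * x (eI 4) + 0 * x (eI 5) + 0 * x (eI 6) + 0 * x (eI 7) + 0 * x (eI 8) + 0 * x (eI 9) + (((-1 : ℤ) : K)) * t * x (eI 10) + 0 * x (eI 11)) : K) = _
    grind
  · rw [Matrix.mulVec, dotProduct, sumIdx]
    show (0 * x (hI 0) + 0 * x (hI 1) + ((1 + 0) * x (eI 0) + 0 * x (eI 1) + (0 + 0) * x (eI 2) + (0 + 0) * x (eI 3) + (0 + 0) * x (eI 4) + (0 + (((1 : ℤ) : K) * t ^ 1 + 0)) * x (eI 5) + (0 + 0) * x (eI 6) + (0 + 0) * x (eI 7) + (0 + 0) * x (eI 8) + (0 + 0) * x (eI 9) + 0 * x (eI 10) + (0 + 0) * x (eI 11)) : K) = _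
    grind
  · rw [Matrix.mulVec, dotProduct, sumIdx]
    show (-(((-3 : ℤ) : K)) * t * x (hI 0) + -(((1 : ℤ) : K)) * t * x (hI 1) + ((0 + 0) * x (eI 0) + 1 * x (eI 1) + (0 + 0) * x (eI 2) + (0 + 0) * x (eI 3) + (0 + 0) * x (eI 4) + (0 + 0) * x (eI 5) + (0 + 0) * x (eI 6) + (0 + 0) * x (eI 7) + (0 + 0) * x (eI 8) + (0 + 0) * x (eI 9) + -(t ^ 2) * x (eI 10) + (0 + 0) * x (eI 11)) : K) = _
    grind
  · rw [Matrix.mulVec, dotProduct, sumIdx]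
    show (0 * x (hI 0) + 0 * x (hI 1) + ((0 + 0) * x (eI 0) + 0 * x (eI 1) + (1 + 0) * x (eI 2) + (0 + 0) * x (eI 3) + (0 + 0) * x (eI 4) + (0 + 0) * x (eI 5) + (0 + 0) * x (eI 6) + (0 + (((1 : ℤ) : K) * t ^ 1 + 0)) * x (eI 7) + (0 + 0) * x (eI 8) + (0 + 0) * x (eI 9) + 0 * x (eI 10) + (0 + 0) * x (eI 11)) : K) = _
    grind
  · rw [Matrix.mulVec, dotProduct, sumIdx]
    show (0 * x (hI 0) + 0 * x (hI 1) + ((0 + 0) * x (eI 0) + 0 * x (eI 1) + (0 + 0) * x (eI 2) + (1 + 0) * x (eI 3) + (0 + 0) * x (eI 4) + (0 + 0) * x (eI 5) + (0 + 0) * x (eI 6) + (0 + 0) * x (eI 7) + (0 + 0) * x (eI 8) + (0 + 0) * x (eI 9) + 0 * x (eI 10) + (0 + 0) * x (eI 11)) : K) = _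
    grind
  · rw [Matrix.mulVec, dotProduct, sumIdx]
    show (0 * x (hI 0) + 0 * x (hI 1) + ((0 + 0) * x (eI 0) + 0 * x (eI 1) + (0 + 0) * x (eI 2) + (0 + 0) * x (eI 3) + (1 + 0) * x (eI 4) + (0 + 0) * x (eI 5) + (0 + 0) * x (eI 6) + (0 + 0) * x (eI 7) + (0 + 0) * x (eI 8) + (0 + (((-1 : ℤ) : K) * t ^ 1 + 0)) * x (eI 9) + 0 * x (eI 10) + (0 + 0) * x (eI 11)) : K) = _
    grind
  · rw [Matrix.mulVec, dotProduct, sumIdx]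
    show (0 * x (hI 0) + 0 * x (hI 1) + ((0 + 0) * x (eI 0) + 0 * x (eI 1) + (0 + 0) * x (eI 2) + (0 + 0) * x (eI 3) + (0 + 0) * x (eI 4) + (1 + 0) * x (eI 5) + (0 + 0) * x (eI 6) + (0 + 0) * x (eI 7) + (0 + 0) * x (eI 8) + (0 + 0) * x (eI 9) + 0 * x (eI 10) + (0 + 0) * x (eI 11)) : K) = _
    grind
  · rw [Matrix.mulVec, dotProduct, sumIdx]
    show (0 * x (hI 0) + 0 * x (hI 1) + ((0 + 0) * x (eI 0) + 0 * x (eI 1) + (0 + 0) * x (eI 2) + (0 + 0) * x (eI 3) + (0 + 0) * x (eI 4) + (0 + 0) * x (eI 5) + (1 + 0) * x (eI 6) + (0 + 0) * x (eI 7) + (0 + 0) * x (eI 8) + (0 + 0) * x (eI 9) + 0 * x (eI 10) + (0 + (((-1 : ℤ) : K) * t ^ 1 + 0)) * x (eI 11)) : K) = _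
    grind
  · rw [Matrix.mulVec, dotProduct, sumIdx]
    show (0 * x (hI 0) + 0 * x (hI 1) + ((0 + 0) * x (eI 0) + 0 * x (eI 1) + (0 + 0) * x (eI 2) + (0 + 0) * x (eI 3) + (0 + 0) * x (eI 4) + (0 + 0) * x (eI 5) + (0 + 0) * x (eI 6) + (1 + 0) * x (eI 7) + (0 + 0) * x (eI 8) + (0 + 0) * x (eI 9) + 0 * x (eI 10) + (0 + 0) * x (eI 11)) : K) = _
    grind
  · rw [Matrix.mulVec, dotProduct, sumIdx]
    show (0 * x (hI 0) + 0 * x (hI 1) + ((0 + 0) * x (eI 0) + 0 * x (eI 1) + (0 + 0) * x (eI 2) + (0 + 0) * x (eI 3) + (0 + 0) * x (eI 4) + (0 + 0) * x (eI 5) + (0 + 0) * x (eI 6) + (0 + 0) * x (eI 7) + (1 + 0) * x (eI 8) + (0 + 0) * x (eI 9) + 0 * x (eI 10) + (0 + 0) * x (eI 11)) : K) = _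
    grind
  · rw [Matrix.mulVec, dotProduct, sumIdx]
    show (0 * x (hI 0) + 0 * x (hI 1) + ((0 + 0) * x (eI 0) + 0 * x (eI 1) + (0 + 0) * x (eI 2) + (0 + 0) * x (eI 3) + (0 + 0) * x (eI 4) + (0 + 0) * x (eI 5) + (0 + 0) * x (eI 6) + (0 + 0) * x (eI 7) + (0 + 0) * x (eI 8) + (1 + 0) * x (eI 9) + 0 * x (eI 10) + (0 + 0) * x (eI 11)) : K) = _
    grind
  · rw [Matrix.mulVec, dotProduct, sumIdx]
    show (0 * x (hI 0) + 0 * x (hI 1) + ((0 + 0) * x (eI 0) + 0 * x (eI 1) + (0 + 0) * x (eI 2) + (0 + 0) * x (eI 3) + (0 + 0) * x (eI 4) + (0 + 0) * x (eI 5) + (0 + 0) * x (eI 6) + (0 + 0) * x (eI 7) + (0 + 0) * x (eI 8) + (0 + 0) * x (eI 9) + 1 * x (eI 10) + (0 + 0) * x (eI 11)) : K) = _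
    grind
  · rw [Matrix.mulVec, dotProduct, sumIdx]
    show (0 * x (hI 0) + 0 * x (hI 1) + ((0 + 0) * x (eI 0) + 0 * x (eI 1) + (0 + 0) * x (eI 2) + (0 + 0) * x (eI 3) + (0 + 0) * x (eI 4) + (0 + 0) * x (eI 5) + (0 + 0) * x (eI 6) + (0 + 0) * x (eI 7) + (0 + 0) * x (eI 8) + (0 + 0) * x (eI 9) + 0 * x (eI 10) + (1 + 0) * x (eI 11)) : K) = _
    grind

theorem xrow2 (t : K) (x : chevG2.Idx → K) :
    Matrix.mulVec (chevG2.x K 2 t) x (hI 0) = x (hI 0) + t * x (eI 9) ∧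
    Matrix.mulVec (chevG2.x K 2 t) x (hI 1) = x (hI 1) ∧
    Matrix.mulVec (chevG2.x K 2 t) x (eI 0) = x (eI 0) + t ^ 3 * x (eI 10) ∧
    Matrix.mulVec (chevG2.x K 2 t) x (eI 1) = x (eI 1) - t ^ 3 * x (eI 11) ∧
    Matrix.mulVec (chevG2.x K 2 t) x (eI 2) = x (eI 2) + t * x (hI 0) - t ^ 2 * x (eI 9) ∧
    Matrix.mulVec (chevG2.x K 2 t) x (eI 3) = x (eI 3) + t * x (eI 7) + t ^ 2 * x (eI 10) ∧
    Matrix.mulVec (chevG2.x K 2 t) x (eI 4) = x (eI 4) - t * x (eI 8) - t ^ 2 * x (eI 11) ∧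
    Matrix.mulVec (chevG2.x K 2 t) x (eI 5) = x (eI 5) ∧
    Matrix.mulVec (chevG2.x K 2 t) x (eI 6) = x (eI 6) ∧
    Matrix.mulVec (chevG2.x K 2 t) x (eI 7) = x (eI 7) - t * x (eI 10) ∧
    Matrix.mulVec (chevG2.x K 2 t) x (eI 8) = x (eI 8) - t * x (eI 11) ∧
    Matrix.mulVec (chevG2.x K 2 t) x (eI 9) = x (eI 9) ∧
    Matrix.mulVec (chevG2.x K 2 t) x (eI 10) = x (eI 10) ∧
    Matrix.mulVec (chevG2.x K 2 t) x (eI 11) = x (eI 11) := by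
  refine ⟨?_, ?_, ?_, ?_, ?_, ?_, ?_, ?_, ?_, ?_, ?_, ?_, ?_, ?_⟩
  · rw [Matrix.mulVec, dotProduct, sumIdx]
    show (1 * x (hI 0) + 0 * x (hI 1) + (0 * x (eI 0) + 0 * x (eI 1) + 0 * x (eI 2) + 0 * x (eI 3) + 0 * x (eI 4) + 0 * x (eI 5) + 0 * x (eI 6) + 0 * x (eI 7) + 0 * x (eI 8) + (((-2 : ℤ) : K)) * t * x (eI 9) + 0 * x (eI 10) + 0 * x (eI 11)) : K) = _
    grind
  · rw [Matrix.mulVec, dotProduct, sumIdx]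
    show (0 * x (hI 0) + 1 * x (hI 1) + (0 * x (eI 0) + 0 * x (eI 1) + 0 * x (eI 2) + 0 * x (eI 3) + 0 * x (eI 4) + 0 * x (eI 5) + 0 * x (eI 6) + 0 * x (eI 7) + 0 * x (eI 8) + (((-3 : ℤ) : K)) * t * x (eI 9) + 0 * x (eI 10) + 0 * x (eI 11)) : K) = _
    grind
  · rw [Matrix.mulVec, dotProduct, sumIdx]
    show (0 * x (hI 0) + 0 * x (hI 1) + ((1 + 0) * x (eI 0) + (0 + 0) * x (eI 1) + 0 * x (eI 2) + (0 + (((3 : ℤ) : K) * t ^ 1 + 0)) * x (eI 3) + (0 + 0) * x (eI 4) + (0 + 0) * x (eI 5) + (0 + 0) * x (eI 6) + (0 + (((-3 : ℤ) : K) * t ^ 2 + 0)) * x (eI 7) + (0 + 0) * x (eI 8) + 0 * x (eI 9) + (0 + (((1 : ℤ) : K) * t ^ 3 + 0)) * x (eI 10) + (0 + 0) * x (eI 11)) : K) = _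
    grind
  · rw [Matrix.mulVec, dotProduct, sumIdx]
    show (0 * x (hI 0) + 0 * x (hI 1) + ((0 + 0) * x (eI 0) + (1 + 0) * x (eI 1) + 0 * x (eI 2) + (0 + 0) * x (eI 3) + (0 + (((3 : ℤ) : K) * t ^ 1 + 0)) * x (eI 4) + (0 + 0) * x (eI 5) + (0 + 0) * x (eI 6) + (0 + 0) * x (eI 7) + (0 + (((3 : ℤ) : K) * t ^ 2 + 0)) * x (eI 8) + 0 * x (eI 9) + (0 + 0) * x (eI 10) + (0 + (((-1 : ℤ) : K) * t ^ 3 + 0)) * x (eI 11)) : K) = _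
    grind
  · rw [Matrix.mulVec, dotProduct, sumIdx]
    show (-(((-1 : ℤ) : K)) * t * x (hI 0) + -(((0 : ℤ) : K)) * t * x (hI 1) + ((0 + 0) * x (eI 0) + (0 + 0) * x (eI 1) + 1 * x (eI 2) + (0 + 0) * x (eI 3) + (0 + 0) * x (eI 4) + (0 + 0) * x (eI 5) + (0 + 0) * x (eI 6) + (0 + 0) * x (eI 7) + (0 + 0) * x (eI 8) + -(t ^ 2) * x (eI 9) + (0 + 0) * x (eI 10) + (0 + 0) * x (eI 11)) : K) = _
    grind
  · rw [Matrix.mulVec, dotProduct, sumIdx]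
    show (0 * x (hI 0) + 0 * x (hI 1) + ((0 + 0) * x (eI 0) + (0 + 0) * x (eI 1) + 0 * x (eI 2) + (1 + 0) * x (eI 3) + (0 + 0) * x (eI 4) + (0 + 0) * x (eI 5) + (0 + 0) * x (eI 6) + (0 + (((-2 : ℤ) : K) * t ^ 1 + 0)) * x (eI 7) + (0 + 0) * x (eI 8) + 0 * x (eI 9) + (0 + (((1 : ℤ) : K) * t ^ 2 + 0)) * x (eI 10) + (0 + 0) * x (eI 11)) : K) = _
    grind
  · rw [Matrix.mulVec, dotProduct, sumIdx]
    show (0 * x (hI 0) + 0 * x (hI 1) + ((0 + 0) * x (eI 0) + (0 + 0) * x (eI 1) + 0 * x (eI 2) + (0 + 0) * x (eI 3) + (1 + 0) * x (eI 4) + (0 + 0) * x (eI 5) + (0 + 0) * x (eI 6) + (0 + 0) * x (eI 7) + (0 + (((2 : ℤ) : K) * t ^ 1 + 0)) * x (eI 8) + 0 * x (eI 9) + (0 + 0) * x (eI 10) + (0 + (((-1 : ℤ) : K) * t ^ 2 + 0)) * x (eI 11)) : K) = _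
    grind
  · rw [Matrix.mulVec, dotProduct, sumIdx]
    show (0 * x (hI 0) + 0 * x (hI 1) + ((0 + 0) * x (eI 0) + (0 + 0) * x (eI 1) + 0 * x (eI 2) + (0 + 0) * x (eI 3) + (0 + 0) * x (eI 4) + (1 + 0) * x (eI 5) + (0 + 0) * x (eI 6) + (0 + 0) * x (eI 7) + (0 + 0) * x (eI 8) + 0 * x (eI 9) + (0 + 0) * x (eI 10) + (0 + 0) * x (eI 11)) : K) = _
    grind
  · rw [Matrix.mulVec, dotProduct, sumIdx]
    show (0 * x (hI 0) + 0 * x (hI 1) + ((0 + 0) * x (eI 0) + (0 + 0) * x (eI 1) + 0 * x (eI 2) + (0 + 0) * x (eI 3) + (0 + 0) * x (eI 4) + (0 + 0) * x (eI 5) + (1 + 0) * x (eI 6) + (0 + 0) * x (eI 7) + (0 + 0) * x (eI 8) + 0 * x (eI 9) + (0 + 0) * x (eI 10) + (0 + 0) * x (eI 11)) : K) = _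
    grind
  · rw [Matrix.mulVec, dotProduct, sumIdx]
    show (0 * x (hI 0) + 0 * x (hI 1) + ((0 + 0) * x (eI 0) + (0 + 0) * x (eI 1) + 0 * x (eI 2) + (0 + 0) * x (eI 3) + (0 + 0) * x (eI 4) + (0 + 0) * x (eI 5) + (0 + 0) * x (eI 6) + (1 + 0) * x (eI 7) + (0 + 0) * x (eI 8) + 0 * x (eI 9) + (0 + (((-1 : ℤ) : K) * t ^ 1 + 0)) * x (eI 10) + (0 + 0) * x (eI 11)) : K) = _
    grind
  · rw [Matrix.mulVec, dotProduct, sumIdx]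
    show (0 * x (hI 0) + 0 * x (hI 1) + ((0 + 0) * x (eI 0) + (0 + 0) * x (eI 1) + 0 * x (eI 2) + (0 + 0) * x (eI 3) + (0 + 0) * x (eI 4) + (0 + 0) * x (eI 5) + (0 + 0) * x (eI 6) + (0 + 0) * x (eI 7) + (1 + 0) * x (eI 8) + 0 * x (eI 9) + (0 + 0) * x (eI 10) + (0 + (((-1 : ℤ) : K) * t ^ 1 + 0)) * x (eI 11)) : K) = _
    grind
  · rw [Matrix.mulVec, dotProduct, sumIdx]
    show (0 * x (hI 0) + 0 * x (hI 1) + ((0 + 0) * x (eI 0) + (0 + 0) * x (eI 1) + 0 * x (eI 2) + (0 + 0) * x (eI 3) + (0 + 0) * x (eI 4) + (0 + 0) * x (eI 5) + (0 + 0) * x (eI 6) + (0 + 0) * x (eI 7) + (0 + 0) * x (eI 8) + 1 * x (eI 9) + (0 + 0) * x (eI 10) + (0 + 0) * x (eI 11)) : K) = _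
    grind
  · rw [Matrix.mulVec, dotProduct, sumIdx]
    show (0 * x (hI 0) + 0 * x (hI 1) + ((0 + 0) * x (eI 0) + (0 + 0) * x (eI 1) + 0 * x (eI 2) + (0 + 0) * x (eI 3) + (0 + 0) * x (eI 4) + (0 + 0) * x (eI 5) + (0 + 0) * x (eI 6) + (0 + 0) * x (eI 7) + (0 + 0) * x (eI 8) + 0 * x (eI 9) + (1 + 0) * x (eI 10) + (0 + 0) * x (eI 11)) : K) = _
    grind
  · rw [Matrix.mulVec, dotProduct, sumIdx]
    show (0 * x (hI 0) + 0 * x (hI 1) + ((0 + 0) * x (eI 0) + (0 + 0) * x (eI 1) + 0 * x (eI 2) + (0 + 0) * x (eI 3) + (0 + 0) * x (eI 4) + (0 + 0) * x (eI 5) + (0 + 0) * x (eI 6) + (0 + 0) * x (eI 7) + (0 + 0) * x (eI 8) + 0 * x (eI 9) + (0 + 0) * x (eI 10) + (1 + 0) * x (eI 11)) : K) = _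
    grind

theorem xrow3 (t : K) (x : chevG2.Idx → K) :
    Matrix.mulVec (chevG2.x K 3 t) x (hI 0) = x (hI 0) - t * x (eI 8) ∧
    Matrix.mulVec (chevG2.x K 3 t) x (hI 1) = x (hI 1) ∧
    Matrix.mulVec (chevG2.x K 3 t) x (eI 0) = x (eI 0) + t ^ 3 * x (eI 6) ∧
    Matrix.mulVec (chevG2.x K 3 t) x (eI 1) = x (eI 1) ∧
    Matrix.mulVec (chevG2.x K 3 t) x (eI 2) = x (eI 2) + t * x (eI 4) - t ^ 2 * x (eI 6) ∧
    Matrix.mulVec (chevG2.x K 3 t) x (eI 3) = x (eI 3) - t * x (hI 0) + t * x (hI 1) - t ^ 2 * x (eI 8) ∧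
    Matrix.mulVec (chevG2.x K 3 t) x (eI 4) = x (eI 4) + t * x (eI 6) ∧
    Matrix.mulVec (chevG2.x K 3 t) x (eI 5) = x (eI 5) - t ^ 3 * x (eI 11) ∧
    Matrix.mulVec (chevG2.x K 3 t) x (eI 6) = x (eI 6) ∧
    Matrix.mulVec (chevG2.x K 3 t) x (eI 7) = x (eI 7) - t * x (eI 9) + t ^ 2 * x (eI 11) ∧
    Matrix.mulVec (chevG2.x K 3 t) x (eI 8) = x (eI 8) ∧
    Matrix.mulVec (chevG2.x K 3 t) x (eI 9) = x (eI 9) + t * x (eI 11) ∧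
    Matrix.mulVec (chevG2.x K 3 t) x (eI 10) = x (eI 10) ∧
    Matrix.mulVec (chevG2.x K 3 t) x (eI 11) = x (eI 11) := by
  refine ⟨?_, ?_, ?_, ?_, ?_, ?_, ?_, ?_, ?_, ?_, ?_, ?_, ?_, ?_⟩
  · rw [Matrix.mulVec, dotProduct, sumIdx]
    show (1 * x (hI 0) + 0 * x (hI 1) + (0 * x (eI 0) + 0 * x (eI 1) + 0 * x (eI 2) + 0 * x (eI 3) + 0 * x (eI 4) + 0 * x (eI 5) + 0 * x (eI 6) + 0 * x (eI 7) + (((-1 : ℤ) : K)) * t * x (eI 8) + 0 * x (eI 9) + 0 * x (eI 10) + 0 * x (eI 11)) : K) = _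
    grind
  · rw [Matrix.mulVec, dotProduct, sumIdx]
    show (0 * x (hI 0) + 1 * x (hI 1) + (0 * x (eI 0) + 0 * x (eI 1) + 0 * x (eI 2) + 0 * x (eI 3) + 0 * x (eI 4) + 0 * x (eI 5) + 0 * x (eI 6) + 0 * x (eI 7) + (((-3 : ℤ) : K)) * t * x (eI 8) + 0 * x (eI 9) + 0 * x (eI 10) + 0 * x (eI 11)) : K) = _
    grind
  · rw [Matrix.mulVec, dotProduct, sumIdx]
    show (0 * x (hI 0) + 0 * x (hI 1) + ((1 + 0) * x (eI 0) + (0 + 0) * x (eI 1) + (0 + (((-3 : ℤ) : K) * t ^ 1 + 0)) * x (eI 2) + 0 * x (eI 3) + (0 + (((3 : ℤ) : K) * t ^ 2 + 0)) * x (eI 4) + (0 + 0) * x (eI 5) + (0 + (((1 : ℤ) : K) * t ^ 3 + 0)) * x (eI 6) + (0 + 0) * x (eI 7) + 0 * x (eI 8) + (0 + 0) * x (eI 9) + (0 + 0) * x (eI 10) + (0 + 0) * x (eI 11)) : K) = _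
    grind
  · rw [Matrix.mulVec, dotProduct, sumIdx]
    show (0 * x (hI 0) + 0 * x (hI 1) + ((0 + 0) * x (eI 0) + (1 + 0) * x (eI 1) + (0 + 0) * x (eI 2) + 0 * x (eI 3) + (0 + 0) * x (eI 4) + (0 + 0) * x (eI 5) + (0 + 0) * x (eI 6) + (0 + 0) * x (eI 7) + 0 * x (eI 8) + (0 + 0) * x (eI 9) + (0 + 0) * x (eI 10) + (0 + 0) * x (eI 11)) : K) = _
    grind
  · rw [Matrix.mulVec, dotProduct, sumIdx]
    show (0 * x (hI 0) + 0 * x (hI 1) + ((0 + 0) * x (eI 0) + (0 + 0) * x (eI 1) + (1 + 0) * x (eI 2) + 0 * x (eI 3) + (0 + (((-2 : ℤ) : K) * t ^ 1 + 0)) * x (eI 4) + (0 + 0) * x (eI 5) + (0 + (((-1 : ℤ) : K) * t ^ 2 + 0)) * x (eI 6) + (0 + 0) * x (eI 7) + 0 * x (eI 8) + (0 + 0) * x (eI 9) + (0 + 0) * x (eI 10) + (0 + 0) * x (eI 11)) : K) = _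
    grind
  · rw [Matrix.mulVec, dotProduct, sumIdx]
    show (-(((1 : ℤ) : K)) * t * x (hI 0) + -(((-1 : ℤ) : K)) * t * x (hI 1) + ((0 + 0) * x (eI 0) + (0 + 0) * x (eI 1) + (0 + 0) * x (eI 2) + 1 * x (eI 3) + (0 + 0) * x (eI 4) + (0 + 0) * x (eI 5) + (0 + 0) * x (eI 6) + (0 + 0) * x (eI 7) + -(t ^ 2) * x (eI 8) + (0 + 0) * x (eI 9) + (0 + 0) * x (eI 10) + (0 + 0) * x (eI 11)) : K) = _
    grind
  · rw [Matrix.mulVec, dotProduct, sumIdx]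
    show (0 * x (hI 0) + 0 * x (hI 1) + ((0 + 0) * x (eI 0) + (0 + 0) * x (eI 1) + (0 + 0) * x (eI 2) + 0 * x (eI 3) + (1 + 0) * x (eI 4) + (0 + 0) * x (eI 5) + (0 + (((1 : ℤ) : K) * t ^ 1 + 0)) * x (eI 6) + (0 + 0) * x (eI 7) + 0 * x (eI 8) + (0 + 0) * x (eI 9) + (0 + 0) * x (eI 10) + (0 + 0) * x (eI 11)) : K) = _
    grind
  · rw [Matrix.mulVec, dotProduct, sumIdx]
    show (0 * x (hI 0) + 0 * x (hI 1) + ((0 + 0) * x (eI 0) + (0 + 0) * x (eI 1) + (0 + 0) * x (eI 2) + 0 * x (eI 3) + (0 + 0) * x (eI 4) + (1 + 0) * x (eI 5) + (0 + 0) * x (eI 6) + (0 + (((-3 : ℤ) : K) * t ^ 1 + 0)) * x (eI 7) + 0 * x (eI 8) + (0 + (((-3 : ℤ) : K) * t ^ 2 + 0)) * x (eI 9) + (0 + 0) * x (eI 10) + (0 + (((-1 : ℤ) : K) * t ^ 3 + 0)) * x (eI 11)) : K) = _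
    grind
  · rw [Matrix.mulVec, dotProduct, sumIdx]
    show (0 * x (hI 0) + 0 * x (hI 1) + ((0 + 0) * x (eI 0) + (0 + 0) * x (eI 1) + (0 + 0) * x (eI 2) + 0 * x (eI 3) + (0 + 0) * x (eI 4) + (0 + 0) * x (eI 5) + (1 + 0) * x (eI 6) + (0 + 0) * x (eI 7) + 0 * x (eI 8) + (0 + 0) * x (eI 9) + (0 + 0) * x (eI 10) + (0 + 0) * x (eI 11)) : K) = _
    grind
  · rw [Matrix.mulVec, dotProduct, sumIdx]
    show (0 * x (hI 0) + 0 * x (hI 1) + ((0 + 0) * x (eI 0) + (0 + 0) * x (eI 1) + (0 + 0) * x (eI 2) + 0 * x (eI 3) + (0 + 0) * x (eI 4) + (0 + 0) * x (eI 5) + (0 + 0) * x (eI 6) + (1 + 0) * x (eI 7) + 0 * x (eI 8) + (0 + (((2 : ℤ) : K) * t ^ 1 + 0)) * x (eI 9) + (0 + 0) * x (eI 10) + (0 + (((1 : ℤ) : K) * t ^ 2 + 0)) * x (eI 11)) : K) = _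
    grind
  · rw [Matrix.mulVec, dotProduct, sumIdx]
    show (0 * x (hI 0) + 0 * x (hI 1) + ((0 + 0) * x (eI 0) + (0 + 0) * x (eI 1) + (0 + 0) * x (eI 2) + 0 * x (eI 3) + (0 + 0) * x (eI 4) + (0 + 0) * x (eI 5) + (0 + 0) * x (eI 6) + (0 + 0) * x (eI 7) + 1 * x (eI 8) + (0 + 0) * x (eI 9) + (0 + 0) * x (eI 10) + (0 + 0) * x (eI 11)) : K) = _
    grind
  · rw [Matrix.mulVec, dotProduct, sumIdx]
    show (0 * x (hI 0) + 0 * x (hI 1) + ((0 + 0) * x (eI 0) + (0 + 0) * x (eI 1) + (0 + 0) * x (eI 2) + 0 * x (eI 3) + (0 + 0) * x (eI 4) + (0 + 0) * x (eI 5) + (0 + 0) * x (eI 6) + (0 + 0) * x (eI 7) + 0 * x (eI 8) + (1 + 0) * x (eI 9) + (0 + 0) * x (eI 10) + (0 + (((1 : ℤ) : K) * t ^ 1 + 0)) * x (eI 11)) : K) = _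
    grind
  · rw [Matrix.mulVec, dotProduct, sumIdx]
    show (0 * x (hI 0) + 0 * x (hI 1) + ((0 + 0) * x (eI 0) + (0 + 0) * x (eI 1) + (0 + 0) * x (eI 2) + 0 * x (eI 3) + (0 + 0) * x (eI 4) + (0 + 0) * x (eI 5) + (0 + 0) * x (eI 6) + (0 + 0) * x (eI 7) + 0 * x (eI 8) + (0 + 0) * x (eI 9) + (1 + 0) * x (eI 10) + (0 + 0) * x (eI 11)) : K) = _
    grind
  · rw [Matrix.mulVec, dotProduct, sumIdx]
    show (0 * x (hI 0) + 0 * x (hI 1) + ((0 + 0) * x (eI 0) + (0 + 0) * x (eI 1) + (0 + 0) * x (eI 2) + 0 * x (eI 3) + (0 + 0) * x (eI 4) + (0 + 0) * x (eI 5) + (0 + 0) * x (eI 6) + (0 + 0) * x (eI 7) + 0 * x (eI 8) + (0 + 0) * x (eI 9) + (0 + 0) * x (eI 10) + (1 + 0) * x (eI 11)) : K) = _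
    grind

theorem xrow4 (t : K) (x : chevG2.Idx → K) :
    Matrix.mulVec (chevG2.x K 4 t) x (hI 0) = x (hI 0) - t * x (eI 7) ∧
    Matrix.mulVec (chevG2.x K 4 t) x (hI 1) = x (hI 1) ∧
    Matrix.mulVec (chevG2.x K 4 t) x (eI 0) = x (eI 0) ∧
    Matrix.mulVec (chevG2.x K 4 t) x (eI 1) = x (eI 1) - t ^ 3 * x (eI 5) ∧
    Matrix.mulVec (chevG2.x K 4 t) x (eI 2) = x (eI 2) - t * x (eI 3) + t ^ 2 * x (eI 5) ∧
    Matrix.mulVec (chevG2.x K 4 t) x (eI 3) = x (eI 3) + t * x (eI 5) ∧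
    Matrix.mulVec (chevG2.x K 4 t) x (eI 4) = x (eI 4) - t * x (hI 0) - t * x (hI 1) - t ^ 2 * x (eI 7) ∧
    Matrix.mulVec (chevG2.x K 4 t) x (eI 5) = x (eI 5) ∧
    Matrix.mulVec (chevG2.x K 4 t) x (eI 6) = x (eI 6) + t ^ 3 * x (eI 10) ∧
    Matrix.mulVec (chevG2.x K 4 t) x (eI 7) = x (eI 7) ∧
    Matrix.mulVec (chevG2.x K 4 t) x (eI 8) = x (eI 8) + t * x (eI 9) - t ^ 2 * x (eI 10) ∧
    Matrix.mulVec (chevG2.x K 4 t) x (eI 9) = x (eI 9) + t * x (eI 10) ∧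
    Matrix.mulVec (chevG2.x K 4 t) x (eI 10) = x (eI 10) ∧
    Matrix.mulVec (chevG2.x K 4 t) x (eI 11) = x (eI 11) := by
  refine ⟨?_, ?_, ?_, ?_, ?_, ?_, ?_, ?_, ?_, ?_, ?_, ?_, ?_, ?_⟩
  · rw [Matrix.mulVec, dotProduct, sumIdx]
    show (1 * x (hI 0) + 0 * x (hI 1) + (0 * x (eI 0) + 0 * x (eI 1) + 0 * x (eI 2) + 0 * x (eI 3) + 0 * x (eI 4) + 0 * x (eI 5) + 0 * x (eI 6) + (((-1 : ℤ) : K)) * t * x (eI 7) + 0 * x (eI 8) + 0 * x (eI 9) + 0 * x (eI 10) + 0 * x (eI 11)) : K) = _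
    grind
  · rw [Matrix.mulVec, dotProduct, sumIdx]
    show (0 * x (hI 0) + 1 * x (hI 1) + (0 * x (eI 0) + 0 * x (eI 1) + 0 * x (eI 2) + 0 * x (eI 3) + 0 * x (eI 4) + 0 * x (eI 5) + 0 * x (eI 6) + (((0 : ℤ) : K)) * t * x (eI 7) + 0 * x (eI 8) + 0 * x (eI 9) + 0 * x (eI 10) + 0 * x (eI 11)) : K) = _
    grind
  · rw [Matrix.mulVec, dotProduct, sumIdx]
    show (0 * x (hI 0) + 0 * x (hI 1) + ((1 + 0) * x (eI 0) + (0 + 0) * x (eI 1) + (0 + 0) * x (eI 2) + (0 + 0) * x (eI 3) + 0 * x (eI 4) + (0 + 0) * x (eI 5) + (0 + 0) * x (eI 6) + 0 * x (eI 7) + (0 + 0) * x (eI 8) + (0 + 0) * x (eI 9) + (0 + 0) * x (eI 10) + (0 + 0) * x (eI 11)) : K) = _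
    grind
  · rw [Matrix.mulVec, dotProduct, sumIdx]
    show (0 * x (hI 0) + 0 * x (hI 1) + ((0 + 0) * x (eI 0) + (1 + 0) * x (eI 1) + (0 + (((-3 : ℤ) : K) * t ^ 1 + 0)) * x (eI 2) + (0 + (((-3 : ℤ) : K) * t ^ 2 + 0)) * x (eI 3) + 0 * x (eI 4) + (0 + (((-1 : ℤ) : K) * t ^ 3 + 0)) * x (eI 5) + (0 + 0) * x (eI 6) + 0 * x (eI 7) + (0 + 0) * x (eI 8) + (0 + 0) * x (eI 9) + (0 + 0) * x (eI 10) + (0 + 0) * x (eI 11)) : K) = _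
    grind
  · rw [Matrix.mulVec, dotProduct, sumIdx]
    show (0 * x (hI 0) + 0 * x (hI 1) + ((0 + 0) * x (eI 0) + (0 + 0) * x (eI 1) + (1 + 0) * x (eI 2) + (0 + (((2 : ℤ) : K) * t ^ 1 + 0)) * x (eI 3) + 0 * x (eI 4) + (0 + (((1 : ℤ) : K) * t ^ 2 + 0)) * x (eI 5) + (0 + 0) * x (eI 6) + 0 * x (eI 7) + (0 + 0) * x (eI 8) + (0 + 0) * x (eI 9) + (0 + 0) * x (eI 10) + (0 + 0) * x (eI 11)) : K) = _
    grind
  · rw [Matrix.mulVec, dotProduct, sumIdx]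
    show (0 * x (hI 0) + 0 * x (hI 1) + ((0 + 0) * x (eI 0) + (0 + 0) * x (eI 1) + (0 + 0) * x (eI 2) + (1 + 0) * x (eI 3) + 0 * x (eI 4) + (0 + (((1 : ℤ) : K) * t ^ 1 + 0)) * x (eI 5) + (0 + 0) * x (eI 6) + 0 * x (eI 7) + (0 + 0) * x (eI 8) + (0 + 0) * x (eI 9) + (0 + 0) * x (eI 10) + (0 + 0) * x (eI 11)) : K) = _
    grind
  · rw [Matrix.mulVec, dotProduct, sumIdx]
    show (-(((-2 : ℤ) : K)) * t * x (hI 0) + -(((1 : ℤ) : K)) * t * x (hI 1) + ((0 + 0) * x (eI 0) + (0 + 0) * x (eI 1) + (0 + 0) * x (eI 2) + (0 + 0) * x (eI 3) + 1 * x (eI 4) + (0 + 0) * x (eI 5) + (0 + 0) * x (eI 6) + -(t ^ 2) * x (eI 7) + (0 + 0) * x (eI 8) + (0 + 0) * x (eI 9) + (0 + 0) * x (eI 10) + (0 + 0) * x (eI 11)) : K) = _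
    grind
  · rw [Matrix.mulVec, dotProduct, sumIdx]
    show (0 * x (hI 0) + 0 * x (hI 1) + ((0 + 0) * x (eI 0) + (0 + 0) * x (eI 1) + (0 + 0) * x (eI 2) + (0 + 0) * x (eI 3) + 0 * x (eI 4) + (1 + 0) * x (eI 5) + (0 + 0) * x (eI 6) + 0 * x (eI 7) + (0 + 0) * x (eI 8) + (0 + 0) * x (eI 9) + (0 + 0) * x (eI 10) + (0 + 0) * x (eI 11)) : K) = _
    grind
  · rw [Matrix.mulVec, dotProduct, sumIdx]
    show (0 * x (hI 0) + 0 * x (hI 1) + ((0 + 0) * x (eI 0) + (0 + 0) * x (eI 1) + (0 + 0) * x (eI 2) + (0 + 0) * x (eI 3) + 0 * x (eI 4) + (0 + 0) * x (eI 5) + (1 + 0) * x (eI 6) + 0 * x (eI 7) + (0 + (((-3 : ℤ) : K) * t ^ 1 + 0)) * x (eI 8) + (0 + (((3 : ℤ) : K) * t ^ 2 + 0)) * x (eI 9) + (0 + (((1 : ℤ) : K) * t ^ 3 + 0)) * x (eI 10) + (0 + 0) * x (eI 11)) : K) = _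
    grind
  · rw [Matrix.mulVec, dotProduct, sumIdx]
    show (0 * x (hI 0) + 0 * x (hI 1) + ((0 + 0) * x (eI 0) + (0 + 0) * x (eI 1) + (0 + 0) * x (eI 2) + (0 + 0) * x (eI 3) + 0 * x (eI 4) + (0 + 0) * x (eI 5) + (0 + 0) * x (eI 6) + 1 * x (eI 7) + (0 + 0) * x (eI 8) + (0 + 0) * x (eI 9) + (0 + 0) * x (eI 10) + (0 + 0) * x (eI 11)) : K) = _
    grind
  · rw [Matrix.mulVec, dotProduct, sumIdx]
    show (0 * x (hI 0) + 0 * x (hI 1) + ((0 + 0) * x (eI 0) + (0 + 0) * x (eI 1) + (0 + 0) * x (eI 2) + (0 + 0) * x (eI 3) + 0 * x (eI 4) + (0 + 0) * x (eI 5) + (0 + 0) * x (eI 6) + 0 * x (eI 7) + (1 + 0) * x (eI 8) + (0 + (((-2 : ℤ) : K) * t ^ 1 + 0)) * x (eI 9) + (0 + (((-1 : ℤ) : K) * t ^ 2 + 0)) * x (eI 10) + (0 + 0) * x (eI 11)) : K) = _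
    grind
  · rw [Matrix.mulVec, dotProduct, sumIdx]
    show (0 * x (hI 0) + 0 * x (hI 1) + ((0 + 0) * x (eI 0) + (0 + 0) * x (eI 1) + (0 + 0) * x (eI 2) + (0 + 0) * x (eI 3) + 0 * x (eI 4) + (0 + 0) * x (eI 5) + (0 + 0) * x (eI 6) + 0 * x (eI 7) + (0 + 0) * x (eI 8) + (1 + 0) * x (eI 9) + (0 + (((1 : ℤ) : K) * t ^ 1 + 0)) * x (eI 10) + (0 + 0) * x (eI 11)) : K) = _
    grind
  · rw [Matrix.mulVec, dotProduct, sumIdx]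
    show (0 * x (hI 0) + 0 * x (hI 1) + ((0 + 0) * x (eI 0) + (0 + 0) * x (eI 1) + (0 + 0) * x (eI 2) + (0 + 0) * x (eI 3) + 0 * x (eI 4) + (0 + 0) * x (eI 5) + (0 + 0) * x (eI 6) + 0 * x (eI 7) + (0 + 0) * x (eI 8) + (0 + 0) * x (eI 9) + (1 + 0) * x (eI 10) + (0 + 0) * x (eI 11)) : K) = _
    grind
  · rw [Matrix.mulVec, dotProduct, sumIdx]
    show (0 * x (hI 0) + 0 * x (hI 1) + ((0 + 0) * x (eI 0) + (0 + 0) * x (eI 1) + (0 + 0) * x (eI 2) + (0 + 0) * x (eI 3) + 0 * x (eI 4) + (0 + 0) * x (eI 5) + (0 + 0) * x (eI 6) + 0 * x (eI 7) + (0 + 0) * x (eI 8) + (0 + 0) * x (eI 9) + (0 + 0) * x (eI 10) + (1 + 0) * x (eI 11)) : K) = _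
    grind

theorem xrow5 (t : K) (x : chevG2.Idx → K) :
    Matrix.mulVec (chevG2.x K 5 t) x (hI 0) = x (hI 0) ∧
    Matrix.mulVec (chevG2.x K 5 t) x (hI 1) = x (hI 1) - t * x (eI 6) ∧
    Matrix.mulVec (chevG2.x K 5 t) x (eI 0) = x (eI 0) - t * x (eI 1) ∧
    Matrix.mulVec (chevG2.x K 5 t) x (eI 1) = x (eI 1) ∧
    Matrix.mulVec (chevG2.x K 5 t) x (eI 2) = x (eI 2) ∧
    Matrix.mulVec (chevG2.x K 5 t) x (eI 3) = x (eI 3) - t * x (eI 4) ∧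
    Matrix.mulVec (chevG2.x K 5 t) x (eI 4) = x (eI 4) ∧
    Matrix.mulVec (chevG2.x K 5 t) x (eI 5) = x (eI 5) - t * x (hI 1) - t ^ 2 * x (eI 6) ∧
    Matrix.mulVec (chevG2.x K 5 t) x (eI 6) = x (eI 6) ∧
    Matrix.mulVec (chevG2.x K 5 t) x (eI 7) = x (eI 7) + t * x (eI 8) ∧
    Matrix.mulVec (chevG2.x K 5 t) x (eI 8) = x (eI 8) ∧
    Matrix.mulVec (chevG2.x K 5 t) x (eI 9) = x (eI 9) ∧
    Matrix.mulVec (chevG2.x K 5 t) x (eI 10) = x (eI 10) + t * x (eI 11) ∧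
    Matrix.mulVec (chevG2.x K 5 t) x (eI 11) = x (eI 11) := by
  refine ⟨?_, ?_, ?_, ?_, ?_, ?_, ?_, ?_, ?_, ?_, ?_, ?_, ?_, ?_⟩
  · rw [Matrix.mulVec, dotProduct, sumIdx]
    show (1 * x (hI 0) + 0 * x (hI 1) + (0 * x (eI 0) + 0 * x (eI 1) + 0 * x (eI 2) + 0 * x (eI 3) + 0 * x (eI 4) + 0 * x (eI 5) + (((0 : ℤ) : K)) * t * x (eI 6) + 0 * x (eI 7) + 0 * x (eI 8) + 0 * x (eI 9) + 0 * x (eI 10) + 0 * x (eI 11)) : K) = _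
    grind
  · rw [Matrix.mulVec, dotProduct, sumIdx]
    show (0 * x (hI 0) + 1 * x (hI 1) + (0 * x (eI 0) + 0 * x (eI 1) + 0 * x (eI 2) + 0 * x (eI 3) + 0 * x (eI 4) + 0 * x (eI 5) + (((-1 : ℤ) : K)) * t * x (eI 6) + 0 * x (eI 7) + 0 * x (eI 8) + 0 * x (eI 9) + 0 * x (eI 10) + 0 * x (eI 11)) : K) = _
    grind
  · rw [Matrix.mulVec, dotProduct, sumIdx]
    show (0 * x (hI 0) + 0 * x (hI 1) + ((1 + 0) * x (eI 0) + (0 + (((-1 : ℤ) : K) * t ^ 1 + 0)) * x (eI 1) + (0 + 0) * x (eI 2) + (0 + 0) * x (eI 3) + (0 + 0) * x (eI 4) + 0 * x (eI 5) + 0 * x (eI 6) + (0 + 0) * x (eI 7) + (0 + 0) * x (eI 8) + (0 + 0) * x (eI 9) + (0 + 0) * x (eI 10) + (0 + 0) * x (eI 11)) : K) = _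
    grind
  · rw [Matrix.mulVec, dotProduct, sumIdx]
    show (0 * x (hI 0) + 0 * x (hI 1) + ((0 + 0) * x (eI 0) + (1 + 0) * x (eI 1) + (0 + 0) * x (eI 2) + (0 + 0) * x (eI 3) + (0 + 0) * x (eI 4) + 0 * x (eI 5) + 0 * x (eI 6) + (0 + 0) * x (eI 7) + (0 + 0) * x (eI 8) + (0 + 0) * x (eI 9) + (0 + 0) * x (eI 10) + (0 + 0) * x (eI 11)) : K) = _
    grind
  · rw [Matrix.mulVec, dotProduct, sumIdx]
    show (0 * x (hI 0) + 0 * x (hI 1) + ((0 + 0) * x (eI 0) + (0 + 0) * x (eI 1) + (1 + 0) * x (eI 2) + (0 + 0) * x (eI 3) + (0 + 0) * x (eI 4) + 0 * x (eI 5) + 0 * x (eI 6) + (0 + 0) * x (eI 7) + (0 + 0) * x (eI 8) + (0 + 0) * x (eI 9) + (0 + 0) * x (eI 10) + (0 + 0) * x (eI 11)) : K) = _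
    grind
  · rw [Matrix.mulVec, dotProduct, sumIdx]
    show (0 * x (hI 0) + 0 * x (hI 1) + ((0 + 0) * x (eI 0) + (0 + 0) * x (eI 1) + (0 + 0) * x (eI 2) + (1 + 0) * x (eI 3) + (0 + (((-1 : ℤ) : K) * t ^ 1 + 0)) * x (eI 4) + 0 * x (eI 5) + 0 * x (eI 6) + (0 + 0) * x (eI 7) + (0 + 0) * x (eI 8) + (0 + 0) * x (eI 9) + (0 + 0) * x (eI 10) + (0 + 0) * x (eI 11)) : K) = _
    grind
  · rw [Matrix.mulVec, dotProduct, sumIdx]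
    show (0 * x (hI 0) + 0 * x (hI 1) + ((0 + 0) * x (eI 0) + (0 + 0) * x (eI 1) + (0 + 0) * x (eI 2) + (0 + 0) * x (eI 3) + (1 + 0) * x (eI 4) + 0 * x (eI 5) + 0 * x (eI 6) + (0 + 0) * x (eI 7) + (0 + 0) * x (eI 8) + (0 + 0) * x (eI 9) + (0 + 0) * x (eI 10) + (0 + 0) * x (eI 11)) : K) = _
    grind
  · rw [Matrix.mulVec, dotProduct, sumIdx]
    show (-(((3 : ℤ) : K)) * t * x (hI 0) + -(((-2 : ℤ) : K)) * t * x (hI 1) + ((0 + 0) * x (eI 0) + (0 + 0) * x (eI 1) + (0 + 0) * x (eI 2) + (0 + 0) * x (eI 3) + (0 + 0) * x (eI 4) + 1 * x (eI 5) + -(t ^ 2) * x (eI 6) + (0 + 0) * x (eI 7) + (0 + 0) * x (eI 8) + (0 + 0) * x (eI 9) + (0 + 0) * x (eI 10) + (0 + 0) * x (eI 11)) : K) = _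
    grind
  · rw [Matrix.mulVec, dotProduct, sumIdx]
    show (0 * x (hI 0) + 0 * x (hI 1) + ((0 + 0) * x (eI 0) + (0 + 0) * x (eI 1) + (0 + 0) * x (eI 2) + (0 + 0) * x (eI 3) + (0 + 0) * x (eI 4) + 0 * x (eI 5) + 1 * x (eI 6) + (0 + 0) * x (eI 7) + (0 + 0) * x (eI 8) + (0 + 0) * x (eI 9) + (0 + 0) * x (eI 10) + (0 + 0) * x (eI 11)) : K) = _
    grind
  · rw [Matrix.mulVec, dotProduct, sumIdx]
    show (0 * x (hI 0) + 0 * x (hI 1) + ((0 + 0) * x (eI 0) + (0 + 0) * x (eI 1) + (0 + 0) * x (eI 2) + (0 + 0) * x (eI 3) + (0 + 0) * x (eI 4) + 0 * x (eI 5) + 0 * x (eI 6) + (1 + 0) * x (eI 7) + (0 + (((1 : ℤ) : K) * t ^ 1 + 0)) * x (eI 8) + (0 + 0) * x (eI 9) + (0 + 0) * x (eI 10) + (0 + 0) * x (eI 11)) : K) = _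
    grind
  · rw [Matrix.mulVec, dotProduct, sumIdx]
    show (0 * x (hI 0) + 0 * x (hI 1) + ((0 + 0) * x (eI 0) + (0 + 0) * x (eI 1) + (0 + 0) * x (eI 2) + (0 + 0) * x (eI 3) + (0 + 0) * x (eI 4) + 0 * x (eI 5) + 0 * x (eI 6) + (0 + 0) * x (eI 7) + (1 + 0) * x (eI 8) + (0 + 0) * x (eI 9) + (0 + 0) * x (eI 10) + (0 + 0) * x (eI 11)) : K) = _
    grind
  · rw [Matrix.mulVec, dotProduct, sumIdx]
    show (0 * x (hI 0) + 0 * x (hI 1) + ((0 + 0) * x (eI 0) + (0 + 0) * x (eI 1) + (0 + 0) * x (eI 2) + (0 + 0) * x (eI 3) + (0 + 0) * x (eI 4) + 0 * x (eI 5) + 0 * x (eI 6) + (0 + 0) * x (eI 7) + (0 + 0) * x (eI 8) + (1 + 0) * x (eI 9) + (0 + 0) * x (eI 10) + (0 + 0) * x (eI 11)) : K) = _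
    grind
  · rw [Matrix.mulVec, dotProduct, sumIdx]
    show (0 * x (hI 0) + 0 * x (hI 1) + ((0 + 0) * x (eI 0) + (0 + 0) * x (eI 1) + (0 + 0) * x (eI 2) + (0 + 0) * x (eI 3) + (0 + 0) * x (eI 4) + 0 * x (eI 5) + 0 * x (eI 6) + (0 + 0) * x (eI 7) + (0 + 0) * x (eI 8) + (0 + 0) * x (eI 9) + (1 + 0) * x (eI 10) + (0 + (((1 : ℤ) : K) * t ^ 1 + 0)) * x (eI 11)) : K) = _
    grind
  · rw [Matrix.mulVec, dotProduct, sumIdx]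
    show (0 * x (hI 0) + 0 * x (hI 1) + ((0 + 0) * x (eI 0) + (0 + 0) * x (eI 1) + (0 + 0) * x (eI 2) + (0 + 0) * x (eI 3) + (0 + 0) * x (eI 4) + 0 * x (eI 5) + 0 * x (eI 6) + (0 + 0) * x (eI 7) + (0 + 0) * x (eI 8) + (0 + 0) * x (eI 9) + (0 + 0) * x (eI 10) + (1 + 0) * x (eI 11)) : K) = _
    grind

theorem xrow6 (t : K) (x : chevG2.Idx → K) :
    Matrix.mulVec (chevG2.x K 6 t) x (hI 0) = x (hI 0) ∧
    Matrix.mulVec (chevG2.x K 6 t) x (hI 1) = x (hI 1) + t * x (eI 5) ∧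
    Matrix.mulVec (chevG2.x K 6 t) x (eI 0) = x (eI 0) ∧
    Matrix.mulVec (chevG2.x K 6 t) x (eI 1) = x (eI 1) - t * x (eI 0) ∧
    Matrix.mulVec (chevG2.x K 6 t) x (eI 2) = x (eI 2) ∧
    Matrix.mulVec (chevG2.x K 6 t) x (eI 3) = x (eI 3) ∧
    Matrix.mulVec (chevG2.x K 6 t) x (eI 4) = x (eI 4) - t * x (eI 3) ∧
    Matrix.mulVec (chevG2.x K 6 t) x (eI 5) = x (eI 5) ∧
    Matrix.mulVec (chevG2.x K 6 t) x (eI 6) = x (eI 6) + t * x (hI 1) - t ^ 2 * x (eI 5) ∧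
    Matrix.mulVec (chevG2.x K 6 t) x (eI 7) = x (eI 7) ∧
    Matrix.mulVec (chevG2.x K 6 t) x (eI 8) = x (eI 8) + t * x (eI 7) ∧
    Matrix.mulVec (chevG2.x K 6 t) x (eI 9) = x (eI 9) ∧
    Matrix.mulVec (chevG2.x K 6 t) x (eI 10) = x (eI 10) ∧
    Matrix.mulVec (chevG2.x K 6 t) x (eI 11) = x (eI 11) + t * x (eI 10) := by
  refine ⟨?_, ?_, ?_, ?_, ?_, ?_, ?_, ?_, ?_, ?_, ?_, ?_, ?_, ?_⟩
  · rw [Matrix.mulVec, dotProduct, sumIdx]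
    show (1 * x (hI 0) + 0 * x (hI 1) + (0 * x (eI 0) + 0 * x (eI 1) + 0 * x (eI 2) + 0 * x (eI 3) + 0 * x (eI 4) + (((0 : ℤ) : K)) * t * x (eI 5) + 0 * x (eI 6) + 0 * x (eI 7) + 0 * x (eI 8) + 0 * x (eI 9) + 0 * x (eI 10) + 0 * x (eI 11)) : K) = _
    grind
  · rw [Matrix.mulVec, dotProduct, sumIdx]
    show (0 * x (hI 0) + 1 * x (hI 1) + (0 * x (eI 0) + 0 * x (eI 1) + 0 * x (eI 2) + 0 * x (eI 3) + 0 * x (eI 4) + (((1 : ℤ) : K)) * t * x (eI 5) + 0 * x (eI 6) + 0 * x (eI 7) + 0 * x (eI 8) + 0 * x (eI 9) + 0 * x (eI 10) + 0 * x (eI 11)) : K) = _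
    grind
  · rw [Matrix.mulVec, dotProduct, sumIdx]
    show (0 * x (hI 0) + 0 * x (hI 1) + ((1 + 0) * x (eI 0) + (0 + 0) * x (eI 1) + (0 + 0) * x (eI 2) + (0 + 0) * x (eI 3) + (0 + 0) * x (eI 4) + 0 * x (eI 5) + 0 * x (eI 6) + (0 + 0) * x (eI 7) + (0 + 0) * x (eI 8) + (0 + 0) * x (eI 9) + (0 + 0) * x (eI 10) + (0 + 0) * x (eI 11)) : K) = _
    grind
  · rw [Matrix.mulVec, dotProduct, sumIdx]
    show (0 * x (hI 0) + 0 * x (hI 1) + ((0 + (((-1 : ℤ) : K) * t ^ 1 + 0)) * x (eI 0) + (1 + 0) * x (eI 1) + (0 + 0) * x (eI 2) + (0 + 0) * x (eI 3) + (0 + 0) * x (eI 4) + 0 * x (eI 5) + 0 * x (eI 6) + (0 + 0) * x (eI 7) + (0 + 0) * x (eI 8) + (0 + 0) * x (eI 9) + (0 + 0) * x (eI 10) + (0 + 0) * x (eI 11)) : K) = _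
    grind
  · rw [Matrix.mulVec, dotProduct, sumIdx]
    show (0 * x (hI 0) + 0 * x (hI 1) + ((0 + 0) * x (eI 0) + (0 + 0) * x (eI 1) + (1 + 0) * x (eI 2) + (0 + 0) * x (eI 3) + (0 + 0) * x (eI 4) + 0 * x (eI 5) + 0 * x (eI 6) + (0 + 0) * x (eI 7) + (0 + 0) * x (eI 8) + (0 + 0) * x (eI 9) + (0 + 0) * x (eI 10) + (0 + 0) * x (eI 11)) : K) = _
    grind
  · rw [Matrix.mulVec, dotProduct, sumIdx]
    show (0 * x (hI 0) + 0 * x (hI 1) + ((0 + 0) * x (eI 0) + (0 + 0) * x (eI 1) + (0 + 0) * x (eI 2) + (1 + 0) * x (eI 3) + (0 + 0) * x (eI 4) + 0 * x (eI 5) + 0 * x (eI 6) + (0 + 0) * x (eI 7) + (0 + 0) * x (eI 8) + (0 + 0) * x (eI 9) + (0 + 0) * x (eI 10) + (0 + 0) * x (eI 11)) : K) = _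
    grind
  · rw [Matrix.mulVec, dotProduct, sumIdx]
    show (0 * x (hI 0) + 0 * x (hI 1) + ((0 + 0) * x (eI 0) + (0 + 0) * x (eI 1) + (0 + 0) * x (eI 2) + (0 + (((-1 : ℤ) : K) * t ^ 1 + 0)) * x (eI 3) + (1 + 0) * x (eI 4) + 0 * x (eI 5) + 0 * x (eI 6) + (0 + 0) * x (eI 7) + (0 + 0) * x (eI 8) + (0 + 0) * x (eI 9) + (0 + 0) * x (eI 10) + (0 + 0) * x (eI 11)) : K) = _
    grind
  · rw [Matrix.mulVec, dotProduct, sumIdx]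
    show (0 * x (hI 0) + 0 * x (hI 1) + ((0 + 0) * x (eI 0) + (0 + 0) * x (eI 1) + (0 + 0) * x (eI 2) + (0 + 0) * x (eI 3) + (0 + 0) * x (eI 4) + 1 * x (eI 5) + 0 * x (eI 6) + (0 + 0) * x (eI 7) + (0 + 0) * x (eI 8) + (0 + 0) * x (eI 9) + (0 + 0) * x (eI 10) + (0 + 0) * x (eI 11)) : K) = _
    grind
  · rw [Matrix.mulVec, dotProduct, sumIdx]
    show (-(((-3 : ℤ) : K)) * t * x (hI 0) + -(((2 : ℤ) : K)) * t * x (hI 1) + ((0 + 0) * x (eI 0) + (0 + 0) * x (eI 1) + (0 + 0) * x (eI 2) + (0 + 0) * x (eI 3) + (0 + 0) * x (eI 4) + -(t ^ 2) * x (eI 5) + 1 * x (eI 6) + (0 + 0) * x (eI 7) + (0 + 0) * x (eI 8) + (0 + 0) * x (eI 9) + (0 + 0) * x (eI 10) + (0 + 0) * x (eI 11)) : K) = _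
    grind
  · rw [Matrix.mulVec, dotProduct, sumIdx]
    show (0 * x (hI 0) + 0 * x (hI 1) + ((0 + 0) * x (eI 0) + (0 + 0) * x (eI 1) + (0 + 0) * x (eI 2) + (0 + 0) * x (eI 3) + (0 + 0) * x (eI 4) + 0 * x (eI 5) + 0 * x (eI 6) + (1 + 0) * x (eI 7) + (0 + 0) * x (eI 8) + (0 + 0) * x (eI 9) + (0 + 0) * x (eI 10) + (0 + 0) * x (eI 11)) : K) = _
    grind
  · rw [Matrix.mulVec, dotProduct, sumIdx]
    show (0 * x (hI 0) + 0 * x (hI 1) + ((0 + 0) * x (eI 0) + (0 + 0) * x (eI 1) + (0 + 0) * x (eI 2) + (0 + 0) * x (eI 3) + (0 + 0) * x (eI 4) + 0 * x (eI 5) + 0 * x (eI 6) + (0 + (((1 : ℤ) : K) * t ^ 1 + 0)) * x (eI 7) + (1 + 0) * x (eI 8) + (0 + 0) * x (eI 9) + (0 + 0) * x (eI 10) + (0 + 0) * x (eI 11)) : K) = _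
    grind
  · rw [Matrix.mulVec, dotProduct, sumIdx]
    show (0 * x (hI 0) + 0 * x (hI 1) + ((0 + 0) * x (eI 0) + (0 + 0) * x (eI 1) + (0 + 0) * x (eI 2) + (0 + 0) * x (eI 3) + (0 + 0) * x (eI 4) + 0 * x (eI 5) + 0 * x (eI 6) + (0 + 0) * x (eI 7) + (0 + 0) * x (eI 8) + (1 + 0) * x (eI 9) + (0 + 0) * x (eI 10) + (0 + 0) * x (eI 11)) : K) = _
    grind
  · rw [Matrix.mulVec, dotProduct, sumIdx]
    show (0 * x (hI 0) + 0 * x (hI 1) + ((0 + 0) * x (eI 0) + (0 + 0) * x (eI 1) + (0 + 0) * x (eI 2) + (0 + 0) * x (eI 3) + (0 + 0) * x (eI 4) + 0 * x (eI 5) + 0 * x (eI 6) + (0 + 0) * x (eI 7) + (0 + 0) * x (eI 8) + (0 + 0) * x (eI 9) + (1 + 0) * x (eI 10) + (0 + 0) * x (eI 11)) : K) = _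
    grind
  · rw [Matrix.mulVec, dotProduct, sumIdx]
    show (0 * x (hI 0) + 0 * x (hI 1) + ((0 + 0) * x (eI 0) + (0 + 0) * x (eI 1) + (0 + 0) * x (eI 2) + (0 + 0) * x (eI 3) + (0 + 0) * x (eI 4) + 0 * x (eI 5) + 0 * x (eI 6) + (0 + 0) * x (eI 7) + (0 + 0) * x (eI 8) + (0 + 0) * x (eI 9) + (0 + (((1 : ℤ) : K) * t ^ 1 + 0)) * x (eI 10) + (1 + 0) * x (eI 11)) : K) = _
    grind

theorem xrow7 (t : K) (x : chevG2.Idx → K) :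
    Matrix.mulVec (chevG2.x K 7 t) x (hI 0) = x (hI 0) + t * x (eI 4) ∧
    Matrix.mulVec (chevG2.x K 7 t) x (hI 1) = x (hI 1) ∧
    Matrix.mulVec (chevG2.x K 7 t) x (eI 0) = x (eI 0) ∧
    Matrix.mulVec (chevG2.x K 7 t) x (eI 1) = x (eI 1) ∧
    Matrix.mulVec (chevG2.x K 7 t) x (eI 2) = x (eI 2) - t * x (eI 1) ∧
    Matrix.mulVec (chevG2.x K 7 t) x (eI 3) = x (eI 3) - t * x (eI 2) - t ^ 2 * x (eI 1) ∧
    Matrix.mulVec (chevG2.x K 7 t) x (eI 4) = x (eI 4) ∧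
    Matrix.mulVec (chevG2.x K 7 t) x (eI 5) = x (eI 5) - t ^ 3 * x (eI 1) ∧
    Matrix.mulVec (chevG2.x K 7 t) x (eI 6) = x (eI 6) ∧
    Matrix.mulVec (chevG2.x K 7 t) x (eI 7) = x (eI 7) + t * x (hI 0) + t * x (hI 1) - t ^ 2 * x (eI 4) ∧
    Matrix.mulVec (chevG2.x K 7 t) x (eI 8) = x (eI 8) - t * x (eI 6) ∧
    Matrix.mulVec (chevG2.x K 7 t) x (eI 9) = x (eI 9) + t * x (eI 8) + t ^ 2 * x (eI 6) ∧
    Matrix.mulVec (chevG2.x K 7 t) x (eI 10) = x (eI 10) + t ^ 3 * x (eI 6) ∧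
    Matrix.mulVec (chevG2.x K 7 t) x (eI 11) = x (eI 11) := by
  refine ⟨?_, ?_, ?_, ?_, ?_, ?_, ?_, ?_, ?_, ?_, ?_, ?_, ?_, ?_⟩
  · rw [Matrix.mulVec, dotProduct, sumIdx]
    show (1 * x (hI 0) + 0 * x (hI 1) + (0 * x (eI 0) + 0 * x (eI 1) + 0 * x (eI 2) + 0 * x (eI 3) + (((1 : ℤ) : K)) * t * x (eI 4) + 0 * x (eI 5) + 0 * x (eI 6) + 0 * x (eI 7) + 0 * x (eI 8) + 0 * x (eI 9) + 0 * x (eI 10) + 0 * x (eI 11)) : K) = _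
    grind
  · rw [Matrix.mulVec, dotProduct, sumIdx]
    show (0 * x (hI 0) + 1 * x (hI 1) + (0 * x (eI 0) + 0 * x (eI 1) + 0 * x (eI 2) + 0 * x (eI 3) + (((0 : ℤ) : K)) * t * x (eI 4) + 0 * x (eI 5) + 0 * x (eI 6) + 0 * x (eI 7) + 0 * x (eI 8) + 0 * x (eI 9) + 0 * x (eI 10) + 0 * x (eI 11)) : K) = _
    grind
  · rw [Matrix.mulVec, dotProduct, sumIdx]
    show (0 * x (hI 0) + 0 * x (hI 1) + ((1 + 0) * x (eI 0) + (0 + 0) * x (eI 1) + (0 + 0) * x (eI 2) + (0 + 0) * x (eI 3) + 0 * x (eI 4) + (0 + 0) * x (eI 5) + (0 + 0) * x (eI 6) + 0 * x (eI 7) + (0 + 0) * x (eI 8) + (0 + 0) * x (eI 9) + (0 + 0) * x (eI 10) + (0 + 0) * x (eI 11)) : K) = _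
    grind
  · rw [Matrix.mulVec, dotProduct, sumIdx]
    show (0 * x (hI 0) + 0 * x (hI 1) + ((0 + 0) * x (eI 0) + (1 + 0) * x (eI 1) + (0 + 0) * x (eI 2) + (0 + 0) * x (eI 3) + 0 * x (eI 4) + (0 + 0) * x (eI 5) + (0 + 0) * x (eI 6) + 0 * x (eI 7) + (0 + 0) * x (eI 8) + (0 + 0) * x (eI 9) + (0 + 0) * x (eI 10) + (0 + 0) * x (eI 11)) : K) = _
    grind
  · rw [Matrix.mulVec, dotProduct, sumIdx]
    show (0 * x (hI 0) + 0 * x (hI 1) + ((0 + 0) * x (eI 0) + (0 + (((-1 : ℤ) : K) * t ^ 1 + 0)) * x (eI 1) + (1 + 0) * x (eI 2) + (0 + 0) * x (eI 3) + 0 * x (eI 4) + (0 + 0) * x (eI 5) + (0 + 0) * x (eI 6) + 0 * x (eI 7) + (0 + 0) * x (eI 8) + (0 + 0) * x (eI 9) + (0 + 0) * x (eI 10) + (0 + 0) * x (eI 11)) : K) = _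
    grind
  · rw [Matrix.mulVec, dotProduct, sumIdx]
    show (0 * x (hI 0) + 0 * x (hI 1) + ((0 + 0) * x (eI 0) + (0 + (((-1 : ℤ) : K) * t ^ 2 + 0)) * x (eI 1) + (0 + (((2 : ℤ) : K) * t ^ 1 + 0)) * x (eI 2) + (1 + 0) * x (eI 3) + 0 * x (eI 4) + (0 + 0) * x (eI 5) + (0 + 0) * x (eI 6) + 0 * x (eI 7) + (0 + 0) * x (eI 8) + (0 + 0) * x (eI 9) + (0 + 0) * x (eI 10) + (0 + 0) * x (eI 11)) : K) = _
    grind
  · rw [Matrix.mulVec, dotProduct, sumIdx]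
    show (0 * x (hI 0) + 0 * x (hI 1) + ((0 + 0) * x (eI 0) + (0 + 0) * x (eI 1) + (0 + 0) * x (eI 2) + (0 + 0) * x (eI 3) + 1 * x (eI 4) + (0 + 0) * x (eI 5) + (0 + 0) * x (eI 6) + 0 * x (eI 7) + (0 + 0) * x (eI 8) + (0 + 0) * x (eI 9) + (0 + 0) * x (eI 10) + (0 + 0) * x (eI 11)) : K) = _
    grind
  · rw [Matrix.mulVec, dotProduct, sumIdx]
    show (0 * x (hI 0) + 0 * x (hI 1) + ((0 + 0) * x (eI 0) + (0 + (((-1 : ℤ) : K) * t ^ 3 + 0)) * x (eI 1) + (0 + (((3 : ℤ) : K) * t ^ 2 + 0)) * x (eI 2) + (0 + (((3 : ℤ) : K) * t ^ 1 + 0)) * x (eI 3) + 0 * x (eI 4) + (1 + 0) * x (eI 5) + (0 + 0) * x (eI 6) + 0 * x (eI 7) + (0 + 0) * x (eI 8) + (0 + 0) * x (eI 9) + (0 + 0) * x (eI 10) + (0 + 0) * x (eI 11)) : K) = _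
    grind
  · rw [Matrix.mulVec, dotProduct, sumIdx]
    show (0 * x (hI 0) + 0 * x (hI 1) + ((0 + 0) * x (eI 0) + (0 + 0) * x (eI 1) + (0 + 0) * x (eI 2) + (0 + 0) * x (eI 3) + 0 * x (eI 4) + (0 + 0) * x (eI 5) + (1 + 0) * x (eI 6) + 0 * x (eI 7) + (0 + 0) * x (eI 8) + (0 + 0) * x (eI 9) + (0 + 0) * x (eI 10) + (0 + 0) * x (eI 11)) : K) = _
    grind
  · rw [Matrix.mulVec, dotProduct, sumIdx]
    show (-(((2 : ℤ) : K)) * t * x (hI 0) + -(((-1 : ℤ) : K)) * t * x (hI 1) + ((0 + 0) * x (eI 0) + (0 + 0) * x (eI 1) + (0 + 0) * x (eI 2) + (0 + 0) * x (eI 3) + -(t ^ 2) * x (eI 4) + (0 + 0) * x (eI 5) + (0 + 0) * x (eI 6) + 1 * x (eI 7) + (0 + 0) * x (eI 8) + (0 + 0) * x (eI 9) + (0 + 0) * x (eI 10) + (0 + 0) * x (eI 11)) : K) = _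
    grind
  · rw [Matrix.mulVec, dotProduct, sumIdx]
    show (0 * x (hI 0) + 0 * x (hI 1) + ((0 + 0) * x (eI 0) + (0 + 0) * x (eI 1) + (0 + 0) * x (eI 2) + (0 + 0) * x (eI 3) + 0 * x (eI 4) + (0 + 0) * x (eI 5) + (0 + (((-1 : ℤ) : K) * t ^ 1 + 0)) * x (eI 6) + 0 * x (eI 7) + (1 + 0) * x (eI 8) + (0 + 0) * x (eI 9) + (0 + 0) * x (eI 10) + (0 + 0) * x (eI 11)) : K) = _
    grind
  · rw [Matrix.mulVec, dotProduct, sumIdx]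
    show (0 * x (hI 0) + 0 * x (hI 1) + ((0 + 0) * x (eI 0) + (0 + 0) * x (eI 1) + (0 + 0) * x (eI 2) + (0 + 0) * x (eI 3) + 0 * x (eI 4) + (0 + 0) * x (eI 5) + (0 + (((1 : ℤ) : K) * t ^ 2 + 0)) * x (eI 6) + 0 * x (eI 7) + (0 + (((-2 : ℤ) : K) * t ^ 1 + 0)) * x (eI 8) + (1 + 0) * x (eI 9) + (0 + 0) * x (eI 10) + (0 + 0) * x (eI 11)) : K) = _
    grind
  · rw [Matrix.mulVec, dotProduct, sumIdx]
    show (0 * x (hI 0) + 0 * x (hI 1) + ((0 + 0) * x (eI 0) + (0 + 0) * x (eI 1) + (0 + 0) * x (eI 2) + (0 + 0) * x (eI 3) + 0 * x (eI 4) + (0 + 0) * x (eI 5) + (0 + (((1 : ℤ) : K) * t ^ 3 + 0)) * x (eI 6) + 0 * x (eI 7) + (0 + (((-3 : ℤ) : K) * t ^ 2 + 0)) * x (eI 8) + (0 + (((3 : ℤ) : K) * t ^ 1 + 0)) * x (eI 9) + (1 + 0) * x (eI 10) + (0 + 0) * x (eI 11)) : K) = _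
    grind
  · rw [Matrix.mulVec, dotProduct, sumIdx]
    show (0 * x (hI 0) + 0 * x (hI 1) + ((0 + 0) * x (eI 0) + (0 + 0) * x (eI 1) + (0 + 0) * x (eI 2) + (0 + 0) * x (eI 3) + 0 * x (eI 4) + (0 + 0) * x (eI 5) + (0 + 0) * x (eI 6) + 0 * x (eI 7) + (0 + 0) * x (eI 8) + (0 + 0) * x (eI 9) + (0 + 0) * x (eI 10) + (1 + 0) * x (eI 11)) : K) = _
    grind

theorem xrow8 (t : K) (x : chevG2.Idx → K) :
    Matrix.mulVec (chevG2.x K 8 t) x (hI 0) = x (hI 0) + t * x (eI 3) ∧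
    Matrix.mulVec (chevG2.x K 8 t) x (hI 1) = x (hI 1) ∧
    Matrix.mulVec (chevG2.x K 8 t) x (eI 0) = x (eI 0) ∧
    Matrix.mulVec (chevG2.x K 8 t) x (eI 1) = x (eI 1) ∧
    Matrix.mulVec (chevG2.x K 8 t) x (eI 2) = x (eI 2) - t * x (eI 0) ∧
    Matrix.mulVec (chevG2.x K 8 t) x (eI 3) = x (eI 3) ∧
    Matrix.mulVec (chevG2.x K 8 t) x (eI 4) = x (eI 4) + t * x (eI 2) + t ^ 2 * x (eI 0) ∧
    Matrix.mulVec (chevG2.x K 8 t) x (eI 5) = x (eI 5) ∧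
    Matrix.mulVec (chevG2.x K 8 t) x (eI 6) = x (eI 6) + t ^ 3 * x (eI 0) ∧
    Matrix.mulVec (chevG2.x K 8 t) x (eI 7) = x (eI 7) - t * x (eI 5) ∧
    Matrix.mulVec (chevG2.x K 8 t) x (eI 8) = x (eI 8) + t * x (hI 0) - t * x (hI 1) - t ^ 2 * x (eI 3) ∧
    Matrix.mulVec (chevG2.x K 8 t) x (eI 9) = x (eI 9) - t * x (eI 7) - t ^ 2 * x (eI 5) ∧
    Matrix.mulVec (chevG2.x K 8 t) x (eI 10) = x (eI 10) ∧
    Matrix.mulVec (chevG2.x K 8 t) x (eI 11) = x (eI 11) - t ^ 3 * x (eI 5) := by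
  refine ⟨?_, ?_, ?_, ?_, ?_, ?_, ?_, ?_, ?_, ?_, ?_, ?_, ?_, ?_⟩
  · rw [Matrix.mulVec, dotProduct, sumIdx]
    show (1 * x (hI 0) + 0 * x (hI 1) + (0 * x (eI 0) + 0 * x (eI 1) + 0 * x (eI 2) + (((1 : ℤ) : K)) * t * x (eI 3) + 0 * x (eI 4) + 0 * x (eI 5) + 0 * x (eI 6) + 0 * x (eI 7) + 0 * x (eI 8) + 0 * x (eI 9) + 0 * x (eI 10) + 0 * x (eI 11)) : K) = _
    grind
  · rw [Matrix.mulVec, dotProduct, sumIdx]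
    show (0 * x (hI 0) + 1 * x (hI 1) + (0 * x (eI 0) + 0 * x (eI 1) + 0 * x (eI 2) + (((3 : ℤ) : K)) * t * x (eI 3) + 0 * x (eI 4) + 0 * x (eI 5) + 0 * x (eI 6) + 0 * x (eI 7) + 0 * x (eI 8) + 0 * x (eI 9) + 0 * x (eI 10) + 0 * x (eI 11)) : K) = _
    grind
  · rw [Matrix.mulVec, dotProduct, sumIdx]
    show (0 * x (hI 0) + 0 * x (hI 1) + ((1 + 0) * x (eI 0) + (0 + 0) * x (eI 1) + (0 + 0) * x (eI 2) + 0 * x (eI 3) + (0 + 0) * x (eI 4) + (0 + 0) * x (eI 5) + (0 + 0) * x (eI 6) + (0 + 0) * x (eI 7) + 0 * x (eI 8) + (0 + 0) * x (eI 9) + (0 + 0) * x (eI 10) + (0 + 0) * x (eI 11)) : K) = _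
    grind
  · rw [Matrix.mulVec, dotProduct, sumIdx]
    show (0 * x (hI 0) + 0 * x (hI 1) + ((0 + 0) * x (eI 0) + (1 + 0) * x (eI 1) + (0 + 0) * x (eI 2) + 0 * x (eI 3) + (0 + 0) * x (eI 4) + (0 + 0) * x (eI 5) + (0 + 0) * x (eI 6) + (0 + 0) * x (eI 7) + 0 * x (eI 8) + (0 + 0) * x (eI 9) + (0 + 0) * x (eI 10) + (0 + 0) * x (eI 11)) : K) = _
    grind
  · rw [Matrix.mulVec, dotProduct, sumIdx]
    show (0 * x (hI 0) + 0 * x (hI 1) + ((0 + (((-1 : ℤ) : K) * t ^ 1 + 0)) * x (eI 0) + (0 + 0) * x (eI 1) + (1 + 0) * x (eI 2) + 0 * x (eI 3) + (0 + 0) * x (eI 4) + (0 + 0) * x (eI 5) + (0 + 0) * x (eI 6) + (0 + 0) * x (eI 7) + 0 * x (eI 8) + (0 + 0) * x (eI 9) + (0 + 0) * x (eI 10) + (0 + 0) * x (eI 11)) : K) = _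
    grind
  · rw [Matrix.mulVec, dotProduct, sumIdx]
    show (0 * x (hI 0) + 0 * x (hI 1) + ((0 + 0) * x (eI 0) + (0 + 0) * x (eI 1) + (0 + 0) * x (eI 2) + 1 * x (eI 3) + (0 + 0) * x (eI 4) + (0 + 0) * x (eI 5) + (0 + 0) * x (eI 6) + (0 + 0) * x (eI 7) + 0 * x (eI 8) + (0 + 0) * x (eI 9) + (0 + 0) * x (eI 10) + (0 + 0) * x (eI 11)) : K) = _
    grind
  · rw [Matrix.mulVec, dotProduct, sumIdx]
    show (0 * x (hI 0) + 0 * x (hI 1) + ((0 + (((1 : ℤ) : K) * t ^ 2 + 0)) * x (eI 0) + (0 + 0) * x (eI 1) + (0 + (((-2 : ℤ) : K) * t ^ 1 + 0)) * x (eI 2) + 0 * x (eI 3) + (1 + 0) * x (eI 4) + (0 + 0) * x (eI 5) + (0 + 0) * x (eI 6) + (0 + 0) * x (eI 7) + 0 * x (eI 8) + (0 + 0) * x (eI 9) + (0 + 0) * x (eI 10) + (0 + 0) * x (eI 11)) : K) = _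
    grind
  · rw [Matrix.mulVec, dotProduct, sumIdx]
    show (0 * x (hI 0) + 0 * x (hI 1) + ((0 + 0) * x (eI 0) + (0 + 0) * x (eI 1) + (0 + 0) * x (eI 2) + 0 * x (eI 3) + (0 + 0) * x (eI 4) + (1 + 0) * x (eI 5) + (0 + 0) * x (eI 6) + (0 + 0) * x (eI 7) + 0 * x (eI 8) + (0 + 0) * x (eI 9) + (0 + 0) * x (eI 10) + (0 + 0) * x (eI 11)) : K) = _
    grind
  · rw [Matrix.mulVec, dotProduct, sumIdx]
    show (0 * x (hI 0) + 0 * x (hI 1) + ((0 + (((1 : ℤ) : K) * t ^ 3 + 0)) * x (eI 0) + (0 + 0) * x (eI 1) + (0 + (((-3 : ℤ) : K) * t ^ 2 + 0)) * x (eI 2) + 0 * x (eI 3) + (0 + (((3 : ℤ) : K) * t ^ 1 + 0)) * x (eI 4) + (0 + 0) * x (eI 5) + (1 + 0) * x (eI 6) + (0 + 0) * x (eI 7) + 0 * x (eI 8) + (0 + 0) * x (eI 9) + (0 + 0) * x (eI 10) + (0 + 0) * x (eI 11)) : K) = _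
    grind
  · rw [Matrix.mulVec, dotProduct, sumIdx]
    show (0 * x (hI 0) + 0 * x (hI 1) + ((0 + 0) * x (eI 0) + (0 + 0) * x (eI 1) + (0 + 0) * x (eI 2) + 0 * x (eI 3) + (0 + 0) * x (eI 4) + (0 + (((-1 : ℤ) : K) * t ^ 1 + 0)) * x (eI 5) + (0 + 0) * x (eI 6) + (1 + 0) * x (eI 7) + 0 * x (eI 8) + (0 + 0) * x (eI 9) + (0 + 0) * x (eI 10) + (0 + 0) * x (eI 11)) : K) = _
    grind
  · rw [Matrix.mulVec, dotProduct, sumIdx]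
    show (-(((-1 : ℤ) : K)) * t * x (hI 0) + -(((1 : ℤ) : K)) * t * x (hI 1) + ((0 + 0) * x (eI 0) + (0 + 0) * x (eI 1) + (0 + 0) * x (eI 2) + -(t ^ 2) * x (eI 3) + (0 + 0) * x (eI 4) + (0 + 0) * x (eI 5) + (0 + 0) * x (eI 6) + (0 + 0) * x (eI 7) + 1 * x (eI 8) + (0 + 0) * x (eI 9) + (0 + 0) * x (eI 10) + (0 + 0) * x (eI 11)) : K) = _
    grind
  · rw [Matrix.mulVec, dotProduct, sumIdx]
    show (0 * x (hI 0) + 0 * x (hI 1) + ((0 + 0) * x (eI 0) + (0 + 0) * x (eI 1) + (0 + 0) * x (eI 2) + 0 * x (eI 3) + (0 + 0) * x (eI 4) + (0 + (((-1 : ℤ) : K) * t ^ 2 + 0)) * x (eI 5) + (0 + 0) * x (eI 6) + (0 + (((2 : ℤ) : K) * t ^ 1 + 0)) * x (eI 7) + 0 * x (eI 8) + (1 + 0) * x (eI 9) + (0 + 0) * x (eI 10) + (0 + 0) * x (eI 11)) : K) = _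
    grind
  · rw [Matrix.mulVec, dotProduct, sumIdx]
    show (0 * x (hI 0) + 0 * x (hI 1) + ((0 + 0) * x (eI 0) + (0 + 0) * x (eI 1) + (0 + 0) * x (eI 2) + 0 * x (eI 3) + (0 + 0) * x (eI 4) + (0 + 0) * x (eI 5) + (0 + 0) * x (eI 6) + (0 + 0) * x (eI 7) + 0 * x (eI 8) + (0 + 0) * x (eI 9) + (1 + 0) * x (eI 10) + (0 + 0) * x (eI 11)) : K) = _
    grind
  · rw [Matrix.mulVec, dotProduct, sumIdx]
    show (0 * x (hI 0) + 0 * x (hI 1) + ((0 + 0) * x (eI 0) + (0 + 0) * x (eI 1) + (0 + 0) * x (eI 2) + 0 * x (eI 3) + (0 + 0) * x (eI 4) + (0 + (((-1 : ℤ) : K) * t ^ 3 + 0)) * x (eI 5) + (0 + 0) * x (eI 6) + (0 + (((3 : ℤ) : K) * t ^ 2 + 0)) * x (eI 7) + 0 * x (eI 8) + (0 + (((3 : ℤ) : K) * t ^ 1 + 0)) * x (eI 9) + (0 + 0) * x (eI 10) + (1 + 0) * x (eI 11)) : K) = _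
    grind

theorem xrow9 (t : K) (x : chevG2.Idx → K) :
    Matrix.mulVec (chevG2.x K 9 t) x (hI 0) = x (hI 0) - t * x (eI 2) ∧
    Matrix.mulVec (chevG2.x K 9 t) x (hI 1) = x (hI 1) ∧
    Matrix.mulVec (chevG2.x K 9 t) x (eI 0) = x (eI 0) ∧
    Matrix.mulVec (chevG2.x K 9 t) x (eI 1) = x (eI 1) ∧
    Matrix.mulVec (chevG2.x K 9 t) x (eI 2) = x (eI 2) ∧
    Matrix.mulVec (chevG2.x K 9 t) x (eI 3) = x (eI 3) + t * x (eI 0) ∧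
    Matrix.mulVec (chevG2.x K 9 t) x (eI 4) = x (eI 4) + t * x (eI 1) ∧
    Matrix.mulVec (chevG2.x K 9 t) x (eI 5) = x (eI 5) ∧
    Matrix.mulVec (chevG2.x K 9 t) x (eI 6) = x (eI 6) ∧
    Matrix.mulVec (chevG2.x K 9 t) x (eI 7) = x (eI 7) + t * x (eI 3) - t ^ 2 * x (eI 0) ∧
    Matrix.mulVec (chevG2.x K 9 t) x (eI 8) = x (eI 8) - t * x (eI 4) + t ^ 2 * x (eI 1) ∧
    Matrix.mulVec (chevG2.x K 9 t) x (eI 9) = x (eI 9) - t * x (hI 0) - t ^ 2 * x (eI 2) ∧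
    Matrix.mulVec (chevG2.x K 9 t) x (eI 10) = x (eI 10) + t ^ 3 * x (eI 0) ∧
    Matrix.mulVec (chevG2.x K 9 t) x (eI 11) = x (eI 11) - t ^ 3 * x (eI 1) := by
  refine ⟨?_, ?_, ?_, ?_, ?_, ?_, ?_, ?_, ?_, ?_, ?_, ?_, ?_, ?_⟩
  · rw [Matrix.mulVec, dotProduct, sumIdx]
    show (1 * x (hI 0) + 0 * x (hI 1) + (0 * x (eI 0) + 0 * x (eI 1) + (((2 : ℤ) : K)) * t * x (eI 2) + 0 * x (eI 3) + 0 * x (eI 4) + 0 * x (eI 5) + 0 * x (eI 6) + 0 * x (eI 7) + 0 * x (eI 8) + 0 * x (eI 9) + 0 * x (eI 10) + 0 * x (eI 11)) : K) = _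
    grind
  · rw [Matrix.mulVec, dotProduct, sumIdx]
    show (0 * x (hI 0) + 1 * x (hI 1) + (0 * x (eI 0) + 0 * x (eI 1) + (((3 : ℤ) : K)) * t * x (eI 2) + 0 * x (eI 3) + 0 * x (eI 4) + 0 * x (eI 5) + 0 * x (eI 6) + 0 * x (eI 7) + 0 * x (eI 8) + 0 * x (eI 9) + 0 * x (eI 10) + 0 * x (eI 11)) : K) = _
    grind
  · rw [Matrix.mulVec, dotProduct, sumIdx]
    show (0 * x (hI 0) + 0 * x (hI 1) + ((1 + 0) * x (eI 0) + (0 + 0) * x (eI 1) + 0 * x (eI 2) + (0 + 0) * x (eI 3) + (0 + 0) * x (eI 4) + (0 + 0) * x (eI 5) + (0 + 0) * x (eI 6) + (0 + 0) * x (eI 7) + (0 + 0) * x (eI 8) + 0 * x (eI 9) + (0 + 0) * x (eI 10) + (0 + 0) * x (eI 11)) : K) = _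
    grind
  · rw [Matrix.mulVec, dotProduct, sumIdx]
    show (0 * x (hI 0) + 0 * x (hI 1) + ((0 + 0) * x (eI 0) + (1 + 0) * x (eI 1) + 0 * x (eI 2) + (0 + 0) * x (eI 3) + (0 + 0) * x (eI 4) + (0 + 0) * x (eI 5) + (0 + 0) * x (eI 6) + (0 + 0) * x (eI 7) + (0 + 0) * x (eI 8) + 0 * x (eI 9) + (0 + 0) * x (eI 10) + (0 + 0) * x (eI 11)) : K) = _
    grind
  · rw [Matrix.mulVec, dotProduct, sumIdx]
    show (0 * x (hI 0) + 0 * x (hI 1) + ((0 + 0) * x (eI 0) + (0 + 0) * x (eI 1) + 1 * x (eI 2) + (0 + 0) * x (eI 3) + (0 + 0) * x (eI 4) + (0 + 0) * x (eI 5) + (0 + 0) * x (eI 6) + (0 + 0) * x (eI 7) + (0 + 0) * x (eI 8) + 0 * x (eI 9) + (0 + 0) * x (eI 10) + (0 + 0) * x (eI 11)) : K) = _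
    grind
  · rw [Matrix.mulVec, dotProduct, sumIdx]
    show (0 * x (hI 0) + 0 * x (hI 1) + ((0 + (((1 : ℤ) : K) * t ^ 1 + 0)) * x (eI 0) + (0 + 0) * x (eI 1) + 0 * x (eI 2) + (1 + 0) * x (eI 3) + (0 + 0) * x (eI 4) + (0 + 0) * x (eI 5) + (0 + 0) * x (eI 6) + (0 + 0) * x (eI 7) + (0 + 0) * x (eI 8) + 0 * x (eI 9) + (0 + 0) * x (eI 10) + (0 + 0) * x (eI 11)) : K) = _
    grind
  · rw [Matrix.mulVec, dotProduct, sumIdx]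
    show (0 * x (hI 0) + 0 * x (hI 1) + ((0 + 0) * x (eI 0) + (0 + (((1 : ℤ) : K) * t ^ 1 + 0)) * x (eI 1) + 0 * x (eI 2) + (0 + 0) * x (eI 3) + (1 + 0) * x (eI 4) + (0 + 0) * x (eI 5) + (0 + 0) * x (eI 6) + (0 + 0) * x (eI 7) + (0 + 0) * x (eI 8) + 0 * x (eI 9) + (0 + 0) * x (eI 10) + (0 + 0) * x (eI 11)) : K) = _
    grind
  · rw [Matrix.mulVec, dotProduct, sumIdx]
    show (0 * x (hI 0) + 0 * x (hI 1) + ((0 + 0) * x (eI 0) + (0 + 0) * x (eI 1) + 0 * x (eI 2) + (0 + 0) * x (eI 3) + (0 + 0) * x (eI 4) + (1 + 0) * x (eI 5) + (0 + 0) * x (eI 6) + (0 + 0) * x (eI 7) + (0 + 0) * x (eI 8) + 0 * x (eI 9) + (0 + 0) * x (eI 10) + (0 + 0) * x (eI 11)) : K) = _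
    grind
  · rw [Matrix.mulVec, dotProduct, sumIdx]
    show (0 * x (hI 0) + 0 * x (hI 1) + ((0 + 0) * x (eI 0) + (0 + 0) * x (eI 1) + 0 * x (eI 2) + (0 + 0) * x (eI 3) + (0 + 0) * x (eI 4) + (0 + 0) * x (eI 5) + (1 + 0) * x (eI 6) + (0 + 0) * x (eI 7) + (0 + 0) * x (eI 8) + 0 * x (eI 9) + (0 + 0) * x (eI 10) + (0 + 0) * x (eI 11)) : K) = _
    grind
  · rw [Matrix.mulVec, dotProduct, sumIdx]
    show (0 * x (hI 0) + 0 * x (hI 1) + ((0 + (((-1 : ℤ) : K) * t ^ 2 + 0)) * x (eI 0) + (0 + 0) * x (eI 1) + 0 * x (eI 2) + (0 + (((-2 : ℤ) : K) * t ^ 1 + 0)) * x (eI 3) + (0 + 0) * x (eI 4) + (0 + 0) * x (eI 5) + (0 + 0) * x (eI 6) + (1 + 0) * x (eI 7) + (0 + 0) * x (eI 8) + 0 * x (eI 9) + (0 + 0) * x (eI 10) + (0 + 0) * x (eI 11)) : K) = _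
    grind
  · rw [Matrix.mulVec, dotProduct, sumIdx]
    show (0 * x (hI 0) + 0 * x (hI 1) + ((0 + 0) * x (eI 0) + (0 + (((1 : ℤ) : K) * t ^ 2 + 0)) * x (eI 1) + 0 * x (eI 2) + (0 + 0) * x (eI 3) + (0 + (((2 : ℤ) : K) * t ^ 1 + 0)) * x (eI 4) + (0 + 0) * x (eI 5) + (0 + 0) * x (eI 6) + (0 + 0) * x (eI 7) + (1 + 0) * x (eI 8) + 0 * x (eI 9) + (0 + 0) * x (eI 10) + (0 + 0) * x (eI 11)) : K) = _
    grind
  · rw [Matrix.mulVec, dotProduct, sumIdx]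
    show (-(((1 : ℤ) : K)) * t * x (hI 0) + -(((0 : ℤ) : K)) * t * x (hI 1) + ((0 + 0) * x (eI 0) + (0 + 0) * x (eI 1) + -(t ^ 2) * x (eI 2) + (0 + 0) * x (eI 3) + (0 + 0) * x (eI 4) + (0 + 0) * x (eI 5) + (0 + 0) * x (eI 6) + (0 + 0) * x (eI 7) + (0 + 0) * x (eI 8) + 1 * x (eI 9) + (0 + 0) * x (eI 10) + (0 + 0) * x (eI 11)) : K) = _
    grind
  · rw [Matrix.mulVec, dotProduct, sumIdx]
    show (0 * x (hI 0) + 0 * x (hI 1) + ((0 + (((1 : ℤ) : K) * t ^ 3 + 0)) * x (eI 0) + (0 + 0) * x (eI 1) + 0 * x (eI 2) + (0 + (((3 : ℤ) : K) * t ^ 2 + 0)) * x (eI 3) + (0 + 0) * x (eI 4) + (0 + 0) * x (eI 5) + (0 + 0) * x (eI 6) + (0 + (((-3 : ℤ) : K) * t ^ 1 + 0)) * x (eI 7) + (0 + 0) * x (eI 8) + 0 * x (eI 9) + (1 + 0) * x (eI 10) + (0 + 0) * x (eI 11)) : K) = _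
    grind
  · rw [Matrix.mulVec, dotProduct, sumIdx]
    show (0 * x (hI 0) + 0 * x (hI 1) + ((0 + 0) * x (eI 0) + (0 + (((-1 : ℤ) : K) * t ^ 3 + 0)) * x (eI 1) + 0 * x (eI 2) + (0 + 0) * x (eI 3) + (0 + (((-3 : ℤ) : K) * t ^ 2 + 0)) * x (eI 4) + (0 + 0) * x (eI 5) + (0 + 0) * x (eI 6) + (0 + 0) * x (eI 7) + (0 + (((-3 : ℤ) : K) * t ^ 1 + 0)) * x (eI 8) + 0 * x (eI 9) + (0 + 0) * x (eI 10) + (1 + 0) * x (eI 11)) : K) = _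
    grind

theorem xrow10 (t : K) (x : chevG2.Idx → K) :
    Matrix.mulVec (chevG2.x K 10 t) x (hI 0) = x (hI 0) + t * x (eI 1) ∧
    Matrix.mulVec (chevG2.x K 10 t) x (hI 1) = x (hI 1) + t * x (eI 1) ∧
    Matrix.mulVec (chevG2.x K 10 t) x (eI 0) = x (eI 0) ∧
    Matrix.mulVec (chevG2.x K 10 t) x (eI 1) = x (eI 1) ∧
    Matrix.mulVec (chevG2.x K 10 t) x (eI 2) = x (eI 2) ∧
    Matrix.mulVec (chevG2.x K 10 t) x (eI 3) = x (eI 3) ∧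
    Matrix.mulVec (chevG2.x K 10 t) x (eI 4) = x (eI 4) ∧
    Matrix.mulVec (chevG2.x K 10 t) x (eI 5) = x (eI 5) + t * x (eI 0) ∧
    Matrix.mulVec (chevG2.x K 10 t) x (eI 6) = x (eI 6) ∧
    Matrix.mulVec (chevG2.x K 10 t) x (eI 7) = x (eI 7) + t * x (eI 2) ∧
    Matrix.mulVec (chevG2.x K 10 t) x (eI 8) = x (eI 8) ∧
    Matrix.mulVec (chevG2.x K 10 t) x (eI 9) = x (eI 9) - t * x (eI 4) ∧
    Matrix.mulVec (chevG2.x K 10 t) x (eI 10) = x (eI 10) + t * x (hI 1) - t ^ 2 * x (eI 1) ∧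
    Matrix.mulVec (chevG2.x K 10 t) x (eI 11) = x (eI 11) - t * x (eI 6) := by
  refine ⟨?_, ?_, ?_, ?_, ?_, ?_, ?_, ?_, ?_, ?_, ?_, ?_, ?_, ?_⟩
  · rw [Matrix.mulVec, dotProduct, sumIdx]
    show (1 * x (hI 0) + 0 * x (hI 1) + (0 * x (eI 0) + (((1 : ℤ) : K)) * t * x (eI 1) + 0 * x (eI 2) + 0 * x (eI 3) + 0 * x (eI 4) + 0 * x (eI 5) + 0 * x (eI 6) + 0 * x (eI 7) + 0 * x (eI 8) + 0 * x (eI 9) + 0 * x (eI 10) + 0 * x (eI 11)) : K) = _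
    grind
  · rw [Matrix.mulVec, dotProduct, sumIdx]
    show (0 * x (hI 0) + 1 * x (hI 1) + (0 * x (eI 0) + (((1 : ℤ) : K)) * t * x (eI 1) + 0 * x (eI 2) + 0 * x (eI 3) + 0 * x (eI 4) + 0 * x (eI 5) + 0 * x (eI 6) + 0 * x (eI 7) + 0 * x (eI 8) + 0 * x (eI 9) + 0 * x (eI 10) + 0 * x (eI 11)) : K) = _
    grind
  · rw [Matrix.mulVec, dotProduct, sumIdx]
    show (0 * x (hI 0) + 0 * x (hI 1) + ((1 + 0) * x (eI 0) + 0 * x (eI 1) + (0 + 0) * x (eI 2) + (0 + 0) * x (eI 3) + (0 + 0) * x (eI 4) + (0 + 0) * x (eI 5) + (0 + 0) * x (eI 6) + (0 + 0) * x (eI 7) + (0 + 0) * x (eI 8) + (0 + 0) * x (eI 9) + 0 * x (eI 10) + (0 + 0) * x (eI 11)) : K) = _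
    grind
  · rw [Matrix.mulVec, dotProduct, sumIdx]
    show (0 * x (hI 0) + 0 * x (hI 1) + ((0 + 0) * x (eI 0) + 1 * x (eI 1) + (0 + 0) * x (eI 2) + (0 + 0) * x (eI 3) + (0 + 0) * x (eI 4) + (0 + 0) * x (eI 5) + (0 + 0) * x (eI 6) + (0 + 0) * x (eI 7) + (0 + 0) * x (eI 8) + (0 + 0) * x (eI 9) + 0 * x (eI 10) + (0 + 0) * x (eI 11)) : K) = _
    grind
  · rw [Matrix.mulVec, dotProduct, sumIdx]
    show (0 * x (hI 0) + 0 * x (hI 1) + ((0 + 0) * x (eI 0) + 0 * x (eI 1) + (1 + 0) * x (eI 2) + (0 + 0) * x (eI 3) + (0 + 0) * x (eI 4) + (0 + 0) * x (eI 5) + (0 + 0) * x (eI 6) + (0 + 0) * x (eI 7) + (0 + 0) * x (eI 8) + (0 + 0) * x (eI 9) + 0 * x (eI 10) + (0 + 0) * x (eI 11)) : K) = _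
    grind
  · rw [Matrix.mulVec, dotProduct, sumIdx]
    show (0 * x (hI 0) + 0 * x (hI 1) + ((0 + 0) * x (eI 0) + 0 * x (eI 1) + (0 + 0) * x (eI 2) + (1 + 0) * x (eI 3) + (0 + 0) * x (eI 4) + (0 + 0) * x (eI 5) + (0 + 0) * x (eI 6) + (0 + 0) * x (eI 7) + (0 + 0) * x (eI 8) + (0 + 0) * x (eI 9) + 0 * x (eI 10) + (0 + 0) * x (eI 11)) : K) = _
    grind
  · rw [Matrix.mulVec, dotProduct, sumIdx]
    show (0 * x (hI 0) + 0 * x (hI 1) + ((0 + 0) * x (eI 0) + 0 * x (eI 1) + (0 + 0) * x (eI 2) + (0 + 0) * x (eI 3) + (1 + 0) * x (eI 4) + (0 + 0) * x (eI 5) + (0 + 0) * x (eI 6) + (0 + 0) * x (eI 7) + (0 + 0) * x (eI 8) + (0 + 0) * x (eI 9) + 0 * x (eI 10) + (0 + 0) * x (eI 11)) : K) = _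
    grind
  · rw [Matrix.mulVec, dotProduct, sumIdx]
    show (0 * x (hI 0) + 0 * x (hI 1) + ((0 + (((1 : ℤ) : K) * t ^ 1 + 0)) * x (eI 0) + 0 * x (eI 1) + (0 + 0) * x (eI 2) + (0 + 0) * x (eI 3) + (0 + 0) * x (eI 4) + (1 + 0) * x (eI 5) + (0 + 0) * x (eI 6) + (0 + 0) * x (eI 7) + (0 + 0) * x (eI 8) + (0 + 0) * x (eI 9) + 0 * x (eI 10) + (0 + 0) * x (eI 11)) : K) = _
    grind
  · rw [Matrix.mulVec, dotProduct, sumIdx]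
    show (0 * x (hI 0) + 0 * x (hI 1) + ((0 + 0) * x (eI 0) + 0 * x (eI 1) + (0 + 0) * x (eI 2) + (0 + 0) * x (eI 3) + (0 + 0) * x (eI 4) + (0 + 0) * x (eI 5) + (1 + 0) * x (eI 6) + (0 + 0) * x (eI 7) + (0 + 0) * x (eI 8) + (0 + 0) * x (eI 9) + 0 * x (eI 10) + (0 + 0) * x (eI 11)) : K) = _
    grind
  · rw [Matrix.mulVec, dotProduct, sumIdx]
    show (0 * x (hI 0) + 0 * x (hI 1) + ((0 + 0) * x (eI 0) + 0 * x (eI 1) + (0 + (((1 : ℤ) : K) * t ^ 1 + 0)) * x (eI 2) + (0 + 0) * x (eI 3) + (0 + 0) * x (eI 4) + (0 + 0) * x (eI 5) + (0 + 0) * x (eI 6) + (1 + 0) * x (eI 7) + (0 + 0) * x (eI 8) + (0 + 0) * x (eI 9) + 0 * x (eI 10) + (0 + 0) * x (eI 11)) : K) = _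
    grind
  · rw [Matrix.mulVec, dotProduct, sumIdx]
    show (0 * x (hI 0) + 0 * x (hI 1) + ((0 + 0) * x (eI 0) + 0 * x (eI 1) + (0 + 0) * x (eI 2) + (0 + 0) * x (eI 3) + (0 + 0) * x (eI 4) + (0 + 0) * x (eI 5) + (0 + 0) * x (eI 6) + (0 + 0) * x (eI 7) + (1 + 0) * x (eI 8) + (0 + 0) * x (eI 9) + 0 * x (eI 10) + (0 + 0) * x (eI 11)) : K) = _
    grind
  · rw [Matrix.mulVec, dotProduct, sumIdx]
    show (0 * x (hI 0) + 0 * x (hI 1) + ((0 + 0) * x (eI 0) + 0 * x (eI 1) + (0 + 0) * x (eI 2) + (0 + 0) * x (eI 3) + (0 + (((-1 : ℤ) : K) * t ^ 1 + 0)) * x (eI 4) + (0 + 0) * x (eI 5) + (0 + 0) * x (eI 6) + (0 + 0) * x (eI 7) + (0 + 0) * x (eI 8) + (1 + 0) * x (eI 9) + 0 * x (eI 10) + (0 + 0) * x (eI 11)) : K) = _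
    grind
  · rw [Matrix.mulVec, dotProduct, sumIdx]
    show (-(((3 : ℤ) : K)) * t * x (hI 0) + -(((-1 : ℤ) : K)) * t * x (hI 1) + ((0 + 0) * x (eI 0) + -(t ^ 2) * x (eI 1) + (0 + 0) * x (eI 2) + (0 + 0) * x (eI 3) + (0 + 0) * x (eI 4) + (0 + 0) * x (eI 5) + (0 + 0) * x (eI 6) + (0 + 0) * x (eI 7) + (0 + 0) * x (eI 8) + (0 + 0) * x (eI 9) + 1 * x (eI 10) + (0 + 0) * x (eI 11)) : K) = _
    grind
  · rw [Matrix.mulVec, dotProduct, sumIdx]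
    show (0 * x (hI 0) + 0 * x (hI 1) + ((0 + 0) * x (eI 0) + 0 * x (eI 1) + (0 + 0) * x (eI 2) + (0 + 0) * x (eI 3) + (0 + 0) * x (eI 4) + (0 + 0) * x (eI 5) + (0 + (((-1 : ℤ) : K) * t ^ 1 + 0)) * x (eI 6) + (0 + 0) * x (eI 7) + (0 + 0) * x (eI 8) + (0 + 0) * x (eI 9) + 0 * x (eI 10) + (1 + 0) * x (eI 11)) : K) = _
    grind

theorem xrow11 (t : K) (x : chevG2.Idx → K) :
    Matrix.mulVec (chevG2.x K 11 t) x (hI 0) = x (hI 0) + t * x (eI 0) ∧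
    Matrix.mulVec (chevG2.x K 11 t) x (hI 1) = x (hI 1) - t * x (eI 0) ∧
    Matrix.mulVec (chevG2.x K 11 t) x (eI 0) = x (eI 0) ∧
    Matrix.mulVec (chevG2.x K 11 t) x (eI 1) = x (eI 1) ∧
    Matrix.mulVec (chevG2.x K 11 t) x (eI 2) = x (eI 2) ∧
    Matrix.mulVec (chevG2.x K 11 t) x (eI 3) = x (eI 3) ∧
    Matrix.mulVec (chevG2.x K 11 t) x (eI 4) = x (eI 4) ∧
    Matrix.mulVec (chevG2.x K 11 t) x (eI 5) = x (eI 5) ∧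
    Matrix.mulVec (chevG2.x K 11 t) x (eI 6) = x (eI 6) + t * x (eI 1) ∧
    Matrix.mulVec (chevG2.x K 11 t) x (eI 7) = x (eI 7) ∧
    Matrix.mulVec (chevG2.x K 11 t) x (eI 8) = x (eI 8) + t * x (eI 2) ∧
    Matrix.mulVec (chevG2.x K 11 t) x (eI 9) = x (eI 9) - t * x (eI 3) ∧
    Matrix.mulVec (chevG2.x K 11 t) x (eI 10) = x (eI 10) - t * x (eI 5) ∧
    Matrix.mulVec (chevG2.x K 11 t) x (eI 11) = x (eI 11) - t * x (hI 1) - t ^ 2 * x (eI 0) := by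
  refine ⟨?_, ?_, ?_, ?_, ?_, ?_, ?_, ?_, ?_, ?_, ?_, ?_, ?_, ?_⟩
  · rw [Matrix.mulVec, dotProduct, sumIdx]
    show (1 * x (hI 0) + 0 * x (hI 1) + ((((1 : ℤ) : K)) * t * x (eI 0) + 0 * x (eI 1) + 0 * x (eI 2) + 0 * x (eI 3) + 0 * x (eI 4) + 0 * x (eI 5) + 0 * x (eI 6) + 0 * x (eI 7) + 0 * x (eI 8) + 0 * x (eI 9) + 0 * x (eI 10) + 0 * x (eI 11)) : K) = _
    grind
  · rw [Matrix.mulVec, dotProduct, sumIdx]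
    show (0 * x (hI 0) + 1 * x (hI 1) + ((((2 : ℤ) : K)) * t * x (eI 0) + 0 * x (eI 1) + 0 * x (eI 2) + 0 * x (eI 3) + 0 * x (eI 4) + 0 * x (eI 5) + 0 * x (eI 6) + 0 * x (eI 7) + 0 * x (eI 8) + 0 * x (eI 9) + 0 * x (eI 10) + 0 * x (eI 11)) : K) = _
    grind
  · rw [Matrix.mulVec, dotProduct, sumIdx]
    show (0 * x (hI 0) + 0 * x (hI 1) + (1 * x (eI 0) + (0 + 0) * x (eI 1) + (0 + 0) * x (eI 2) + (0 + 0) * x (eI 3) + (0 + 0) * x (eI 4) + (0 + 0) * x (eI 5) + (0 + 0) * x (eI 6) + (0 + 0) * x (eI 7) + (0 + 0) * x (eI 8) + (0 + 0) * x (eI 9) + (0 + 0) * x (eI 10) + 0 * x (eI 11)) : K) = _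
    grind
  · rw [Matrix.mulVec, dotProduct, sumIdx]
    show (0 * x (hI 0) + 0 * x (hI 1) + (0 * x (eI 0) + (1 + 0) * x (eI 1) + (0 + 0) * x (eI 2) + (0 + 0) * x (eI 3) + (0 + 0) * x (eI 4) + (0 + 0) * x (eI 5) + (0 + 0) * x (eI 6) + (0 + 0) * x (eI 7) + (0 + 0) * x (eI 8) + (0 + 0) * x (eI 9) + (0 + 0) * x (eI 10) + 0 * x (eI 11)) : K) = _
    grind
  · rw [Matrix.mulVec, dotProduct, sumIdx]
    show (0 * x (hI 0) + 0 * x (hI 1) + (0 * x (eI 0) + (0 + 0) * x (eI 1) + (1 + 0) * x (eI 2) + (0 + 0) * x (eI 3) + (0 + 0) * x (eI 4) + (0 + 0) * x (eI 5) + (0 + 0) * x (eI 6) + (0 + 0) * x (eI 7) + (0 + 0) * x (eI 8) + (0 + 0) * x (eI 9) + (0 + 0) * x (eI 10) + 0 * x (eI 11)) : K) = _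
    grind
  · rw [Matrix.mulVec, dotProduct, sumIdx]
    show (0 * x (hI 0) + 0 * x (hI 1) + (0 * x (eI 0) + (0 + 0) * x (eI 1) + (0 + 0) * x (eI 2) + (1 + 0) * x (eI 3) + (0 + 0) * x (eI 4) + (0 + 0) * x (eI 5) + (0 + 0) * x (eI 6) + (0 + 0) * x (eI 7) + (0 + 0) * x (eI 8) + (0 + 0) * x (eI 9) + (0 + 0) * x (eI 10) + 0 * x (eI 11)) : K) = _
    grind
  · rw [Matrix.mulVec, dotProduct, sumIdx]
    show (0 * x (hI 0) + 0 * x (hI 1) + (0 * x (eI 0) + (0 + 0) * x (eI 1) + (0 + 0) * x (eI 2) + (0 + 0) * x (eI 3) + (1 + 0) * x (eI 4) + (0 + 0) * x (eI 5) + (0 + 0) * x (eI 6) + (0 + 0) * x (eI 7) + (0 + 0) * x (eI 8) + (0 + 0) * x (eI 9) + (0 + 0) * x (eI 10) + 0 * x (eI 11)) : K) = _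
    grind
  · rw [Matrix.mulVec, dotProduct, sumIdx]
    show (0 * x (hI 0) + 0 * x (hI 1) + (0 * x (eI 0) + (0 + 0) * x (eI 1) + (0 + 0) * x (eI 2) + (0 + 0) * x (eI 3) + (0 + 0) * x (eI 4) + (1 + 0) * x (eI 5) + (0 + 0) * x (eI 6) + (0 + 0) * x (eI 7) + (0 + 0) * x (eI 8) + (0 + 0) * x (eI 9) + (0 + 0) * x (eI 10) + 0 * x (eI 11)) : K) = _
    grind
  · rw [Matrix.mulVec, dotProduct, sumIdx]
    show (0 * x (hI 0) + 0 * x (hI 1) + (0 * x (eI 0) + (0 + (((1 : ℤ) : K) * t ^ 1 + 0)) * x (eI 1) + (0 + 0) * x (eI 2) + (0 + 0) * x (eI 3) + (0 + 0) * x (eI 4) + (0 + 0) * x (eI 5) + (1 + 0) * x (eI 6) + (0 + 0) * x (eI 7) + (0 + 0) * x (eI 8) + (0 + 0) * x (eI 9) + (0 + 0) * x (eI 10) + 0 * x (eI 11)) : K) = _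
    grind
  · rw [Matrix.mulVec, dotProduct, sumIdx]
    show (0 * x (hI 0) + 0 * x (hI 1) + (0 * x (eI 0) + (0 + 0) * x (eI 1) + (0 + 0) * x (eI 2) + (0 + 0) * x (eI 3) + (0 + 0) * x (eI 4) + (0 + 0) * x (eI 5) + (0 + 0) * x (eI 6) + (1 + 0) * x (eI 7) + (0 + 0) * x (eI 8) + (0 + 0) * x (eI 9) + (0 + 0) * x (eI 10) + 0 * x (eI 11)) : K) = _
    grind
  · rw [Matrix.mulVec, dotProduct, sumIdx]
    show (0 * x (hI 0) + 0 * x (hI 1) + (0 * x (eI 0) + (0 + 0) * x (eI 1) + (0 + (((1 : ℤ) : K) * t ^ 1 + 0)) * x (eI 2) + (0 + 0) * x (eI 3) + (0 + 0) * x (eI 4) + (0 + 0) * x (eI 5) + (0 + 0) * x (eI 6) + (0 + 0) * x (eI 7) + (1 + 0) * x (eI 8) + (0 + 0) * x (eI 9) + (0 + 0) * x (eI 10) + 0 * x (eI 11)) : K) = _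
    grind
  · rw [Matrix.mulVec, dotProduct, sumIdx]
    show (0 * x (hI 0) + 0 * x (hI 1) + (0 * x (eI 0) + (0 + 0) * x (eI 1) + (0 + 0) * x (eI 2) + (0 + (((-1 : ℤ) : K) * t ^ 1 + 0)) * x (eI 3) + (0 + 0) * x (eI 4) + (0 + 0) * x (eI 5) + (0 + 0) * x (eI 6) + (0 + 0) * x (eI 7) + (0 + 0) * x (eI 8) + (1 + 0) * x (eI 9) + (0 + 0) * x (eI 10) + 0 * x (eI 11)) : K) = _
    grind
  · rw [Matrix.mulVec, dotProduct, sumIdx]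
    show (0 * x (hI 0) + 0 * x (hI 1) + (0 * x (eI 0) + (0 + 0) * x (eI 1) + (0 + 0) * x (eI 2) + (0 + 0) * x (eI 3) + (0 + 0) * x (eI 4) + (0 + (((-1 : ℤ) : K) * t ^ 1 + 0)) * x (eI 5) + (0 + 0) * x (eI 6) + (0 + 0) * x (eI 7) + (0 + 0) * x (eI 8) + (0 + 0) * x (eI 9) + (1 + 0) * x (eI 10) + 0 * x (eI 11)) : K) = _
    grind
  · rw [Matrix.mulVec, dotProduct, sumIdx]
    show (-(((0 : ℤ) : K)) * t * x (hI 0) + -(((1 : ℤ) : K)) * t * x (hI 1) + (-(t ^ 2) * x (eI 0) + (0 + 0) * x (eI 1) + (0 + 0) * x (eI 2) + (0 + 0) * x (eI 3) + (0 + 0) * x (eI 4) + (0 + 0) * x (eI 5) + (0 + 0) * x (eI 6) + (0 + 0) * x (eI 7) + (0 + 0) * x (eI 8) + (0 + 0) * x (eI 9) + (0 + 0) * x (eI 10) + 1 * x (eI 11)) : K) = _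
    grind

end Cfsg.Agent.H4.Ree
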