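import Cfsg.Agent.H4.ReeCount

/-! The two cyclic Hall subgroups of orders `q ± r + 1` of the small Ree group. -/

set_option autoImplicit false
open Matrix
open scoped MatrixGroups

namespace Cfsg.Agent.H4

theorem card_centralizer_conj {G : Type*} [Group G] (k z : G) :
    Nat.card (Subgroup.centralizer {k * z * k⁻¹}) = Nat.card (Subgroup.centralizer {z}) := by
  refine Nat.card_congr ((MulAut.conj k).toEquiv.subtypeEquiv fun x => ?_).symm
  rw [Subgroup.mem_centralizer_singleton_iff, Subgroup.mem_centralizer_singleton_iff]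
  refine ⟨conj_comm, fun h => ?_⟩
  have := conj_comm (k := k⁻¹) h
  simpa [mul_assoc] using this

namespace Ree

theorem seven_le {q a : ℕ} (hq : q % 24 = 3) (h : a ∣ MM q) (h1 : 1 < a) : 7 ≤ a := by
  have h2 : ¬ 2 ∣ a := fun h2 => by
    simpa using Nat.eq_one_of_dvd_coprimes (coprime_MM_two hq) (h2.trans h) dvd_rfl
  have h3 : ¬ 3 ∣ a := fun h2 => by
    simpa using Nat.eq_one_of_dvd_coprimes (coprime_MM_three hq) (h2.trans h) dvd_rfl
  have h5 : ¬ 5 ∣ a := fun h2 => by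
    have h6 := h2.trans h
    have h7 := MM_add (q := q) (by omega)
    have : q % 5 = 0 ∨ q % 5 = 1 ∨ q % 5 = 2 ∨ q % 5 = 3 ∨ q % 5 = 4 := by omega
    have h8 : q ^ 2 % 5 = (q % 5) ^ 2 % 5 := Nat.pow_mod _ _ _
    rcases this with e | e | e | e | e <;> rw [e] at h8 <;> omega
  by_contra! h6
  interval_cases a <;> omega

theorem arith7 {c e a g : ℕ} (h : c * (e * a) = g * (a - 1)) (he : e ≤ 6) (ha : 7 ≤ a) :
    g ≤ 7 * c := by
  obtain ⟨b, rfl⟩ := Nat.exists_eq_add_of_le ha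
  rw [show 7 + b - 1 = 6 + b by omega] at h
  have h1 : c * (e * (7 + b)) ≤ c * (6 * (7 + b)) := by gcongr
  by_contra! h2
  nlinarith

theorem arith1 {q c e g : ℕ} (hq : 27 ≤ q) (hg : 0 < g) (h : c * (e * MM q) = g * (MM q - 1))
    (he : e ≤ 6) (h2 : 3 * MM q * c = g * (q * (q - 2))) : False := by
  obtain ⟨j, rfl⟩ : ∃ j, q = j + 2 := ⟨q - 2, by omega⟩
  simp only [MM, Nat.add_sub_cancel, show j + 2 - 1 = j + 1 from rfl] at h h2
  have : g * (j + 2) * (3 * (j + 1)) = g * (j + 2) * (e * j) := by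
    zify at h h2 ⊢
    linear_combination e * h2 - 3 * h
  have := Nat.eq_of_mul_eq_mul_left (by positivity) this
  interval_cases e <;> omega

theorem arith2 {q c1 c2 e1 e2 a1 a2 g : ℕ} (hq : 27 ≤ q) (hg : 0 < g)
    (h1 : c1 * (e1 * a1) = g * (a1 - 1)) (h2 : c2 * (e2 * a2) = g * (a2 - 1))
    (he1 : e1 ≤ 6) (he2 : e2 ≤ 6) (ha1 : 7 ≤ a1) (ha2 : 7 ≤ a2) (hM : a1 * a2 = MM q)
    (h : 3 * MM q * (c1 + c2) = g * (q * (q - 2))) : e1 = 6 ∧ e2 = 6 ∧ a1 + a2 = 2 * (q + 1) := by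
  obtain ⟨j, rfl⟩ : ∃ j, q = j + 2 := ⟨q - 2, by omega⟩
  obtain ⟨b1, rfl⟩ : ∃ b, a1 = b + 1 := ⟨a1 - 1, by omega⟩
  obtain ⟨b2, rfl⟩ : ∃ b, a2 = b + 1 := ⟨a2 - 1, by omega⟩
  rw [← hM] at h
  simp only [MM, Nat.add_sub_cancel, show j + 2 - 1 = j + 1 from rfl] at h h1 h2 hM
  have : g * (3 * (b1 * b2 * e2 + b1 * e2 + b1 * b2 * e1 + b2 * e1)) =
      g * ((j + 2) * j * (e1 * e2)) := by
    zify at h h1 h2 ⊢
    linear_combination (e1 * e2) * h - 3 * (b2 + 1) * e2 * h1 - 3 * (b1 + 1) * e1 * h2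
  have h3 := Nat.eq_of_mul_eq_mul_left hg this
  have h4 : b1 * b2 + b1 + b2 = (j + 2) * j + j + 2 := by nlinarith
  have h5 : 675 ≤ (j + 2) * j := by nlinarith
  have h6 : 5 * b2 + 4 * b1 + 10 ≤ b1 * b2 := by
    by_cases h : 34 ≤ b2
    · nlinarith
    · have : 20 ≤ b1 := by nlinarith
      nlinarith
  have h7 : 5 * b1 + 4 * b2 + 10 ≤ b1 * b2 := by
    by_cases h : 34 ≤ b1
    · nlinarith
    · have : 20 ≤ b2 := by nlinarith
      nlinarith
  have h8 : 0 < e1 := by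
    rcases Nat.eq_zero_or_pos e1 with rfl | h
    · simp at h1; omega
    · exact h
  have h9 : 0 < e2 := by
    rcases Nat.eq_zero_or_pos e2 with rfl | h
    · simp at h2; omega
    · exact h
  generalize b1 * b2 = P at *
  generalize (j + 2) * j = Q at *
  clear h h1 h2 this hM
  interval_cases e1 <;> interval_cases e2 <;> omega

theorem arith_r {q r a1 a2 : ℕ} (hq : 27 ≤ q) (hr : r * r = 3 * q) (hM : a1 * a2 = MM q)
    (h : a1 + a2 = 2 * (q + 1)) :
    (a1 = q - r + 1 ∧ a2 = q + r + 1) ∨ (a2 = q - r + 1 ∧ a1 = q + r + 1) := by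
  have h1 := MM_add (q := q) (by omega)
  have h2 : r ≤ q := by nlinarith
  have h3 : ((a1 : ℤ) - (q + 1 - r)) * (a1 - (q + 1 + r)) = 0 := by
    rw [← hM] at h1
    zify at h1 h hr
    linear_combination (a1 : ℤ) * h - h1 - hr
  rcases mul_eq_zero.1 h3 with e | e <;> omega

variable {K : Type*} [Field K] [CharP K 3] {φ : K →+* K} {G : Type*} [Group G] [Fintype K]

/-- the elements of order dividing `q² - q + 1` -/
def XM (K : Type*) [Fintype K] (G : Type*) [Group G] : Set G :=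
  {z | z ≠ 1 ∧ z ^ MM (Fintype.card K) = 1}

/-- the conjugates of the non-trivial elements of a centraliser -/
def Cl {G : Type*} [Group G] (y : G) : Set G := cj ⊤ ((Subgroup.centralizer {y} : Set G) \ {1})

namespace Model

variable (M : Model G φ) (hq : Fintype.card K % 24 = 3)
include M hq

theorem cent_struct' {y : G} (hy : y ∈ XM K G) : IsCyclic (Subgroup.centralizer {y}) ∧
    (cj (Subgroup.normalizer (Subgroup.centralizer {y} : Set G)) {y}).ncard ≤ 6 := by
  have : Fact (Nat.Prime 3) := ⟨Nat.prime_three⟩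
  have := M.finite
  obtain ⟨n, -, hn⟩ := FiniteField.card K 3
  let ι := algebraMap K (AlgebraicClosure K)
  refine cent_struct (F := iterateFrobenius (AlgebraicClosure K) 3 n)
    (ι.mapMatrix.toMonoidHom.comp M.α)
    ((Matrix.map_injective ι.injective).comp M.inj) (fun g => ?_) (coprime_MM_three hq)
    (fun μ h => ?_) hy.1 (fun x hx => M.pow_MM_of_comm hq hy.1 hy.2 hx)
  · ext i j
    show (ι _) ^ 3 ^ (n : ℕ) = ι _
    rw [← map_pow, ← hn, FiniteField.pow_card]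
  · simp only [iterateFrobenius_def, ← hn]
    rw [← pow_mul, ← pow_succ, ← pow_two, ← MM_add (by omega), pow_add, h, one_mul]

theorem mem_XM {y z : G} (hy : y ∈ XM K G) (hz : z ∈ Subgroup.centralizer {y}) (h1 : z ≠ 1) :
    z ∈ XM K G := ⟨h1, M.pow_MM_of_comm hq hy.1 hy.2 hz⟩

theorem comm_XM {y : G} (hy : y ∈ XM K G) {x z : G} (hx : x ∈ Subgroup.centralizer {y})
    (hz : z ∈ Subgroup.centralizer {y}) : x * z = z * x := by
  have := (M.cent_struct' hq hy).1
  exact congrArg Subtype.val (IsCyclic.commGroup.mul_comm (⟨x, hx⟩ : Subgroup.centralizer {y})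
    ⟨z, hz⟩)

theorem cent_eq {y z : G} (hy : y ∈ XM K G) (hz : z ∈ Subgroup.centralizer {y}) (h1 : z ≠ 1) :
    Subgroup.centralizer {z} = Subgroup.centralizer {y} := by
  ext x
  constructor
  · intro hx
    exact Subgroup.mem_centralizer_singleton_iff.2 (M.comm_XM hq (M.mem_XM hq hy hz h1) hx
      (Subgroup.mem_centralizer_singleton_iff.2 (Subgroup.mem_centralizer_singleton_iff.1 hz).symm))
  · intro hx
    exact Subgroup.mem_centralizer_singleton_iff.2 (M.comm_XM hq hy hx hz)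

theorem mem_norm {y z k : G} (hy : y ∈ XM K G) (hz : z ∈ Subgroup.centralizer {y}) (h1 : z ≠ 1)
    (hk : k * z * k⁻¹ ∈ Subgroup.centralizer {y}) :
    k ∈ Subgroup.normalizer (Subgroup.centralizer {y} : Set G) := by
  have := M.finite
  refine Subgroup.mem_normalizer_fintype fun x hx => ?_
  rw [← M.cent_eq hq hy hk (fun h => h1 (conj_eq_one h))]
  exact Subgroup.mem_centralizer_singleton_iff.2 (conj_comm (M.comm_XM hq hy hx hz))

theorem norm_eq {y : G} (hy : y ∈ XM K G) {A₀ : Subgroup G} (h : A₀ ≤ Subgroup.centralizer {y})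
    (h1 : A₀ ≠ ⊥) : Subgroup.normalizer (A₀ : Set G) =
      Subgroup.normalizer (Subgroup.centralizer {y} : Set G) := by
  have := M.finite
  have := (M.cent_struct' hq hy).1
  apply le_antisymm
  · intro k hk
    obtain ⟨⟨z, hz⟩, hz1⟩ := Subgroup.ne_bot_iff_exists_ne_one.1 h1
    exact M.mem_norm hq hy (h hz) (fun e => hz1 (Subtype.ext e))
      (h ((Subgroup.mem_normalizer_iff.1 hk z).1 hz))
  · intro k hk
    exact mem_normalizer_of_cyclic h fun x hx => (Subgroup.mem_normalizer_iff.1 hk x).1 hx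

theorem card_Cl {y : G} (hy : y ∈ XM K G) : ∃ e ≤ 6,
    Nat.card (Subgroup.normalizer (Subgroup.centralizer {y} : Set G)) =
      e * Nat.card (Subgroup.centralizer {y}) ∧
    (Cl y).ncard * (e * Nat.card (Subgroup.centralizer {y})) =
      Nat.card G * (Nat.card (Subgroup.centralizer {y}) - 1) := by
  have := M.finite
  have h1 := ncard_cj (Subgroup.normalizer (Subgroup.centralizer {y} : Set G))
    (Subgroup.centralizer {y}) Subgroup.le_normalizer {y} (by
      rintro k hk _ rfl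
      exact mul_inv_eq_iff_eq_mul.2 (Subgroup.mem_centralizer_singleton_iff.1 hk)) (by
      rintro k _ _ rfl h
      exact Subgroup.mem_centralizer_singleton_iff.2 (mul_inv_eq_iff_eq_mul.1 h))
  rw [Set.ncard_singleton, mul_one] at h1
  refine ⟨_, (M.cent_struct' hq hy).2, h1.symm, ?_⟩
  rw [h1, Cl, ncard_cj_top, Set.ncard_diff_singleton_of_mem (Subgroup.one_mem _),
    ← Nat.card_coe_set_eq, SetLike.coe_sort_coe]
  · rintro k hk d ⟨hd, hd1⟩
    exact ⟨(Subgroup.mem_normalizer_iff.1 hk d).1 hd, fun h => hd1 (conj_eq_one h)⟩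
  · rintro k d ⟨hd, hd1⟩ ⟨h, -⟩
    exact M.mem_norm hq hy hd hd1 h

theorem seven_le_cent {y : G} (hy : y ∈ XM K G) : 7 ≤ Nat.card (Subgroup.centralizer {y}) := by
  have := M.finite
  refine seven_le hq (M.card_cent_dvd hq hy.1 hy.2) (Finite.one_lt_card_iff_nontrivial.2 ?_)
  exact ⟨⟨⟨y, Subgroup.mem_centralizer_singleton_iff.2 rfl⟩, 1, fun h => hy.1 (congrArg Subtype.val h)⟩⟩

theorem hall {y : G} (hy : y ∈ XM K G) {p : ℕ} (hp : p.Prime)
    (h : p ∣ Nat.card (Subgroup.centralizer {y})) : ¬ p ∣ (Subgroup.centralizer {y}).index := by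
  have := M.finite
  have := Fact.mk hp
  obtain ⟨⟨z, hz⟩, hzp⟩ := exists_prime_orderOf_dvd_card' p h
  rw [Subgroup.orderOf_mk] at hzp
  have hz1 : z ≠ 1 := fun h => hp.one_lt.ne (by rw [← hzp, h, orderOf_one])
  obtain ⟨P, hP⟩ := (IsPGroup.of_card (G := Subgroup.zpowers z) (n := 1)
    (by rw [Nat.card_zpowers, hzp, pow_one])).exists_le_sylow
  have hzP := hP (Subgroup.mem_zpowers z)
  have : Nontrivial (P : Subgroup G) := ⟨⟨⟨z, hzP⟩, 1, fun h => hz1 (congrArg Subtype.val h)⟩⟩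
  obtain ⟨⟨⟨w, hwP⟩, hw⟩, hw1⟩ := @exists_ne _ P.isPGroup'.center_nontrivial 1
  have hw' : ∀ x ∈ (P : Subgroup G), x ∈ Subgroup.centralizer {w} := fun x hx =>
    Subgroup.mem_centralizer_singleton_iff.2
      (congrArg Subtype.val (Subgroup.mem_center_iff.1 hw ⟨x, hx⟩))
  have h1 : w ∈ Subgroup.centralizer {y} := by
    rw [← M.cent_eq hq hy hz hz1]
    exact Subgroup.mem_centralizer_singleton_iff.2
      (Subgroup.mem_centralizer_singleton_iff.1 (hw' z hzP)).symm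
  rw [M.cent_eq hq hy h1 (fun h => hw1 (Subtype.ext (Subtype.ext h)))] at hw'
  exact fun h2 => P.not_dvd_index (h2.trans (Subgroup.index_dvd_of_le hw'))

theorem of_mem_Cl {y x : G} (hy : y ∈ XM K G) (hx : x ∈ Cl y) : x ∈ XM K G ∧
    Nat.card (Subgroup.centralizer {x}) = Nat.card (Subgroup.centralizer {y}) ∧
    x ^ Nat.card (Subgroup.centralizer {y}) = 1 := by
  obtain ⟨k, -, z, ⟨hz, hz1⟩, rfl⟩ := hx
  refine ⟨⟨fun h => hz1 (conj_eq_one h), ?_⟩, ?_, ?_⟩
  · rw [conj_pow, (M.mem_XM hq hy hz hz1).2]; group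
  · rw [card_centralizer_conj, M.cent_eq hq hy hz hz1]
  · have : z ^ Nat.card (Subgroup.centralizer {y}) = 1 :=
      congrArg Subtype.val (pow_card_eq_one' (x := (⟨z, hz⟩ : Subgroup.centralizer {y})))
    rw [conj_pow, this]; group

theorem mem_Cl {y x : G} (hy : y ∈ XM K G) (hx : x ∈ XM K G) {p : ℕ} (hp : p.Prime)
    (h1 : p ∣ Nat.card (Subgroup.centralizer {y})) (h2 : p ∣ Nat.card (Subgroup.centralizer {x})) :
    x ∈ Cl y := by
  have := M.finite
  have := Fact.mk hp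
  obtain ⟨⟨z, hz⟩, hzp⟩ := exists_prime_orderOf_dvd_card' p h2
  rw [Subgroup.orderOf_mk] at hzp
  have hz1 : z ≠ 1 := fun h => hp.one_lt.ne (by rw [← hzp, h, orderOf_one])
  obtain ⟨k, hk⟩ := exists_conj_mem' _ (M.hall hq hy hp h1) hzp
  refine ⟨k, trivial, k⁻¹ * x * k, ⟨?_, fun h => hx.1 (conj_eq_one (k := k⁻¹) (by rwa [inv_inv]))⟩,
    by group⟩
  rw [← M.cent_eq hq hy hk (fun h => hz1 (conj_eq_one (k := k⁻¹) (by rwa [inv_inv])))]
  have := conj_comm (k := k⁻¹) (Subgroup.mem_centralizer_singleton_iff.1 hz).symm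
  rw [inv_inv] at this
  exact Subgroup.mem_centralizer_singleton_iff.2 this

theorem coprime_of_not_mem {y x : G} (hy : y ∈ XM K G) (hx : x ∈ XM K G) (h : x ∉ Cl y) :
    Nat.Coprime (Nat.card (Subgroup.centralizer {y})) (Nat.card (Subgroup.centralizer {x})) :=
  Nat.coprime_of_dvd fun _ hp h1 h2 => h (M.mem_Cl hq hy hx hp h1 h2)

theorem disj_Cl {y x : G} (hy : y ∈ XM K G) (hx : x ∈ XM K G) (h : x ∉ Cl y) :
    Disjoint (Cl y) (Cl x) := by
  rw [Set.disjoint_left]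
  intro z h1 h2
  have h3 := M.coprime_of_not_mem hq hy hx h
  have h4 := M.seven_le_cent hq hy
  rw [← (M.of_mem_Cl hq hx h2).2.1, (M.of_mem_Cl hq hy h1).2.1, Nat.coprime_self] at h3
  omega

theorem exists_XM {p : ℕ} (hp : p.Prime) (h : p ∣ MM (Fintype.card K)) :
    ∃ y ∈ XM K G, p ∣ Nat.card (Subgroup.centralizer {y}) := by
  have := M.finite
  have := Fact.mk hp
  obtain ⟨y, hy⟩ := exists_prime_orderOf_dvd_card' (G := G) p (by
    rw [M.card_G, cube_add_one (by omega)]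
    exact (h.mul_left _).mul_right _)
  refine ⟨y, ⟨fun h => hp.one_lt.ne (by rw [← hy, h, orderOf_one]),
    orderOf_dvd_iff_pow_eq_one.1 (hy ▸ h)⟩, ?_⟩
  rw [← hy]
  exact Subgroup.orderOf_dvd_natCard _ (Subgroup.mem_centralizer_singleton_iff.2 rfl)

theorem not_dvd_cofactor {y : G} (hy : y ∈ XM K G) {p c : ℕ} (hp : p.Prime)
    (h : p ∣ Nat.card (Subgroup.centralizer {y}))
    (hc : MM (Fintype.card K) = Nat.card (Subgroup.centralizer {y}) * c) : ¬ p ∣ c := by
  intro h1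
  apply M.hall hq hy hp h
  have h2 := Subgroup.card_mul_index (Subgroup.centralizer {y})
  have h3 := M.seven_le_cent hq hy
  rw [M.card_G, cube_add_one (by omega), hc, mul_left_comm (Fintype.card K + 1), mul_assoc] at h2
  have h4 := Nat.eq_of_mul_eq_mul_left (by omega) h2
  rw [h4]
  exact (h1.mul_left _).mul_right _

theorem tori_aux (hq' : 27 ≤ Fintype.card K) : ∃ y1 ∈ XM K G, ∃ y2 ∈ XM K G,
    Nat.card (Subgroup.centralizer {y1}) * Nat.card (Subgroup.centralizer {y2}) =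
      MM (Fintype.card K) ∧
    Nat.card (Subgroup.centralizer {y1}) + Nat.card (Subgroup.centralizer {y2}) =
      2 * (Fintype.card K + 1) ∧
    Nat.card (Subgroup.normalizer (Subgroup.centralizer {y1} : Set G)) =
      6 * Nat.card (Subgroup.centralizer {y1}) ∧
    Nat.card (Subgroup.normalizer (Subgroup.centralizer {y2} : Set G)) =
      6 * Nat.card (Subgroup.centralizer {y2}) ∧ XM K G = Cl y1 ∪ Cl y2 := by
  have := M.finite
  have hX : 3 * MM (Fintype.card K) * (XM K G).ncard = _ := M.card_XM hq hq'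
  have hg : 0 < Nat.card G := Nat.card_pos
  have hsub : ∀ y ∈ XM K G, Cl y ⊆ XM K G := fun y hy x hx => (M.of_mem_Cl hq hy hx).1
  obtain ⟨p, hp, hpM⟩ := Nat.exists_prime_and_dvd (n := MM (Fintype.card K)) (by
    have := MM_add (q := Fintype.card K) (by omega)
    nlinarith)
  obtain ⟨y1, hy1, -⟩ := M.exists_XM hq hp hpM
  obtain ⟨e1, he1, hN1, hc1⟩ := M.card_Cl hq hy1
  have ha1 := M.seven_le_cent hq hy1
  obtain ⟨y2, hy2, h12⟩ : ∃ y2 ∈ XM K G, y2 ∉ Cl y1 := by
    by_contra! h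
    obtain ⟨c, hc⟩ := M.card_cent_dvd hq hy1.1 hy1.2
    have : c = 1 := by
      by_contra h1
      obtain ⟨p, hp, hpc⟩ := Nat.exists_prime_and_dvd h1
      obtain ⟨y, hy, h2⟩ := M.exists_XM hq hp (hc ▸ hpc.mul_left _)
      rw [(M.of_mem_Cl hq hy1 (h y hy)).2.1] at h2
      exact M.not_dvd_cofactor hq hy1 hp h2 hc hpc
    rw [this, mul_one] at hc
    rw [← hc] at hc1
    rw [Set.Subset.antisymm h (hsub y1 hy1)] at hX
    exact arith1 hq' hg hc1 he1 hX
  obtain ⟨e2, he2, hN2, hc2⟩ := M.card_Cl hq hy2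
  have ha2 := M.seven_le_cent hq hy2
  have hU : XM K G = Cl y1 ∪ Cl y2 := by
    refine Set.Subset.antisymm (fun y3 hy3 => ?_) (Set.union_subset (hsub _ hy1) (hsub _ hy2))
    by_contra h3
    rw [Set.mem_union, not_or] at h3
    obtain ⟨e3, he3, -, hc3⟩ := M.card_Cl hq hy3
    have h4 := Set.ncard_le_ncard (Set.union_subset (Set.union_subset (hsub _ hy1) (hsub _ hy2))
      (hsub _ hy3))
    rw [Set.ncard_union_eq (Set.disjoint_union_left.2 ⟨M.disj_Cl hq hy1 hy3 h3.1,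
      M.disj_Cl hq hy2 hy3 h3.2⟩), Set.ncard_union_eq (M.disj_Cl hq hy1 hy2 h12)] at h4
    have f1 := arith7 hc1 he1 ha1
    have f2 := arith7 hc2 he2 ha2
    have f3 := arith7 hc3 he3 (M.seven_le_cent hq hy3)
    have f4 : Fintype.card K * (Fintype.card K - 2) ≤ MM (Fintype.card K) :=
      (Nat.mul_le_mul_left _ (by omega)).trans (Nat.le_succ _)
    have f5 : MM (Fintype.card K) * (3 * (XM K G).ncard) ≤ MM (Fintype.card K) * Nat.card G := by
      calc _ = _ := by rw [← hX]; ring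
        _ ≤ Nat.card G * MM (Fintype.card K) := Nat.mul_le_mul_left _ f4
        _ = _ := mul_comm _ _
    have := Nat.le_of_mul_le_mul_left f5 (Nat.succ_pos _)
    omega
  obtain ⟨c, hc⟩ := (M.coprime_of_not_mem hq hy1 hy2 h12).mul_dvd_of_dvd_of_dvd
    (M.card_cent_dvd hq hy1.1 hy1.2) (M.card_cent_dvd hq hy2.1 hy2.2)
  have : c = 1 := by
    by_contra h1
    obtain ⟨p, hp, hpc⟩ := Nat.exists_prime_and_dvd h1
    obtain ⟨y, hy, h2⟩ := M.exists_XM hq hp (hc ▸ hpc.mul_left _)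
    rcases hU ▸ hy with h | h
    · rw [(M.of_mem_Cl hq hy1 h).2.1] at h2
      exact M.not_dvd_cofactor hq hy1 hp h2 (hc.trans (mul_assoc _ _ _)) (hpc.mul_left _)
    · rw [(M.of_mem_Cl hq hy2 h).2.1] at h2
      exact M.not_dvd_cofactor hq hy2 hp h2 (hc.trans ((mul_assoc _ _ _).trans (mul_left_comm _ _ _)))
        (hpc.mul_left _)
  rw [this, mul_one] at hc
  rw [hU, Set.ncard_union_eq (M.disj_Cl hq hy1 hy2 h12)] at hX
  obtain ⟨rfl, rfl, h⟩ := arith2 hq' hg hc1 hc2 he1 he2 ha1 ha2 hc.symm hX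
  exact ⟨y1, hy1, y2, hy2, hc.symm, h, hN1, hN2, hU⟩

theorem tori (hq' : 27 ≤ Fintype.card K) {r : ℕ} (hr : r * r = 3 * Fintype.card K) :
    ∃ y1 ∈ XM K G, ∃ y2 ∈ XM K G,
    Nat.card (Subgroup.centralizer {y1}) = Fintype.card K - r + 1 ∧
    Nat.card (Subgroup.centralizer {y2}) = Fintype.card K + r + 1 ∧
    Nat.card (Subgroup.normalizer (Subgroup.centralizer {y1} : Set G)) =
      6 * Nat.card (Subgroup.centralizer {y1}) ∧
    Nat.card (Subgroup.normalizer (Subgroup.centralizer {y2} : Set G)) =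
      6 * Nat.card (Subgroup.centralizer {y2}) ∧ XM K G = Cl y1 ∪ Cl y2 := by
  obtain ⟨y1, hy1, y2, hy2, h1, h2, h3, h4, h5⟩ := M.tori_aux hq hq'
  rcases arith_r hq' hr h1 h2 with ⟨e1, e2⟩ | ⟨e1, e2⟩
  · exact ⟨y1, hy1, y2, hy2, e1, e2, h3, h4, h5⟩
  · exact ⟨y2, hy2, y1, hy1, e1, e2, h4, h3, h5.trans (Set.union_comm _ _)⟩

omit hq in
/-- the odd part of the split torus -/
noncomputable def Ah : Subgroup G := (M.h.comp (powMonoidHom 2)).range

omit hq in
theorem Ah_cyclic : IsCyclic M.Ah :=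
  isCyclic_of_surjective _ (MonoidHom.rangeRestrict_surjective _)

theorem card_Ah : Nat.card M.Ah = (Fintype.card K - 1) / 2 := by
  classical
  have h2 := Subgroup.card_mul_index (M.h.comp (powMonoidHom 2)).ker
  rw [Subgroup.index_ker, MonoidHom.ker_comp_of_injective _ _ M.h_inj,
    IsCyclic.card_powMonoidHom_ker, Nat.card_eq_fintype_card (α := Kˣ), Fintype.card_units,
    Nat.gcd_eq_right (by omega)] at h2
  rw [Ah]; omega

omit hq in
theorem normalizer_eq_Nn {A₀ : Subgroup G} (h : A₀ ≤ M.Ah) (h1 : A₀ ≠ ⊥) :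
    Subgroup.normalizer (A₀ : Set G) = M.Nn := by
  have := M.finite
  have := M.Ah_cyclic
  apply le_antisymm
  · intro k hk
    obtain ⟨⟨y, hy⟩, hy1⟩ := Subgroup.ne_bot_iff_exists_ne_one.1 h1
    obtain ⟨l, rfl⟩ := h hy
    obtain ⟨l', hl'⟩ := h ((Subgroup.mem_normalizer_iff.1 hk _).1 hy)
    have hl' : M.h (l' ^ 2) = k * M.h (l ^ 2) * k⁻¹ := hl'
    refine M.mem_Nn (l := l ^ 2) (l' := l' ^ 2) (fun e => hy1 (Subtype.ext ?_)) hl'.symm
    have e1 : ((l' : K) * l') * (l' * l') = 1 := by simpa [pow_two] using congrArg Units.val e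
    have e2 : l' ^ 2 = 1 := Units.ext (by
      simpa [pow_two] using (mul_self_eq_one_iff.1 e1).resolve_right (M.not_sq_neg_one _))
    rw [e2, map_one] at hl'
    exact conj_eq_one hl'.symm
  · intro k hk
    refine mem_normalizer_of_cyclic h ?_
    rintro _ ⟨l, rfl⟩
    rcases M.conj_h hk (l ^ 2) with e | e
    · exact ⟨l, e.symm⟩
    · exact ⟨l⁻¹, by rw [← inv_pow] at e; exact e.symm⟩

omit hq [Fintype K] in
theorem u_mul (s y z s' y' z' : K) : ∃ y'' z'', M.u s y z * M.u s' y' z' = M.u (s + s') y'' z'' := by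
  obtain ⟨a, b, c, h⟩ := M.exists_eq_u (M.U.mul_mem (M.u_mem s y z) (M.u_mem s' y' z'))
  have h1 := congrArg (fun g => M.α g 5 6) h
  simp only [map_mul, α_u, (uM_mul_apply _ _ _ _ _).2.1] at h1
  have h2 : -s' - s * 1 = -a := h1
  exact ⟨b, c, by rw [h, show a = s + s' by linear_combination h2]⟩

omit hq in
theorem B_order {g : G} (hg : g ∈ M.B) : g ^ 6 = 1 ∨ g ^ 9 = 1 ∨ g ^ (Fintype.card K - 1) = 1 := by
  classical
  have := M.finite
  obtain ⟨x, hx, l, rfl⟩ := M.B_decomp hg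
  by_cases hl : l * l = 1
  · rcases M.eq_of_sq_eq_one hl with e | e <;> rw [e]
    · right; left; rw [mul_one]; exact M.pow_nine hx
    · left
      obtain ⟨s, y, z, rfl⟩ := M.exists_eq_u hx
      obtain ⟨b, c, h⟩ := M.u_mul s y z (-s) y (-z)
      rw [show 6 = 2 * 3 from rfl, pow_mul, pow_two, mul_assoc, ← mul_assoc M.a]
      nth_rewrite 2 [← M.a_inv]
      rw [a_u, h, u_cube_eq_one_iff, add_neg_cancel]
  · right; right
    let f : M.U → M.U := fun w => ⟨(w : G)⁻¹ * (M.h l * w * (M.h l)⁻¹),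
      M.U.mul_mem (M.U.inv_mem w.2) (M.conj_mem_U (M.h_mem l) w.2)⟩
    have hf : Function.Injective f := by
      intro w w' h
      have h1 : (w : G)⁻¹ * (M.h l * w * (M.h l)⁻¹) = (w' : G)⁻¹ * (M.h l * w' * (M.h l)⁻¹) :=
        congrArg Subtype.val h
      by_contra hne
      refine hl (M.sq_eq_one_of_commute (M.U.mul_mem w'.2 (M.U.inv_mem w.2))
        (fun e => hne (Subtype.ext (mul_inv_eq_one.1 e).symm)) ?_)
      calc M.h l * (w' * (w : G)⁻¹) = w' * ((w' : G)⁻¹ * (M.h l * w' * (M.h l)⁻¹)) * M.h l *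
          (w : G)⁻¹ := by group
        _ = _ := by rw [← h1]; group
    obtain ⟨w, hw⟩ := Finite.surjective_of_injective hf ⟨x, hx⟩
    have hw : (w : G)⁻¹ * (M.h l * w * (M.h l)⁻¹) = x := congrArg Subtype.val hw
    have : x * M.h l = (w : G)⁻¹ * M.h l * (w : G)⁻¹⁻¹ := by rw [← hw]; group
    rw [this, conj_pow, ← map_pow, ← Fintype.card_units, pow_card_eq_one, map_one]
    group

theorem pow_T0 (t : T0 K) : t ^ ((Fintype.card K + 1) / 2) * t ^ ((Fintype.card K + 1) / 2) = 1 := by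
  rw [← pow_add, show (Fintype.card K + 1) / 2 + (Fintype.card K + 1) / 2 = Fintype.card K + 1 by
    omega, ← card_T0 M.not_sq_neg_one, pow_card_eq_one']

theorem T_order {t : G} (ht : t ∈ M.T) : t ^ ((Fintype.card K + 1) / 2) = 1 := by
  have := M.sq_mem_Aq (M.T_le_CV ht)
  rw [show (Fintype.card K + 1) / 2 = 2 * ((Fintype.card K + 1) / 4) by omega, pow_mul, pow_two,
    ← M.card_Aq hq]
  exact congrArg Subtype.val (pow_card_eq_one' (x := (⟨_, this⟩ : M.Aq)))

theorem order_cases (hq' : 27 ≤ Fintype.card K) {r : ℕ} (hr : r * r = 3 * Fintype.card K) (g : G) :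
    g ^ 6 = 1 ∨ g ^ 9 = 1 ∨ g ^ (Fintype.card K - 1) = 1 ∨ g ^ ((Fintype.card K + 1) / 2) = 1 ∨
      g ^ (Fintype.card K - r + 1) = 1 ∨ g ^ (Fintype.card K + r + 1) = 1 := by
  by_cases h : M.fx g = 0
  · have : g ∈ cj ⊤ M.DT ∪ XM K G := M.F0_eq hq ▸ h
    rcases this with ⟨k, -, t, ht, rfl⟩ | h
    · right; right; right; left
      rw [conj_pow, M.T_order hq ht.1]; group
    · obtain ⟨y1, hy1, y2, hy2, e1, e2, -, -, hU⟩ := M.tori hq hq' hr
      rcases hU ▸ h with h | h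
      · have := (M.of_mem_Cl hq hy1 h).2.2
        rw [e1] at this
        simp [this]
      · have := (M.of_mem_Cl hq hy2 h).2.2
        rw [e2] at this
        simp [this]
  · rw [fx_eq_zero] at h
    push Not at h
    obtain ⟨c, hc⟩ := h
    obtain ⟨k, rfl⟩ := M.trans_o c
    have := M.B_order (g := k⁻¹ * g * k⁻¹⁻¹) (M.fix_iff.1 (by
      rw [inv_inv, mul_smul, mul_smul, hc, inv_smul_smul]))
    simp only [conj_pow] at this
    rcases this with h | h | h <;> simp [conj_eq_one h]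

omit hq [Fintype K] in
theorem exists_order_six : ∃ g : G, orderOf g = 6 := by
  have : Fact (Nat.Prime 3) := ⟨Nat.prime_three⟩
  refine ⟨M.a * M.u 0 1 0, ?_⟩
  have h2 : orderOf M.a = 2 := orderOf_eq_prime (by rw [pow_two, a_mul_a]) M.a_ne_one
  have h3 : orderOf (M.u 0 1 0) = 3 := orderOf_eq_prime ((M.u_cube_eq_one_iff _ _ _).2 rfl)
    (fun h => one_ne_zero (M.u_eq_one h).2.1)
  rw [Commute.orderOf_mul_eq_mul_orderOf_of_coprime (M.commute_a_iff.2 ⟨rfl, rfl⟩)
    (by rw [h2, h3]; decide), h2, h3]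

omit hq [Fintype K] in
theorem exists_order_nine : ∃ g : G, orderOf g = 9 := by
  have : Fact (Nat.Prime 3) := ⟨Nat.prime_three⟩
  exact ⟨M.u 1 0 0, orderOf_eq_prime_pow (p := 3) (n := 1)
    (fun h => one_ne_zero ((M.u_cube_eq_one_iff _ _ _).1 h)) (M.pow_nine (M.u_mem _ _ _))⟩

omit hq in
theorem exists_order_pred : ∃ g : G, orderOf g = Fintype.card K - 1 := by
  classical
  obtain ⟨l, hl⟩ := IsCyclic.exists_ofOrder_eq_natCard (α := Kˣ)
  exact ⟨M.h l, by rw [orderOf_injective _ M.h_inj, hl, Nat.card_eq_fintype_card,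
    Fintype.card_units]⟩

theorem exists_order_half : ∃ g : G, orderOf g = (Fintype.card K + 1) / 2 := by
  have := M.finite
  have := M.Aq_cyclic
  obtain ⟨⟨y, hy⟩, hl⟩ := IsCyclic.exists_ofOrder_eq_natCard (α := M.Aq)
  rw [Subgroup.orderOf_mk, M.card_Aq hq] at hl
  have h2 : orderOf M.a = 2 := orderOf_eq_prime (by rw [pow_two, a_mul_a]) M.a_ne_one
  refine ⟨M.a * y, ?_⟩
  rw [Commute.orderOf_mul_eq_mul_orderOf_of_coprime (M.T_comm M.a_mem_T (M.Aq_le_T hy))
    (by rw [h2, hl, Nat.coprime_two_left, Nat.odd_iff]; omega), h2, hl]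
  omega

theorem exists_order_cent {y : G} (hy : y ∈ XM K G) :
    ∃ g : G, orderOf g = Nat.card (Subgroup.centralizer {y}) := by
  have := (M.cent_struct' hq hy).1
  obtain ⟨⟨g, hg⟩, hl⟩ := IsCyclic.exists_ofOrder_eq_natCard (α := Subgroup.centralizer {y})
  exact ⟨g, by rwa [Subgroup.orderOf_mk] at hl⟩

end Model

end Ree

end Cfsg.Agent.H4
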