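import Cfsg.Agent.H4.Sl3

set_option autoImplicit false
set_option linter.unusedSectionVars false

/-! Maximal parabolic subgroups of simply laced Chevalley groups over the field with two elements. -/

namespace Cfsg.Agent.H4.Sl

namespace RS

variable {ι Φ : Type} [Fintype ι] [DecidableEq ι] [Fintype Φ] [DecidableEq Φ] (S : RS ι Φ)

open Classical in
noncomputable def sumZ (Z : Set (ι → ℤ)) : ι → ℤ := ∑ a, if S.ρ a ∈ Z then S.ρ a else 0

variable {S}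

open Classical in
theorem b_sumZ (Z : Set (ι → ℤ)) (v : ι → ℤ) :
    S.b v (S.sumZ Z) = ∑ a, if S.ρ a ∈ Z then S.b v (S.ρ a) else 0 := by
  rw [sumZ, map_sum]; refine Finset.sum_congr rfl fun a _ => ?_; split_ifs <;> simp

theorem b_sumZ_zero {Z : Set (ι → ℤ)} {β : ι → ℤ} (hβ : S.R β) (h : ∀ v, S.R v → v ∈ Z → S.σ β v ∈ Z) :
    S.b β (S.sumZ Z) = 0 := by
  classical
  have h1 := sum_R (S := S) (fun v => if v ∈ Z then S.b β v else 0) (fun v hv => hβ.refl hv) (σ_bij hβ).1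
  have h2 : ∀ a, (if S.σ β (S.ρ a) ∈ Z then S.b β (S.σ β (S.ρ a)) else 0) =
      -(if S.ρ a ∈ Z then S.b β (S.ρ a) else 0) := fun a => by
    have : S.σ β (S.ρ a) ∈ Z ↔ S.ρ a ∈ Z :=
      ⟨fun h3 => by have := h _ (hβ.refl (R_ρ a)) h3; rwa [σ_σ hβ] at this, h _ (R_ρ a)⟩
    rw [← b_σ' hβ, σ_self hβ]
    by_cases h3 : S.ρ a ∈ Z
    · simp [h3, this]
    · simp [h3, this]
  simp only [h2, Finset.sum_neg_distrib] at h1
  rw [b_sumZ]; omega

theorem b_sumZ_pos {Z : Set (ι → ℤ)} {v : ι → ℤ} (h : ∀ s, S.R s → s ∈ Z → 0 < S.b v s) {s : ι → ℤ}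
    (hs : S.R s) (hZ : s ∈ Z) : 0 < S.b v (S.sumZ Z) := by
  classical
  rw [b_sumZ]
  obtain ⟨c, rfl⟩ := hs
  refine Finset.sum_pos' (fun a _ => ?_) ⟨c, Finset.mem_univ _, by rw [if_pos hZ]; exact h _ (R_ρ c) hZ⟩
  split_ifs with h1
  · exact (h _ (R_ρ a) h1).le
  · rfl

theorem b_sumZ_nonpos {Z : Set (ι → ℤ)} {v : ι → ℤ} (h : ∀ s, S.R s → s ∈ Z → S.b v s ≤ 0) :
    S.b v (S.sumZ Z) ≤ 0 := by
  classical
  rw [b_sumZ]
  refine Finset.sum_nonpos (fun a _ => ?_)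
  split_ifs with h1
  · exact h _ (R_ρ a) h1
  · rfl

variable (S) in
structure Good (ω : ι → ℤ) : Prop where
  span1 : ∀ v, (∀ s, S.R s → S.b ω s = 1 → S.b s v = 0) → v = 0
  span0 : ∀ v, (∀ s, S.R s → S.b ω s = 0 → S.b s v = 0) → ∃ p q : ℤ, p ≠ 0 ∧ p • v = q • ω

theorem Good.refl {ω a : ι → ℤ} (h : S.Good ω) (ha : S.R a) : S.Good (S.σ a ω) := by
  refine ⟨fun v hv => ?_, fun v hv => ?_⟩
  · have := h.span1 (S.σ a v) fun s hs h1 => by
      rw [← b_σ' ha]; exact hv _ (ha.refl hs) (by rw [b_σ ha, h1])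
    rw [← σ_σ ha v, this, map_zero]
  · obtain ⟨p, q, hp, e⟩ := h.span0 (S.σ a v) fun s hs h1 => by
      rw [← b_σ' ha]; exact hv _ (ha.refl hs) (by rw [b_σ ha, h1])
    refine ⟨p, q, hp, ?_⟩
    have := congrArg (S.σ a) e
    rwa [map_smul, map_smul, σ_σ ha] at this

/-- a `W_J`-invariant vector with positive level pairs positively with positive-level vectors -/
theorem Good.pos {ω l : ι → ℤ} (h : S.Good ω) (h0 : ∀ s, S.R s → S.b ω s = 0 → S.b s l = 0)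
    (h1 : 0 < S.b ω l) {y : ι → ℤ} (hy : 0 < S.b ω y) : 0 < S.b y l := by
  obtain ⟨p, q, hp, e⟩ := h.span0 l h0
  have e1 := congrArg (S.b ω) e
  have e2 := congrArg (S.b y) e
  simp only [map_smul, smul_eq_mul] at e1 e2
  rw [S.symm y ω] at e2
  have h3 := nonneg (S := S) ω
  have h4 : 0 < p * q := by
    by_contra h5
    have : p * (p * S.b ω l) ≤ 0 := by rw [e1]; nlinarith
    have := mul_self_pos.mpr hp
    nlinarith
  have h6 : 0 < p * (p * S.b y l) := by rw [e2]; nlinarith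
  by_contra h7
  have := mul_self_pos.mpr hp
  nlinarith

theorem Good.trans {ω : ι → ℤ} (h : S.Good ω) {i : ℤ} (hi : 0 < i) (p : (ι → ℤ) → Prop)
    (hp : ∀ β s, S.R β → S.b ω β = 0 → S.R s → S.b ω s = i → p s → p (S.σ β s))
    {z : ι → ℤ} (hz : S.R z) (hzi : S.b ω z = i) (hpz : p z) {y : ι → ℤ} (hy : S.R y) (hyi : S.b ω y = i) :
    p y := by
  by_contra hn
  let Z : Set (ι → ℤ) := {s | S.b ω s = i ∧ p s}
  have h0 : ∀ s, S.R s → S.b ω s = 0 → S.b s (S.sumZ Z) = 0 := fun β hβ hb =>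
    b_sumZ_zero hβ fun v hv h1 => ⟨by rw [σ_apply, map_sub, map_smul, hb, h1.1]; simp,
      hp β v hβ hb hv h1.1 h1.2⟩
  have h1 := h.pos h0 (b_sumZ_pos (fun s _ h1 => by rw [h1.1]; exact hi) hz ⟨hzi, hpz⟩)
    (y := y) (by omega)
  have h2 := b_sumZ_nonpos (S := S) (Z := Z) (v := y) fun s hs h2 => by
    have h3 := hy.le hs
    by_contra h4
    rcases (by omega : S.b y s = 1 ∨ S.b y s = 2) with h5 | h5
    · have h6 := hy.sb hs h5
      have := hp (s - y) s h6 (by rw [map_sub, h2.1, hyi, sub_self]) hs h2.1 h2.2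
      rw [σ_apply, map_sub, LinearMap.sub_apply, hs.nrm, h5] at this
      exact hn (by simpa using this)
    · exact hn (hy.eq_of hs h5 ▸ h2.2)
  omega

theorem Good.exists_pos {ω : ι → ℤ} (h : S.Good ω) {i : ℤ} (hi : 0 < i) {z : ι → ℤ} (hz : S.R z)
    (hzi : S.b ω z = i) {a : ι → ℤ} (ha : 0 < S.b ω a) : ∃ s, S.R s ∧ S.b ω s = i ∧ 0 < S.b a s := by
  by_contra hn
  push Not at hn
  let Z : Set (ι → ℤ) := {s | S.b ω s = i}
  have h0 : ∀ s, S.R s → S.b ω s = 0 → S.b s (S.sumZ Z) = 0 := fun β hβ hb =>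
    b_sumZ_zero hβ fun v hv h1 => by
      have h2 : S.b ω v = i := h1
      show S.b ω _ = i
      rw [σ_apply, map_sub, map_smul, hb, h2]; simp
  have h1 := h.pos h0 (b_sumZ_pos (fun s _ h1 => by rw [h1]; exact hi) hz hzi) ha
  have h2 := b_sumZ_nonpos (S := S) (Z := Z) (v := a) fun s hs h2 => hn s hs h2
  omega

variable (S)

abbrev F2 := ZMod 2

def lev (ω : ι → ℤ) : (ι → ℤ) →+ ℤ := (S.b ω).toAddMonoidHom

@[simp] theorem lev_apply (ω v : ι → ℤ) : S.lev ω v = S.b ω v := rfl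

instance finΓ : Finite (Γ ι Φ F2) := by
  have : Finite (Module.End F2 (L ι Φ F2)) :=
    Finite.of_injective (fun f : Module.End F2 (L ι Φ F2) => (f : L ι Φ F2 → L ι Φ F2)) DFunLike.coe_injective
  infer_instance

abbrev G : Subgroup (Γ ι Φ F2) := S.U F2 Set.univ

def N : Subgroup (Γ ι Φ F2) := Subgroup.closure {n | ∃ r, S.R r ∧ ∃ t, t ≠ 0 ∧ n = S.nn r t}

def P (ω : ι → ℤ) : Subgroup (Γ ι Φ F2) where
  carrier := {g | g ∈ S.G ∧ ∀ k y, y ∈ S.Lge F2 (S.lev ω) k →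
    (g : Module.End F2 (L ι Φ F2)) y ∈ S.Lge F2 (S.lev ω) k}
  one_mem' := ⟨one_mem _, fun k y h => by simpa using h⟩
  mul_mem' := fun {g g'} h h' => ⟨mul_mem h.1 h'.1, fun k y hy => h.2 k _ (h'.2 k y hy)⟩
  inv_mem' := fun {g} h => ⟨inv_mem h.1, fun k y hy => by
    have h1 : g⁻¹ = g ^ (orderOf g - 1) := by
      rw [inv_eq_iff_mul_eq_one, ← pow_succ', Nat.sub_add_cancel (orderOf_pos g), pow_orderOf_eq_one]
    rw [h1]
    generalize orderOf g - 1 = m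
    induction m with
    | zero => simpa using hy
    | succ m ih => rw [pow_succ']; exact h.2 k _ ih⟩

def Q (ω : ι → ℤ) (k : ℤ) : Subgroup (Γ ι Φ F2) := S.U F2 {v | k ≤ S.b ω v}

variable {S}

theorem U_le_G (T : Set (ι → ℤ)) : S.U F2 T ≤ S.G := U_mono fun _ _ _ => trivial

theorem nn_G {r : ι → ℤ} (hr : S.R r) (t : F2) : S.nn r t ∈ S.G :=
  mul_mem (mul_mem (X_mem (Set.mem_univ _) hr _) (X_mem (Set.mem_univ _) hr.ng _)) (X_mem (Set.mem_univ _) hr _)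

theorem N_le_G : S.N ≤ S.G := by
  rw [N, Subgroup.closure_le]; rintro _ ⟨r, hr, t, _, rfl⟩; exact nn_G hr t

theorem isN : S.IsN S.N := by
  refine ⟨fun n hn => ?_, fun r hr t ht => Subgroup.subset_closure ⟨r, hr, t, ht, rfl⟩⟩
  induction hn using Subgroup.closure_induction with
  | mem x hx => obtain ⟨r, hr, t, ht, rfl⟩ := hx; exact ⟨_, _, mon_nn hr ht⟩
  | one => exact ⟨_, _, Mon.one⟩
  | mul x y _ _ h1 h2 => obtain ⟨_, _, h1⟩ := h1; obtain ⟨_, _, h2⟩ := h2; exact ⟨_, _, h1.mul h2⟩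
  | inv x _ h1 => obtain ⟨_, _, h1⟩ := h1; exact ⟨_, _, h1.inv⟩

theorem U_le_P {ω : ι → ℤ} {T : Set (ι → ℤ)} (hT : ∀ r ∈ T, S.R r → 0 ≤ S.b ω r) : S.U F2 T ≤ S.P ω :=
  fun _ hu => ⟨U_le_G T hu, fun _ _ hy => U_Lge' (l := S.lev ω) hT hu hy⟩

theorem X_P {ω r : ι → ℤ} (hr : S.R r) (h : 0 ≤ S.b ω r) (t : F2) : S.X F2 r t ∈ S.P ω :=
  U_le_P (T := {r}) (by rintro _ rfl _; exact h) (X_mem (Set.mem_singleton r) hr t)

theorem nn_P {ω r : ι → ℤ} (hr : S.R r) (h : S.b ω r = 0) (t : F2) : S.nn r t ∈ S.P ω :=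
  mul_mem (mul_mem (X_P hr h.ge _) (X_P hr.ng (by simp [h]) _)) (X_P hr h.ge _)

theorem X_not_P {ω r : ι → ℤ} (hr : S.R r) (h : S.b ω r < 0) : S.X F2 r 1 ∉ S.P ω := fun h1 => by
  obtain ⟨v, c, hc⟩ := hr.od
  have := co_Lge (s := r) (l := S.lev ω) h (h1.2 0 _ (hh_Lge le_rfl v))
  rw [coe_X hr, xh, map_add, co_hh, map_smul, co_e_self hr, hc] at this
  push_cast at this
  rw [two0] at this; simp at this

section
variable {n : Γ ι Φ F2} {w : (ι → ℤ) →ₗ[ℤ] (ι → ℤ)} {χ : (ι → ℤ) → F2} {ω : ι → ℤ}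

theorem Mon.lev_of_P (h : S.Mon n w χ) (hn : n ∈ S.P ω) {s : ι → ℤ} (hs : S.R s) :
    S.b ω (w s) = S.b ω s := by
  have key : ∀ s, S.R s → S.b ω s ≤ S.b ω (w s) := fun s hs => by
    by_contra h1
    have := co_Lge (s := w s) (l := S.lev ω) (not_le.mp h1) (hn.2 _ _ (e_Lge hs le_rfl))
    rw [h.co, co_e_self hs, mul_one] at this
    exact h.χne s this
  have h1 := key s hs
  have h2 := key _ hs.ng
  simp only [map_neg] at h2; omega

theorem Mon.Lge (h : S.Mon n w χ) {ω' : ι → ℤ} (hl : ∀ s, S.R s → S.b ω' (w s) = S.b ω s) (k : ℤ)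
    {y : L ι Φ F2} (hy : y ∈ S.Lge F2 (S.lev ω) k) :
    (n : Module.End F2 (L ι Φ F2)) y ∈ S.Lge F2 (S.lev ω') k := by
  have : S.Lge F2 (S.lev ω) k ≤ (S.Lge F2 (S.lev ω') k).comap (n : Module.End F2 (L ι Φ F2)) :=
    Lge_le (fun a ha h1 => by
      rw [Submodule.mem_comap, h.he a ha]
      exact Submodule.smul_mem _ _ (e_Lge (h.root a ha) (by rw [lev_apply, hl a ha]; exact h1)))
      (fun h1 v => by rw [Submodule.mem_comap, h.hh]; exact hh_Lge h1 _)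
  exact this hy

theorem Mon.P_of (h : S.Mon n w χ) (hn : n ∈ S.G) (hl : ∀ s, S.R s → S.b ω (w s) = S.b ω s) : n ∈ S.P ω :=
  ⟨hn, fun k _ hy => h.Lge hl k hy⟩

end

theorem bruhatG (ω : ι → ℤ) : ∃ f, S.Gen f ∧ (∀ r s, S.R r → S.R s → S.b ω r < S.b ω s → f r < f s) ∧
    (∀ r, S.R r → 0 < S.b ω r → 0 < f r) ∧ (∀ r, S.R r → 0 < f r → 0 ≤ S.b ω r) ∧
    S.U F2 {v | 0 < f v} ≤ S.P ω ∧
    ∀ g ∈ S.G, ∃ u ∈ S.U F2 {v | 0 < f v}, ∃ m ∈ S.N, ∃ u' ∈ S.U F2 {v | 0 < f v}, g = u * m * u' := by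
  obtain ⟨f, h1, h2, h3, h4⟩ := S.exists_gen (S.lev ω)
  refine ⟨f, h1, h2, h3, h4, U_le_P fun r h hr => h4 r hr h, fun g hg => ?_⟩
  simpa using bruhat h1 isN hg (one_mem _)

theorem Q_conj {ω : ι → ℤ} {k : ℤ} (hk : 1 ≤ k) {g u : Γ ι Φ F2} (hg : g ∈ S.P ω) (hu : u ∈ S.Q ω k) :
    g * u * g⁻¹ ∈ S.Q ω k := by
  obtain ⟨f, _, _, _, h4, h5, h6⟩ := bruhatG (S := S) ω
  obtain ⟨u1, a1, m, a2, u2, a3, rfl⟩ := h6 g hg.1
  have hm : m ∈ S.P ω := by
    have := mul_mem (mul_mem (inv_mem (h5 a1)) hg) (inv_mem (h5 a3))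
    simpa [mul_assoc] using this
  obtain ⟨w, χ, hw⟩ := isN.mon m a2
  have hI : S.Idl {v | 0 < f v} {v | k ≤ S.b ω v} := idl_of (S.lev ω) (fun r h hr => h4 r hr h)
    (fun s h _ => by have : k ≤ S.b ω s := h; simp only [lev_apply]; omega)
    (fun r h1 s h2 hr _ _ => by
      have : k ≤ S.b ω s := h2
      have := h4 r hr h1
      simp only [Set.mem_setOf_eq, map_add]; omega)
  have := hI.conj a1 (hw.conjU (T' := {v | k ≤ S.b ω v})
    (fun r h hr => by simp only [Set.mem_setOf_eq, hw.lev_of_P hm hr]; exact h) (hI.conj a3 hu))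
  simpa [mul_assoc, Q] using this

theorem Good.maximal {ω : ι → ℤ} (h : S.Good ω) {a : ι → ℤ} (ha : S.R a) (ha1 : S.b ω a = 1)
    {M : Subgroup (Γ ι Φ F2)} (hM : S.P ω ≤ M) {g : Γ ι Φ F2} (hg : g ∈ M) (hgG : g ∈ S.G) (hgP : g ∉ S.P ω) :
    S.G ≤ M := by
  obtain ⟨f, _, _, _, h4, h5, h6⟩ := bruhatG (S := S) ω
  obtain ⟨u1, a1, m, a2, u2, a3, rfl⟩ := h6 g hgG
  have hm : m ∈ M := by
    have := mul_mem (mul_mem (inv_mem (hM (h5 a1))) hg) (inv_mem (hM (h5 a3)))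
    simpa [mul_assoc] using this
  have hmP : m ∉ S.P ω := fun h => hgP (mul_mem (mul_mem (h5 a1) h) (h5 a3))
  obtain ⟨w, χ, hw⟩ := isN.mon m a2
  obtain ⟨r, hr, hr0, hr1⟩ : ∃ r, S.R r ∧ 0 ≤ S.b ω r ∧ S.b ω (w r) < 0 := by
    by_contra hn
    push Not at hn
    apply hmP
    have e0 : ∀ s, S.b ω (w s) = S.b (hw.wi ω) s := fun s => by rw [← hw.iso (hw.wi ω), hw.w_wi]
    obtain ⟨p, q, hp, e⟩ := h.span0 (hw.wi ω) fun s hs h1 => by
      have h2 := hn s hs h1.ge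
      have h3 := hn _ hs.ng (by simp [h1])
      rw [S.symm, ← e0]
      simp only [map_neg] at h3; omega
    have e1 : ∀ s, p * S.b ω (w s) = q * S.b ω s := fun s => by
      have := congrArg (fun v => S.b v s) e
      simpa only [e0, map_smul, LinearMap.smul_apply, smul_eq_mul] using this
    have e2 : p * p * S.b ω ω = q * q * S.b ω ω := by
      have := congrArg (fun v => S.b v v) e
      simp only [map_smul, LinearMap.smul_apply, smul_eq_mul] at this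
      rw [← hw.iso (hw.wi ω), hw.w_wi] at this
      linarith
    have hω : 0 < S.b ω ω := S.pos ω (by rintro rfl; simp at ha1)
    have e3 : p * p = q * q := mul_right_cancel₀ hω.ne' e2
    have e4 := e1 a
    have e5 := hn a ha (by omega)
    rw [ha1, mul_one] at e4
    have e6 : p = q := by
      rcases mul_self_eq_mul_self_iff.mp e3 with h7 | h7
      · exact h7
      · exfalso
        have : p * (S.b ω (w a) + 1) = 0 := by linarith
        rcases mul_eq_zero.mp this with h8 | h8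
        · exact hp h8
        · omega
    refine hw.P_of (N_le_G a2) fun s _ => ?_
    have := e1 s
    rw [← e6] at this
    exact mul_left_cancel₀ hp this
  let T : Set (ι → ℤ) := {s | ∀ t, S.X F2 s t ∈ M}
  have hT0 : ∀ s, S.R s → 0 ≤ S.b ω s → s ∈ T := fun s hs h0 t => hM (X_P hs h0 t)
  have hTc : ∀ {n w χ}, S.Mon n w χ → n ∈ M → ∀ s, S.R s → s ∈ T → w s ∈ T := by
    intro n w χ hw hn s hs h1 t
    have := mul_mem (mul_mem hn (h1 ((χ s)⁻¹ * t))) (inv_mem hn)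
    rwa [hw.conj' hs, ← mul_assoc, mul_inv_cancel₀ (hw.χne s), one_mul] at this
  let Z : Set (ι → ℤ) := {s | s ∈ T ∧ -s ∉ T}
  have hZ : ∀ β, S.R β → β ∈ T → -β ∈ T → S.b β (S.sumZ Z) = 0 := fun β hβ h1 h2 => by
    have hn : S.nn β 1 ∈ M := mul_mem (mul_mem (h1 _) (h2 _)) (h1 _)
    refine b_sumZ_zero hβ fun v hv h3 => ⟨hTc (mon_nn hβ one_ne_zero) hn v hv h3.1, fun h4 => h3.2 ?_⟩
    have := hTc (mon_nn hβ one_ne_zero) hn _ (hβ.refl hv).ng h4
    rwa [map_neg, σ_σ hβ] at this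
  refine U_le fun s _ hs => ?_
  by_contra hsT
  have hs0 : S.b ω s < 0 := by by_contra h0; exact hsT (hT0 s hs (not_lt.mp h0))
  have hpos : 0 < S.b ω (S.sumZ Z) := b_sumZ_pos (fun s hs h1 => by
      by_contra h0; exact h1.2 (hT0 _ hs.ng (by simp only [map_neg]; omega))) hs.ng
    ⟨hT0 _ hs.ng (by simp only [map_neg]; omega), by rw [neg_neg]; exact hsT⟩
  have h7 := h.pos (fun β hβ h0 => hZ β hβ (hT0 β hβ h0.ge) (hT0 _ hβ.ng (by simp [h0]))) hpos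
    (y := -w r) (by simp only [map_neg]; omega)
  have h8 := hZ (w r) (hw.root r hr) (hTc hw hm r hr (hT0 r hr hr0))
    (hT0 _ (hw.root r hr).ng (by simp only [map_neg]; omega))
  simp only [map_neg, LinearMap.neg_apply] at h7; omega

/-- conjugation by the reflection element -/
theorem co_conj {β : ι → ℤ} (hβ : S.R β) (g : Γ ι Φ F2) (s : ι → ℤ) (y : L ι Φ F2) :
    S.co F2 (S.σ β s) ((g : Module.End F2 (L ι Φ F2)) y) =
      S.co F2 s ((((S.nn β (1 : F2))⁻¹ * g * (S.nn β (1 : F2))⁻¹⁻¹ : Γ ι Φ F2) : Module.End F2 (L ι Φ F2))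
        ((((S.nn β (1 : F2))⁻¹ : Γ ι Φ F2) : Module.End F2 (L ι Φ F2)) y)) := by
  have h := (mon_nn hβ (one_ne_zero (α := F2))).co (s := s)
    ((((S.nn β (1 : F2))⁻¹ * g : Γ ι Φ F2) : Module.End F2 (L ι Φ F2)) y)
  rw [← Module.End.mul_apply, ← Units.val_mul, mul_inv_cancel_left, one_zpow, one_mul] at h
  rw [h, ← Module.End.mul_apply, ← Units.val_mul, inv_inv, mul_inv_cancel_right]

theorem nn_inv {β : ι → ℤ} (hβ : S.R β) : (S.nn β (1 : F2))⁻¹ = S.nn β 1 := by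
  rw [nn, inv_one, mul_inv_rev, mul_inv_rev, X_inv hβ, X_inv hβ.ng, mul_assoc]

theorem Good.step {ω : ι → ℤ} (h : S.Good ω) {i : ℤ} (hi : 0 < i) {A : Subgroup (Γ ι Φ F2)}
    (hA : A ≤ S.Q ω i) (hn : ∀ g ∈ S.P ω, ∀ x ∈ A, g * x * g⁻¹ ∈ A)
    (h0 : ∀ z, S.R z → S.b ω z = i → ∃ s, S.R s ∧ S.b ω s = i ∧
      ∀ g ∈ A, ∀ v, S.co F2 s ((g : Module.End F2 (L ι Φ F2)) (hh F2 v)) = 0) : A ≤ S.Q ω (i + 1) := by
  obtain ⟨f, h1, h2, h3, h4, h5, -⟩ := bruhatG (S := S) ω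
  have key : ∀ z, S.R z → S.b ω z = i →
      ∀ g ∈ A, ∀ v, S.co F2 z ((g : Module.End F2 (L ι Φ F2)) (hh F2 v)) = 0 := fun z hz hzi => by
    obtain ⟨s, hs, hsi, hp⟩ := h0 z hz hzi
    refine h.trans hi (fun z => ∀ g ∈ A, ∀ v, S.co F2 z ((g : Module.End F2 (L ι Φ F2)) (hh F2 v)) = 0)
      (fun β s hβ hb _ _ hp g hg v => ?_) hs hsi hp hz hzi
    rw [co_conj hβ, (mon_nn hβ (one_ne_zero (α := F2))).inv.hh]
    exact hp _ (hn _ (inv_mem (nn_P hβ hb 1)) _ hg) _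
  intro g hg
  refine readout h1 (fun a h6 a' ha ha' h7 => ?_) (U_mono (fun r h6 hr => h3 r hr (by
    have : i ≤ S.b ω r := h6; omega)) (hA hg)) (fun v a ha h6 => ?_)
  · by_contra h8
    have := h2 a' a ha' ha (lt_of_lt_of_le (not_le.mp h8) h6)
    omega
  · have h7 : S.b ω a < i + 1 := not_le.mp h6
    by_cases h8 : S.b ω a = i
    · exact key a ha h8 g hg v
    · have := co_Lge (s := a) (l := S.lev ω) (by simp only [lev_apply]; omega)
        (U_Lge (l := S.lev ω) (k := 0) (j := i) hi.le (fun r h _ => h) (hA hg) (hh_Lge le_rfl v))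
      rwa [map_sub, co_hh, sub_zero] at this

theorem b_σω {ω a : ι → ℤ} (ha1 : S.b ω a = 1) (s : ι → ℤ) : S.b (S.σ a ω) s = S.b ω s - S.b a s := by
  rw [σ_apply, S.symm a ω, ha1]; simp

theorem Good.step2 {ω a : ι → ℤ} (h : S.Good ω) (ha1 : S.b ω a = 1) {i : ℤ} (hi : 0 < i)
    {A : Subgroup (Γ ι Φ F2)} (hA : A ≤ S.Q ω i) (hA' : A ≤ S.Q (S.σ a ω) i)
    (hn : ∀ g ∈ S.P ω, ∀ x ∈ A, g * x * g⁻¹ ∈ A) : A ≤ S.Q ω (i + 1) := by
  refine h.step hi hA hn fun z hz hzi => ?_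
  obtain ⟨s, hs, hsi, hp⟩ := h.exists_pos hi hz hzi (a := a) (by omega)
  refine ⟨s, hs, hsi, fun g hg v => ?_⟩
  have := co_Lge (s := s) (l := S.lev (S.σ a ω)) (by simp only [lev_apply, b_σω ha1]; omega)
    (U_Lge (l := S.lev (S.σ a ω)) (k := 0) (j := i) hi.le (fun r h _ => h) (hA' hg) (hh_Lge le_rfl v))
  rwa [map_sub, co_hh, sub_zero] at this

theorem Good.step1 {ω a : ι → ℤ} (h : S.Good ω) (ha : S.R a) (ha1 : S.b ω a = 1)
    {A : Subgroup (Γ ι Φ F2)} (hA : A ≤ S.P ω) (hA' : A ≤ S.P (S.σ a ω))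
    (hn : ∀ g ∈ S.P ω, ∀ x ∈ A, g * x * g⁻¹ ∈ A) : A ≤ S.Q ω 2 := by
  have haa := ha.nrm
  have k1 : ∀ z, S.R z → S.b ω z = 1 → ∀ g ∈ A, ∀ s, S.R s → S.b ω s = 1 → s ≠ z →
      S.co F2 z ((g : Module.End F2 (L ι Φ F2)) (S.e F2 s)) = 0 := fun z hz hzi => by
    refine h.trans one_pos (fun z => ∀ g ∈ A, ∀ s, S.R s → S.b ω s = 1 → s ≠ z →
      S.co F2 z ((g : Module.End F2 (L ι Φ F2)) (S.e F2 s)) = 0)
      (fun β z hβ hb _ _ hp g hg s hs hs1 hsz => ?_) ha ha1 (fun g hg s hs hs1 hsa => ?_) hz hzi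
    · rw [co_conj hβ]
      nth_rewrite 3 [nn_inv hβ]
      rw [(mon_nn hβ (one_ne_zero (α := F2))).he s hs, one_zpow, one_smul]
      refine hp _ (hn _ (inv_mem (nn_P hβ hb 1)) _ hg) _ (hβ.refl hs) ?_ ?_
      · rw [σ_apply, map_sub, map_smul, hb, hs1]; simp
      · intro h1; exact hsz (by rw [← h1, σ_σ hβ])
    · have h1 := ha.le hs
      have h2 : S.b a s ≠ 2 := fun h2 => hsa (ha.eq_of hs h2)
      exact co_Lge (l := S.lev (S.σ a ω)) (k := 0) (by simp only [lev_apply, b_σω ha1]; omega)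
        ((hA' hg).2 0 _ (e_Lge hs (by simp only [lev_apply, b_σω ha1]; omega)))
  have k2 : ∀ z, S.R z → S.b ω z = 1 → ∀ g ∈ A, ∀ v r, S.b ω r = 0 → S.b z r = 1 →
      S.co F2 r ((g : Module.End F2 (L ι Φ F2)) (hh F2 v)) = 0 := fun z hz hzi => by
    refine h.trans one_pos (fun z => ∀ g ∈ A, ∀ v r, S.b ω r = 0 → S.b z r = 1 →
      S.co F2 r ((g : Module.End F2 (L ι Φ F2)) (hh F2 v)) = 0)
      (fun β z hβ hb _ _ hp g hg v r hr0 hr1 => ?_) ha ha1 (fun g hg v r hr0 hr1 => ?_) hz hzi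
    · rw [← σ_σ hβ r, co_conj hβ, (mon_nn hβ (one_ne_zero (α := F2))).inv.hh]
      refine hp _ (hn _ (inv_mem (nn_P hβ hb 1)) _ hg) _ _ ?_ ?_
      · rw [σ_apply, map_sub, map_smul, hb, hr0]; simp
      · rw [← b_σ' hβ, hr1]
    · exact co_Lge (l := S.lev (S.σ a ω)) (k := 0) (by simp only [lev_apply, b_σω ha1]; omega)
        ((hA' hg).2 0 _ (hh_Lge le_rfl v))
  have k3 : ∀ r, S.R r → S.b ω r = 0 → ∀ g ∈ A, ∀ v,
      S.co F2 r ((g : Module.End F2 (L ι Φ F2)) (hh F2 v)) = 0 := fun r hr hr0 g hg v => by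
    obtain ⟨s, hs, hs1, hsr⟩ : ∃ s, S.R s ∧ S.b ω s = 1 ∧ S.b s r ≠ 0 := by
      by_contra hn; push Not at hn; exact hr.ne_zero (h.span1 r hn)
    have h1 := hs.ge hr; have h2 := hs.le hr
    have h3 : S.b s r ≠ 2 := fun h3 => by have := hs.eq_of hr h3; subst this; omega
    have h4 : S.b s r ≠ -2 := fun h3 => by have := hs.eq_neg hr h3; subst this; simp at hr0; omega
    rcases (by omega : S.b s r = 1 ∨ S.b s r = -1) with h5 | h5
    · exact k2 s hs hs1 g hg v r hr0 h5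
    · exact k2 (s + r) (hs.ad hr h5) (by simp [hs1, hr0]) g hg v r hr0 (by simp [h5, hr.nrm])
  have hQ : A ≤ S.Q ω 1 := by
    obtain ⟨f, h1, h2, h3, h4, h5, h6⟩ := bruhatG (S := S) ω
    intro g hg
    obtain ⟨u1, a1, m, a2, u2, a3, rfl⟩ := h6 g (hA hg).1
    have hm : m ∈ S.P ω := by
      have := mul_mem (mul_mem (inv_mem (h5 a1)) (hA hg)) (inv_mem (h5 a3))
      simpa [mul_assoc] using this
    obtain ⟨w, χ, hw⟩ := isN.mon m a2
    have hg' : m * (u2 * u1) ∈ A := by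
      have := hn _ (inv_mem (h5 a1)) _ hg
      simpa [mul_assoc] using this
    have hu : u2 * u1 ∈ S.Q ω 1 := by
      refine readout h1 (fun a h6 a' ha ha' h7 => ?_) (mul_mem a3 a1) (fun v c hc h6 => ?_)
      · by_contra h8
        have := h2 a' a ha' ha (lt_of_lt_of_le (not_le.mp h8) h6)
        omega
      · have h7 : S.b ω c < 1 := not_le.mp h6
        by_cases h8 : S.b ω c = 0
        · have := k3 (w c) (hw.root c hc) (by rw [hw.lev_of_P hm hc, h8]) _ hg' v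
          rw [Units.val_mul, Module.End.mul_apply, hw.co] at this
          exact (mul_eq_zero.mp this).resolve_left (hw.χne c)
        · exact co_Lge (l := S.lev ω) (k := 0) (by simp only [lev_apply]; omega)
            ((h5 (mul_mem a3 a1)).2 0 _ (hh_Lge le_rfl v))
    have hw1 : ∀ s, S.R s → S.b ω s = 1 → w s = s := fun s hs hs1 => by
      by_contra hne
      have := k1 (w s) (hw.root s hs) (by rw [hw.lev_of_P hm hs, hs1]) _ hg' s hs hs1 (Ne.symm hne)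
      rw [Units.val_mul, Module.End.mul_apply, hw.co] at this
      have h7 := co_Lge (s := s) (l := S.lev ω) (by simp only [lev_apply]; omega)
        (U_Lge (l := S.lev ω) (k := 1) (j := 1) zero_le_one (fun r h _ => h) hu (e_Lge hs hs1.ge))
      rw [map_sub, co_e_self hs, sub_eq_zero] at h7
      rw [h7, mul_one] at this
      exact hw.χne s this
    have hm1 : m = 1 := hw.eq Mon.one (fun v => by
      have := h.span1 (w v - v) fun s hs hs1 => by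
        rw [map_sub, ← hw.iso s v, hw1 s hs hs1, sub_self]
      exact sub_eq_zero.mp this) (fun a _ => by
        have := hw.χne a
        revert this; generalize χ a = c; revert c; decide)
    have := Q_conj le_rfl (h5 a1) hu
    rw [hm1]
    simpa [mul_assoc] using this
  exact h.step one_pos hQ hn fun z _ _ => ⟨a, ha, ha1, fun g hg v =>
    co_Lge (l := S.lev (S.σ a ω)) (k := 0) (by simp only [lev_apply, b_σω ha1]; omega)
      ((hA' hg).2 0 _ (hh_Lge le_rfl v))⟩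

theorem Q_le_Q {ω a : ι → ℤ} (ha : S.R a) (ha1 : S.b ω a = 1) {k : ℤ} (hk : 1 ≤ k) :
    S.Q ω (k + 1) ≤ S.Q (S.σ a ω) k := U_mono fun r h hr => by
  have h1 : k + 1 ≤ S.b ω r := h
  have h2 := ha.le hr
  have h3 : S.b a r ≠ 2 := fun h3 => by have := ha.eq_of hr h3; subst this; omega
  simp only [Set.mem_setOf_eq, b_σω ha1]; omega

theorem Q_anti {ω : ι → ℤ} {k k' : ℤ} (h : k ≤ k') : S.Q ω k' ≤ S.Q ω k :=
  U_mono fun _ h1 _ => h.trans h1

theorem Q_le_P {ω : ι → ℤ} {k : ℤ} (h : 0 ≤ k) : S.Q ω k ≤ S.P ω := U_le_P fun _ h1 _ => h.trans h1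

theorem P_conj {ω a : ι → ℤ} (ha : S.R a) {g : Γ ι Φ F2} (hg : g ∈ S.P ω) :
    S.nn a 1 * g * (S.nn a 1)⁻¹ ∈ S.P (S.σ a ω) := by
  refine ⟨mul_mem (mul_mem (nn_G ha 1) hg.1) (inv_mem (nn_G ha 1)), fun k y hy => ?_⟩
  have hm := mon_nn ha (one_ne_zero (α := F2))
  rw [nn_inv ha, Units.val_mul, Units.val_mul, Module.End.mul_apply, Module.End.mul_apply]
  exact hm.Lge (fun s _ => b_σ ha _ _) k (hg.2 k _ (hm.Lge (fun s _ => (b_σ' ha _ _).symm) k hy))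

end RS

end Cfsg.Agent.H4.Sl
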