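import Cfsg.Agent.H4.Sl4

set_option autoImplicit false
set_option linter.unusedSectionVars false

/-! Iterated cores for a maximal parabolic subgroup; the root system E8. -/

namespace Cfsg.Agent.H4.Sl

def core {G : Type*} [Group G] (M Y : Subgroup G) : Subgroup G := ((Y.subgroupOf M).normalCore.map M.subtype)

theorem mem_core {G : Type*} [Group G] {M Y : Subgroup G} {x : G} :
    x ∈ core M Y ↔ x ∈ M ∧ ∀ m ∈ M, m * x * m⁻¹ ∈ Y := by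
  constructor
  · rintro ⟨⟨y, hy⟩, h, rfl⟩
    exact ⟨hy, fun m hm => h ⟨m, hm⟩⟩
  · rintro ⟨h1, h2⟩
    exact ⟨⟨x, h1⟩, fun m => h2 m m.2, rfl⟩

def AB {G : Type*} [Group G] (M₁ M₂ : Subgroup G) : ℕ → Subgroup G × Subgroup G
  | 0 => (M₁, M₂)
  | i + 1 => (core M₁ ((AB M₁ M₂ i).1 ⊓ (AB M₁ M₂ i).2), core M₂ ((AB M₁ M₂ i).1 ⊓ (AB M₁ M₂ i).2))

namespace RS

variable {ι Φ : Type} [Fintype ι] [DecidableEq ι] [Fintype Φ] [DecidableEq Φ] {S : RS ι Φ}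

theorem core_facts (ω : ι → ℤ) (Y : Subgroup S.G) :
    (core ((S.P ω).subgroupOf S.G) Y).map S.G.subtype ≤ Y.map S.G.subtype ∧
    ∀ g ∈ S.P ω, ∀ x ∈ (core ((S.P ω).subgroupOf S.G) Y).map S.G.subtype,
      g * x * g⁻¹ ∈ (core ((S.P ω).subgroupOf S.G) Y).map S.G.subtype := by
  refine ⟨Subgroup.map_mono fun x hx => by simpa using (mem_core.mp hx).2 1 (one_mem _), ?_⟩
  rintro g hg _ ⟨x, hx, rfl⟩
  obtain ⟨h1, h2⟩ := mem_core.mp hx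
  have hg' : (⟨g, hg.1⟩ : S.G) ∈ (S.P ω).subgroupOf S.G := hg
  refine ⟨⟨g, hg.1⟩ * x * ⟨g, hg.1⟩⁻¹, mem_core.mpr ⟨mul_mem (mul_mem hg' h1) (inv_mem hg'), fun m hm => ?_⟩, rfl⟩
  have := h2 _ (mul_mem hm hg')
  simpa [mul_assoc] using this

theorem le_core (ω : ι → ℤ) {Y : Subgroup S.G} {k : ℤ} (hk : 1 ≤ k) (h : (S.Q ω k).subgroupOf S.G ≤ Y) :
    (S.Q ω k).subgroupOf S.G ≤ core ((S.P ω).subgroupOf S.G) Y := fun _ hx =>
  mem_core.mpr ⟨Q_le_P (by omega) hx, fun _ hm => h (Q_conj hk hm hx)⟩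

theorem main {ω a θ : ι → ℤ} (h : S.Good ω) (ha : S.R a) (ha1 : S.b ω a = 1) (hθ : S.R θ) (hθ6 : S.b ω θ = 6)
    (h7 : ∀ r, S.R r → S.b ω r < 7) :
    ∃ (G : Type) (_ : Group G) (_ : Finite G) (M₁ M₂ : Subgroup G) (g : G) (A B : ℕ → Subgroup G),
      IsCoatom M₁ ∧ M₂ = M₁.map (MulAut.conj g).toMonoidHom ∧ M₁ ≠ M₂ ∧ M₁.normalCore = ⊥ ∧ A 0 = M₁ ∧ B 0 = M₂ ∧
      (∀ i, A (i + 1) = ((A i ⊓ B i).subgroupOf M₁).normalCore.map M₁.subtype) ∧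
      (∀ i, B (i + 1) = ((A i ⊓ B i).subgroupOf M₂).normalCore.map M₂.subtype) ∧ A 6 = ⊥ ∧ A 5 ≠ ⊥ := by
  have haa := ha.nrm
  set ω' := S.σ a ω with hω'
  have h' : S.Good ω' := h.refl ha
  have ha1' : S.b ω' (-a) = 1 := by rw [hω', b_σω ha1]; simp [ha1, haa]
  have hωω : S.σ (-a) ω' = ω := by rw [σ_neg, hω', σ_σ ha]
  set M₁ := (S.P ω).subgroupOf S.G with hM₁
  set M₂ := (S.P ω').subgroupOf S.G with hM₂
  have hmap : ∀ X : Subgroup (Γ ι Φ F2), (X.subgroupOf S.G).map S.G.subtype ≤ X := by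
    rintro X _ ⟨x, hx, rfl⟩; exact hx
  have up : ∀ i : ℕ, (AB M₁ M₂ (i + 1)).1.map S.G.subtype ≤ S.Q ω (i + 2) ∧
      (AB M₁ M₂ (i + 1)).2.map S.G.subtype ≤ S.Q ω' (i + 2) := by
    intro i
    induction i with
    | zero =>
      obtain ⟨a1, a2⟩ := core_facts (S := S) ω (M₁ ⊓ M₂)
      obtain ⟨b1, b2⟩ := core_facts (S := S) ω' (M₁ ⊓ M₂)
      have c1 := (Subgroup.map_mono (f := S.G.subtype) (inf_le_left : M₁ ⊓ M₂ ≤ _)).trans (hmap _)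
      have c2 := (Subgroup.map_mono (f := S.G.subtype) (inf_le_right : M₁ ⊓ M₂ ≤ _)).trans (hmap _)
      exact ⟨h.step1 ha ha1 (a1.trans c1) (a1.trans c2) a2,
        h'.step1 ha.ng ha1' (b1.trans c2) (by rw [hωω]; exact b1.trans c1) b2⟩
    | succ i ih =>
      obtain ⟨a1, a2⟩ := core_facts (S := S) ω ((AB M₁ M₂ (i + 1)).1 ⊓ (AB M₁ M₂ (i + 1)).2)
      obtain ⟨b1, b2⟩ := core_facts (S := S) ω' ((AB M₁ M₂ (i + 1)).1 ⊓ (AB M₁ M₂ (i + 1)).2)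
      have c1 := (Subgroup.map_mono (f := S.G.subtype)
        (inf_le_left : (AB M₁ M₂ (i + 1)).1 ⊓ (AB M₁ M₂ (i + 1)).2 ≤ _)).trans ih.1
      have c2 := (Subgroup.map_mono (f := S.G.subtype)
        (inf_le_right : (AB M₁ M₂ (i + 1)).1 ⊓ (AB M₁ M₂ (i + 1)).2 ≤ _)).trans ih.2
      have e : ((i + 1 : ℕ) : ℤ) + 2 = (i : ℤ) + 2 + 1 := by push_cast; ring
      rw [e]
      exact ⟨h.step2 ha1 (by omega) (a1.trans c1) (a1.trans c2) a2,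
        h'.step2 ha1' (by omega) (b1.trans c2) (by rw [hωω]; exact b1.trans c1) b2⟩
  have q1 : ∀ k, 1 ≤ k → S.Q ω (k + 1) ≤ S.Q ω' k := fun k hk => Q_le_Q ha ha1 hk
  have q2 : ∀ k, 1 ≤ k → S.Q ω' (k + 1) ≤ S.Q ω k := fun k hk => by
    have := Q_le_Q ha.ng ha1' hk; rwa [hωω] at this
  have low : ∀ i : ℕ, (S.Q ω (i + 1)).subgroupOf S.G ≤ (AB M₁ M₂ i).1 ∧
      (S.Q ω' (i + 1)).subgroupOf S.G ≤ (AB M₁ M₂ i).2 := by
    intro i
    induction i with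
    | zero => exact ⟨fun x hx => Q_le_P (by simp) hx, fun x hx => Q_le_P (by simp) hx⟩
    | succ i ih =>
      have e : ((i + 1 : ℕ) : ℤ) + 1 = (i : ℤ) + 1 + 1 := by push_cast; ring
      rw [e]
      exact ⟨le_core ω (by omega) (le_inf (fun x hx => ih.1 (Q_anti (by omega) hx))
          (fun x hx => ih.2 (q1 _ (by omega) hx))),
        le_core ω' (by omega) (le_inf (fun x hx => ih.1 (q2 _ (by omega) hx))
          (fun x hx => ih.2 (Q_anti (by omega) hx)))⟩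
  have h6 : (AB M₁ M₂ 6).1 = ⊥ := by
    rw [eq_bot_iff]
    intro x hx
    have h1 := (up 5).1 ⟨x, hx, rfl⟩
    have h2 : S.Q ω ((5 : ℕ) + 2) ≤ ⊥ := U_le fun r h3 hr _ => by
      have := h7 r hr
      have h4 : ((5 : ℕ) : ℤ) + 2 ≤ S.b ω r := h3
      omega
    exact Subtype.ext (h2 h1)
  let n : S.G := ⟨S.nn a 1, nn_G ha 1⟩
  have hM : M₂ = M₁.map (MulAut.conj n).toMonoidHom := by
    ext x
    constructor
    · intro hx
      refine ⟨n⁻¹ * x * n, ?_, by simp [mul_assoc]⟩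
      have := P_conj ha hx
      rw [hω', σ_σ ha, nn_inv ha] at this
      show ((S.nn a (1 : F2))⁻¹ * (x : Γ ι Φ F2) * S.nn a (1 : F2)) ∈ S.P ω
      rwa [nn_inv ha]
    · rintro ⟨y, hy, rfl⟩
      exact P_conj ha hy
  have hXG : ∀ {r}, S.R r → S.X F2 r 1 ∈ S.G := fun hr => X_mem (Set.mem_univ _) hr _
  refine ⟨S.G, inferInstance, inferInstance, M₁, M₂, n, fun i => (AB M₁ M₂ i).1, fun i => (AB M₁ M₂ i).2,
    ⟨fun e => ?_, fun M hM => ?_⟩, hM, fun e => ?_, ?_, rfl, rfl, fun _ => rfl, fun _ => rfl, h6, fun e => ?_⟩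
  · have : (⟨_, hXG ha.ng⟩ : S.G) ∈ M₁ := e ▸ Subgroup.mem_top _
    exact X_not_P ha.ng (by simp [ha1]) this
  · obtain ⟨g, hg, hg'⟩ := SetLike.exists_of_lt hM
    have := h.maximal ha ha1 (M := M.map S.G.subtype) (fun x hx => ⟨⟨x, hx.1⟩, hM.le hx, rfl⟩)
      ⟨g, hg, rfl⟩ g.2 hg'
    rw [eq_top_iff]
    intro x _
    obtain ⟨y, hy, e⟩ := this x.2
    rwa [← Subtype.ext e]
  · have : (⟨_, hXG ha⟩ : S.G) ∈ M₁ := X_P ha (by omega) 1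
    rw [e] at this
    exact X_not_P ha (by simp only [map_neg] at ha1'; omega) this
  · have : ∀ i, M₁.normalCore ≤ (AB M₁ M₂ i).1 ⊓ (AB M₁ M₂ i).2 := by
      have hc1 : M₁.normalCore ≤ M₁ := Subgroup.normalCore_le _
      have hc2 : M₁.normalCore ≤ M₂ := fun x hx => by
        rw [hM]
        exact ⟨n⁻¹ * x * n⁻¹⁻¹, hx n⁻¹, by simp [mul_assoc]⟩
      intro i
      induction i with
      | zero => exact le_inf hc1 hc2
      | succ i ih =>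
        exact le_inf (fun x hx => mem_core.mpr ⟨hc1 hx, fun m _ => ih (M₁.normalCore_normal.conj_mem x hx m)⟩)
          (fun x hx => mem_core.mpr ⟨hc2 hx, fun m _ => ih (M₁.normalCore_normal.conj_mem x hx m)⟩)
    exact eq_bot_iff.mpr (((this 6).trans inf_le_left).trans h6.le)
  · have h1 : (⟨_, hXG hθ⟩ : S.G) ∈ (AB M₁ M₂ 5).1 :=
      (low 5).1 (X_mem (T := {v | ((5 : ℕ) : ℤ) + 1 ≤ S.b ω v}) (by simp [hθ6]) hθ 1)
    have e' : (AB M₁ M₂ 5).1 = ⊥ := e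
    rw [e', Subgroup.mem_bot] at h1
    have h2 : S.X F2 θ 1 = 1 := congrArg Subtype.val h1
    exact X_not_P (ω := -ω) hθ (by simp [hθ6]) (h2 ▸ one_mem _)

end RS

def cart8 : Matrix (Fin 8) (Fin 8) ℤ :=
  !![2,0,-1,0,0,0,0,0; 0,2,0,-1,0,0,0,0; -1,0,2,-1,0,0,0,0; 0,-1,-1,2,-1,0,0,0;
     0,0,0,-1,2,-1,0,0; 0,0,0,0,-1,2,-1,0; 0,0,0,0,0,-1,2,-1; 0,0,0,0,0,0,-1,2]

noncomputable def b8 : (Fin 8 → ℤ) →ₗ[ℤ] (Fin 8 → ℤ) →ₗ[ℤ] ℤ := Matrix.toLinearMap₂' ℤ cart8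

theorem b8_apply (v w : Fin 8 → ℤ) : b8 v w =
    v 0 * (2 * w 0 - w 2) + v 1 * (2 * w 1 - w 3) + v 2 * (2 * w 2 - w 0 - w 3) +
    v 3 * (2 * w 3 - w 1 - w 2 - w 4) + v 4 * (2 * w 4 - w 3 - w 5) + v 5 * (2 * w 5 - w 4 - w 6) +
    v 6 * (2 * w 6 - w 5 - w 7) + v 7 * (2 * w 7 - w 6) := by
  simp [b8, Matrix.toLinearMap₂'_apply, Fin.sum_univ_succ, cart8]; ring

theorem b8_sos (v : Fin 8 → ℤ) : 60 * b8 v v = 30 * (2 * v 0 - v 2) ^ 2 + 10 * (3 * v 2 - 2 * v 3) ^ 2 +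
    30 * (2 * v 1 - v 3) ^ 2 + 30 * (2 * v 7 - v 6) ^ 2 + 10 * (3 * v 6 - 2 * v 5) ^ 2 +
    5 * (4 * v 5 - 3 * v 4) ^ 2 + 3 * (5 * v 4 - 4 * v 3) ^ 2 + 2 * (v 3) ^ 2 := by
  rw [b8_apply]; ring

theorem sq_bd {x : ℤ} (h : x ^ 2 ≤ 60) : -7 ≤ x ∧ x ≤ 7 := by constructor <;> nlinarith

theorem b8_bd (v : Fin 8 → ℤ) (h : b8 v v = 2) : (∀ i, -20 ≤ v i ∧ v i ≤ 20) ∧ v 3 < 7 := by
  have e := b8_sos v
  rw [h] at e
  have h0 := sq_nonneg (2 * v 0 - v 2)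
  have h1 := sq_nonneg (3 * v 2 - 2 * v 3)
  have h2 := sq_nonneg (2 * v 1 - v 3)
  have h3 := sq_nonneg (2 * v 7 - v 6)
  have h4 := sq_nonneg (3 * v 6 - 2 * v 5)
  have h5 := sq_nonneg (4 * v 5 - 3 * v 4)
  have h6 := sq_nonneg (5 * v 4 - 4 * v 3)
  have h7 := sq_nonneg (v 3)
  have g0 := sq_bd (x := 2 * v 0 - v 2) (by omega)
  have g1 := sq_bd (x := 3 * v 2 - 2 * v 3) (by omega)
  have g2 := sq_bd (x := 2 * v 1 - v 3) (by omega)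
  have g3 := sq_bd (x := 2 * v 7 - v 6) (by omega)
  have g4 := sq_bd (x := 3 * v 6 - 2 * v 5) (by omega)
  have g5 := sq_bd (x := 4 * v 5 - 3 * v 4) (by omega)
  have g6 := sq_bd (x := 5 * v 4 - 4 * v 3) (by omega)
  have g7 := sq_bd (x := v 3) (by omega)
  refine ⟨fun i => by fin_cases i <;> simp <;> omega, ?_⟩
  by_contra h8
  have h9 : v 3 = 7 := by omega
  rw [h9] at e h1 h2 h6
  have : 1 ≤ (2 * v 1 - 7) ^ 2 := by
    have : 2 * v 1 - 7 ≠ 0 := by omega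
    have := sq_pos_of_ne_zero this
    omega
  omega

abbrev Φ8 : Type := {v : Fin 8 → ℤ // b8 v v = 2}

instance finΦ8 : Finite Φ8 := by
  have : {v : Fin 8 → ℤ | b8 v v = 2}.Finite :=
    (Set.Finite.pi (fun _ : Fin 8 => Set.finite_Icc (-20 : ℤ) 20)).subset fun v hv i _ => (b8_bd v hv).1 i
  exact this

noncomputable instance ftΦ8 : Fintype Φ8 := Fintype.ofFinite _

noncomputable def E8 : RS (Fin 8) Φ8 where
  b := b8
  ρ := Subtype.val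
  inj := Subtype.val_injective
  symm v w := by rw [b8_apply, b8_apply]; ring
  pos v hv := by
    by_contra h
    have e := b8_sos v
    have h0 := sq_nonneg (2 * v 0 - v 2)
    have h1 := sq_nonneg (3 * v 2 - 2 * v 3)
    have h2 := sq_nonneg (2 * v 1 - v 3)
    have h3 := sq_nonneg (2 * v 7 - v 6)
    have h4 := sq_nonneg (3 * v 6 - 2 * v 5)
    have h5 := sq_nonneg (4 * v 5 - 3 * v 4)
    have h6 := sq_nonneg (5 * v 4 - 4 * v 3)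
    have h7 := sq_nonneg (v 3)
    have g0 := pow_eq_zero_iff (two_ne_zero) |>.mp (show (2 * v 0 - v 2) ^ 2 = 0 by omega)
    have g1 := pow_eq_zero_iff (two_ne_zero) |>.mp (show (3 * v 2 - 2 * v 3) ^ 2 = 0 by omega)
    have g2 := pow_eq_zero_iff (two_ne_zero) |>.mp (show (2 * v 1 - v 3) ^ 2 = 0 by omega)
    have g3 := pow_eq_zero_iff (two_ne_zero) |>.mp (show (2 * v 7 - v 6) ^ 2 = 0 by omega)
    have g4 := pow_eq_zero_iff (two_ne_zero) |>.mp (show (3 * v 6 - 2 * v 5) ^ 2 = 0 by omega)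
    have g5 := pow_eq_zero_iff (two_ne_zero) |>.mp (show (4 * v 5 - 3 * v 4) ^ 2 = 0 by omega)
    have g6 := pow_eq_zero_iff (two_ne_zero) |>.mp (show (5 * v 4 - 4 * v 3) ^ 2 = 0 by omega)
    have g7 := pow_eq_zero_iff (two_ne_zero) |>.mp (show (v 3) ^ 2 = 0 by omega)
    exact hv (funext fun i => by fin_cases i <;> simp <;> omega)
  norm r := r.2
  neg r := ⟨⟨-r.1, by simpa using r.2⟩, rfl⟩
  add r s h := ⟨⟨r.1 + s.1, by
    have h2 : b8 s.1 r.1 = b8 r.1 s.1 := by rw [b8_apply, b8_apply]; ring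
    simp only [map_add, LinearMap.add_apply, r.2, s.2, h2, h]; rfl⟩, rfl⟩
  odd r := by
    by_contra h
    push Not at h
    have g : ∀ i, Even (b8 (Pi.single i 1) r.1) := fun i => Int.not_odd_iff_even.mp (h _)
    have g0 := g 0; have g1 := g 1; have g2 := g 2; have g3 := g 3
    have g4 := g 4; have g5 := g 5; have g6 := g 6; have g7 := g 7
    simp [b8_apply, Int.even_iff] at g0 g1 g2 g3 g4 g5 g6 g7
    have e : r.1 = (2 : ℤ) • fun i => r.1 i / 2 := funext fun i => by fin_cases i <;> simp <;> omega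
    have h2 := r.2
    rw [e] at h2
    simp only [map_smul, LinearMap.smul_apply, smul_eq_mul] at h2
    omega

theorem E8_R {v : Fin 8 → ℤ} (h : b8 v v = 2) : E8.R v := ⟨⟨v, h⟩, rfl⟩

def ω4 : Fin 8 → ℤ := ![10, 15, 20, 30, 24, 18, 12, 6]

theorem b_ω4 (v : Fin 8 → ℤ) : E8.b ω4 v = v 3 := by
  show b8 ω4 v = _
  rw [b8_apply]; simp [ω4]; ring

theorem good8 : E8.Good ω4 := by
  refine ⟨fun v hv => ?_, fun v hv => ?_⟩
  · have g : ∀ s : Fin 8 → ℤ, b8 s s = 2 → s 3 = 1 → b8 s v = 0 := fun s h1 h2 =>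
      hv s (E8_R h1) (by rw [b_ω4, h2])
    have g0 := g ![0,0,0,1,0,0,0,0] (by simp [b8_apply]) rfl
    have g1 := g ![0,1,0,1,0,0,0,0] (by simp [b8_apply]) rfl
    have g2 := g ![0,0,1,1,0,0,0,0] (by simp [b8_apply]) rfl
    have g3 := g ![1,0,1,1,0,0,0,0] (by simp [b8_apply]) rfl
    have g4 := g ![0,0,0,1,1,0,0,0] (by simp [b8_apply]) rfl
    have g5 := g ![0,0,0,1,1,1,0,0] (by simp [b8_apply]) rfl
    have g6 := g ![0,0,0,1,1,1,1,0] (by simp [b8_apply]) rfl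
    have g7 := g ![0,0,0,1,1,1,1,1] (by simp [b8_apply]) rfl
    simp [b8_apply] at g0 g1 g2 g3 g4 g5 g6 g7
    exact funext fun i => by fin_cases i <;> simp <;> omega
  · have g : ∀ s : Fin 8 → ℤ, b8 s s = 2 → s 3 = 0 → b8 s v = 0 := fun s h1 h2 =>
      hv s (E8_R h1) (by rw [b_ω4, h2])
    have g0 := g ![1,0,0,0,0,0,0,0] (by simp [b8_apply]) rfl
    have g1 := g ![0,1,0,0,0,0,0,0] (by simp [b8_apply]) rfl
    have g2 := g ![0,0,1,0,0,0,0,0] (by simp [b8_apply]) rfl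
    have g4 := g ![0,0,0,0,1,0,0,0] (by simp [b8_apply]) rfl
    have g5 := g ![0,0,0,0,0,1,0,0] (by simp [b8_apply]) rfl
    have g6 := g ![0,0,0,0,0,0,1,0] (by simp [b8_apply]) rfl
    have g7 := g ![0,0,0,0,0,0,0,1] (by simp [b8_apply]) rfl
    simp [b8_apply] at g0 g1 g2 g4 g5 g6 g7
    exact ⟨30, v 3, by norm_num, funext fun i => by fin_cases i <;> simp [ω4] <;> omega⟩

theorem result8 :
    ∃ (G : Type) (_ : Group G) (_ : Finite G) (M₁ M₂ : Subgroup G) (g : G) (A B : ℕ → Subgroup G),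
      IsCoatom M₁ ∧ M₂ = M₁.map (MulAut.conj g).toMonoidHom ∧ M₁ ≠ M₂ ∧ M₁.normalCore = ⊥ ∧ A 0 = M₁ ∧ B 0 = M₂ ∧
      (∀ i, A (i + 1) = ((A i ⊓ B i).subgroupOf M₁).normalCore.map M₁.subtype) ∧
      (∀ i, B (i + 1) = ((A i ⊓ B i).subgroupOf M₂).normalCore.map M₂.subtype) ∧ A 6 = ⊥ ∧ A 5 ≠ ⊥ :=
  RS.main good8 (a := ![0,0,0,1,0,0,0,0]) (θ := ![2,3,4,6,5,4,3,2]) (E8_R (by simp [b8_apply]))
    (by rw [b_ω4]; rfl) (E8_R (by simp [b8_apply])) (by rw [b_ω4]; rfl)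
    (fun r hr => by rw [b_ω4]; exact (b8_bd r hr.nrm).2)

end Cfsg.Agent.H4.Sl
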